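import Cfsg.Agent.Lib.Solv.ClassLower.Basic
import Cfsg.Agent.Lib.Solv.ClassCount.PermOrder
import Cfsg.Agent.Lib.Solv.ClassCount.SympOrder

/-!
# Arithmetic of the lower bound for the class number
-/

set_option autoImplicit false

namespace Cfsg.Lib.Solv.ClassLower

open Cfsg.Lib.Solv.ClassCount

/-- The bound from the mean inequality. -/
theorem bound_of_amgm {k o a q s P p Q S : ℕ} (hk : a * a * (3 * q - 2) ≤ k * (a * (q * s)))
    (ho : P ≤ o * (a * (q * s))) (ha : 0 < a) (hq : 0 < q) (hs : 0 < s) (hqQ : q ≤ Q) (hsS : s ≤ S)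
    (h : 2401 * (p * p) * (Q * Q) * (S * S) ≤ 14400 * (3 * Q - 2) * P) : 49 * p ≤ 60 * (k + o) := by
  have h1 := amgm le_rfl hk ho ha
  set X := k + o
  obtain ⟨u, rfl⟩ : ∃ u, q = u + 1 := ⟨q - 1, by omega⟩
  obtain ⟨w, rfl⟩ : ∃ w, Q = u + 1 + w := ⟨Q - (u + 1), by omega⟩
  rw [show 3 * (u + 1) - 2 = 3 * u + 1 by omega] at h1
  rw [show 3 * (u + 1 + w) - 2 = 3 * (u + w) + 1 by omega] at h
  have hdec : (3 * (u + w) + 1) * ((u + 1) * (u + 1)) ≤ (3 * u + 1) * ((u + 1 + w) * (u + 1 + w)) := by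
    ring_nf
    nlinarith [Nat.zero_le (u * w), Nat.zero_le (u * u * w), Nat.zero_le (u * w * w), Nat.zero_le (w * w)]
  have h2 : 4 * (3 * (u + w) + 1) * P ≤ X * X * ((u + 1 + w) * (u + 1 + w)) * (S * S) := by
    refine Nat.le_of_mul_le_mul_left (?_ : (u + 1) * (u + 1) * _ ≤ (u + 1) * (u + 1) * _) (by positivity)
    calc (u + 1) * (u + 1) * (4 * (3 * (u + w) + 1) * P)
        = 4 * ((3 * (u + w) + 1) * ((u + 1) * (u + 1))) * P := by ring
      _ ≤ 4 * ((3 * u + 1) * ((u + 1 + w) * (u + 1 + w))) * P :=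
          Nat.mul_le_mul_right _ (Nat.mul_le_mul_left _ hdec)
      _ = 4 * (3 * u + 1) * P * ((u + 1 + w) * (u + 1 + w)) := by ring
      _ ≤ X * X * ((u + 1) * s * ((u + 1) * s)) * ((u + 1 + w) * (u + 1 + w)) := Nat.mul_le_mul_right _ h1
      _ ≤ X * X * ((u + 1) * S * ((u + 1) * S)) * ((u + 1 + w) * (u + 1 + w)) := by gcongr
      _ = _ := by ring
  refine Nat.mul_self_le_mul_self_iff.1 (Nat.le_of_mul_le_mul_right
    (?_ : _ * ((u + 1 + w) * (u + 1 + w) * (S * S)) ≤ _ * ((u + 1 + w) * (u + 1 + w) * (S * S))) (by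
      have : 0 < S := by omega
      positivity))
  calc 49 * p * (49 * p) * ((u + 1 + w) * (u + 1 + w) * (S * S))
      = 2401 * (p * p) * ((u + 1 + w) * (u + 1 + w)) * (S * S) := by ring
    _ ≤ 14400 * (3 * (u + w) + 1) * P := h
    _ = 3600 * (4 * (3 * (u + w) + 1) * P) := by ring
    _ ≤ 3600 * (X * X * ((u + 1 + w) * (u + 1 + w)) * (S * S)) := Nat.mul_le_mul_left _ h2
    _ = _ := by ring

theorem sq_le_four_pow : ∀ d : ℕ, 0 < d → d * d ≤ 4 ^ (d - 1) := by
  intro d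
  induction d with
  | zero => omega
  | succ d ih =>
    intro _
    rcases Nat.eq_zero_or_pos d with rfl | hd
    · norm_num
    rw [Nat.add_sub_cancel]
    calc (d + 1) * (d + 1) ≤ 4 * (d * d) := by nlinarith
      _ ≤ 4 * 4 ^ (d - 1) := Nat.mul_le_mul_left 4 (ih hd)
      _ = 4 ^ d := by rw [← pow_succ', Nat.sub_add_cancel hd]

theorem ob_sq_le (m : ℕ) : ob m * ob m ≤ 9 ^ (m - 1) := by
  refine (Nat.mul_le_mul (ob_le m) (ob_le m)).trans (le_of_eq ?_)
  exact (mul_pow 3 3 _).symm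

/-- The case of a trivial middle part. -/
theorem trivial_middle {p m d n : ℕ} (hp : 11 ≤ p) (hm : 0 < m) (hd : 0 < d) (hn : 2 ≤ n) (hdvd : d * m ∣ n) :
    2401 * (p * p) * (1 * 1) * (ob m * d ^ m * (ob m * d ^ m)) ≤ 14400 * (3 * 1 - 2) * (p ^ n - 1) := by
  set S := ob m * d ^ m with hS
  suffices h : S * S * (p * p) + 5 ≤ 5 * p ^ n by
    have e : 2401 * (p * p) * (1 * 1) * (S * S) = 2401 * (S * S * (p * p)) := by ring
    rw [e]
    omega
  have hle : d * m ≤ n := Nat.le_of_dvd (by omega) hdvd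
  rcases Nat.lt_or_ge n 5 with h5 | h5
  · have hd4 : d ≤ 4 := le_trans (Nat.le_mul_of_pos_right d hm) (by omega)
    have hm4 : m ≤ 4 := le_trans (Nat.le_mul_of_pos_left m hd) (by omega)
    have h11 : 121 ≤ p * p := Nat.mul_le_mul hp hp
    interval_cases n
    · have : S * S ≤ 4 := by interval_cases d <;> interval_cases m <;> simp_all [ob]
      have h := Nat.mul_le_mul_right (p * p) this
      rw [sq]
      omega
    · have : S * S ≤ 36 := by interval_cases d <;> interval_cases m <;> simp_all [ob]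
      have h := Nat.mul_le_mul_right (p * p) this
      have h3 := Nat.mul_le_mul_right (p * p) hp
      rw [show p ^ 3 = p * (p * p) by ring]
      omega
    · have : S * S ≤ 576 := by interval_cases d <;> interval_cases m <;> simp_all [ob]
      have h := Nat.mul_le_mul_right (p * p) this
      have h3 := Nat.mul_le_mul_right (p * p) h11
      rw [show p ^ 4 = p * p * (p * p) by ring]
      omega
  have hS9 : S * S ≤ 9 ^ (n - 1) := by
    calc S * S = ob m * ob m * (d * d) ^ m := by rw [hS, mul_pow]; ring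
      _ ≤ 9 ^ (m - 1) * (9 ^ (d - 1)) ^ m := Nat.mul_le_mul (ob_sq_le m)
          (Nat.pow_le_pow_left ((sq_le_four_pow d hd).trans (Nat.pow_le_pow_left (by norm_num) _)) m)
      _ = 9 ^ ((m - 1) + (d - 1) * m) := by rw [← pow_mul, ← pow_add]
      _ ≤ 9 ^ (n - 1) := Nat.pow_le_pow_right (by norm_num) (by
          have : (d - 1) * m + m = d * m := by rw [← Nat.succ_mul, Nat.succ_eq_add_one, Nat.sub_add_cancel hd]
          omega)
  have hmain : ∀ n, 5 ≤ n → 9 ^ (n - 1) * (p * p) + 5 ≤ 5 * p ^ n := by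
    intro n hn
    induction n, hn using Nat.le_induction with
    | base =>
      have h11 : 1331 ≤ p * p * p := Nat.mul_le_mul (Nat.mul_le_mul hp hp) hp
      have := Nat.mul_le_mul_right (p * p) h11
      have hpp : 1 ≤ p * p := Nat.mul_pos (by omega) (by omega)
      rw [show p ^ 5 = p * p * p * (p * p) by ring, show (9 : ℕ) ^ (5 - 1) = 6561 by norm_num]
      omega
    | succ n hn ih =>
      obtain ⟨r, rfl⟩ : ∃ r, n = r + 1 := ⟨n - 1, by omega⟩
      rw [Nat.add_sub_cancel] at ih ⊢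
      calc 9 ^ (r + 1) * (p * p) + 5 ≤ 9 * (9 ^ r * (p * p) + 5) := by rw [pow_succ]; nlinarith
        _ ≤ p * (5 * p ^ (r + 1)) := Nat.mul_le_mul (by omega) ih
        _ = 5 * p ^ (r + 1 + 1) := by ring
  exact (Nat.add_le_add_right (Nat.mul_le_mul_right _ hS9) 5).trans (hmain n h5)

/-- From the small form to the bound from the mean inequality. -/
theorem middle_form {p n Q S : ℕ} (hQ : 24 ≤ Q) (h : Q * (S * S) * (p * p) + 17 ≤ 17 * p ^ n) :
    2401 * (p * p) * (Q * Q) * (S * S) ≤ 14400 * (3 * Q - 2) * (p ^ n - 1) := by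
  calc 2401 * (p * p) * (Q * Q) * (S * S) = 2401 * Q * (Q * (S * S) * (p * p)) := by ring
    _ ≤ 2401 * Q * (17 * (p ^ n - 1)) := Nat.mul_le_mul_left _ (by omega)
    _ = 40817 * Q * (p ^ n - 1) := by ring
    _ ≤ _ := Nat.mul_le_mul_right _ (by omega)

theorem middle_induction {p T D : ℕ} (h9 : 9 * T ≤ p ^ D) (h17 : T * (p * p) + 17 ≤ 17 * p ^ D) :
    ∀ m : ℕ, 0 < m → 9 ^ (m - 1) * T ^ m * (p * p) + 17 ≤ 17 * p ^ (D * m) := by
  intro m
  induction m with
  | zero => omega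
  | succ m ih =>
    intro _
    rcases Nat.eq_zero_or_pos m with rfl | hm
    · simpa using h17
    obtain ⟨r, rfl⟩ : ∃ r, m = r + 1 := ⟨m - 1, by omega⟩
    have ih := ih hm
    rw [Nat.add_sub_cancel] at ih ⊢
    set x := p ^ (D * (r + 1))
    have e : p ^ (D * (r + 1 + 1)) = p ^ D * x := by rw [← pow_add]; ring_nf
    rw [e]
    calc 9 ^ (r + 1) * T ^ (r + 1 + 1) * (p * p) + 17
        = 9 * T * (9 ^ r * T ^ (r + 1) * (p * p)) + 17 := by ring
      _ ≤ p ^ D * (17 * x - 17) + 17 := Nat.add_le_add_right (Nat.mul_le_mul h9 (by omega)) 17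
      _ ≤ p ^ D * (17 * x - 17) + 17 * p ^ D := by
          have : 1 ≤ p ^ D := Nat.pos_of_ne_zero fun h0 => by rw [h0, mul_zero] at h17; omega
          omega
      _ = _ := by
          have hx : 17 ≤ 17 * x := by
            have : 0 < x := Nat.pos_of_ne_zero fun h0 => by rw [h0, mul_zero] at ih; omega
            omega
          rw [Nat.mul_sub, Nat.mul_comm 17 (p ^ D), Nat.sub_add_cancel (Nat.mul_le_mul_left _ hx)]
          ring

theorem middle_sq (m d t : ℕ) :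
    t ^ m * (ob m * d ^ m * (ob m * d ^ m)) ≤ 9 ^ (m - 1) * (d * d * t) ^ m := by
  calc t ^ m * (ob m * d ^ m * (ob m * d ^ m)) = ob m * ob m * (d * d * t) ^ m := by
        rw [mul_pow, mul_pow]; ring
    _ ≤ _ := Nat.mul_le_mul_right _ (ob_sq_le m)

theorem pow_eight_le {a : ℕ} (h : 8 ≤ a) : (a + 1) ^ 8 ≤ 11 * a ^ 8 := by
  refine Nat.le_of_mul_le_mul_left (?_ : 8 ^ 8 * _ ≤ 8 ^ 8 * _) (by norm_num)
  calc 8 ^ 8 * (a + 1) ^ 8 = (8 * (a + 1)) ^ 8 := (mul_pow 8 (a + 1) 8).symm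
    _ ≤ (9 * a) ^ 8 := Nat.pow_le_pow_left (by omega) 8
    _ = 9 ^ 8 * a ^ 8 := mul_pow 9 a 8
    _ ≤ 8 ^ 8 * 11 * a ^ 8 := Nat.mul_le_mul_right _ (by norm_num)
    _ = _ := by ring

/-- The middle part against the power. -/
theorem middle_large {e : ℕ} (he : 4 ≤ e) : e * e * gb e ≤ 13 * 11 ^ (e - 2) := by
  rcases Nat.lt_or_ge e 8 with h | h
  · interval_cases e <;> norm_num [gb]
  have h1 : ∀ e, 8 ≤ e → e ^ 8 ≤ 13 * 11 ^ (e - 2) := by
    intro e he
    induction e, he using Nat.le_induction with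
    | base => norm_num
    | succ e he ih =>
      calc (e + 1) ^ 8 ≤ 11 * e ^ 8 := pow_eight_le he
        _ ≤ 11 * (13 * 11 ^ (e - 2)) := Nat.mul_le_mul_left _ ih
        _ = 13 * 11 ^ (e + 1 - 2) := by rw [show e + 1 - 2 = e - 2 + 1 by omega]; ring
  refine le_trans ?_ (h1 e h)
  rw [show gb e = e ^ 6 / 4 by simp [gb, show ¬ e ≤ 7 by omega]]
  calc e * e * (e ^ 6 / 4) ≤ e * e * e ^ 6 := Nat.mul_le_mul_left _ (Nat.div_le_self _ _)
    _ = _ := by ring

theorem middle_small {e : ℕ} (he : 2 ≤ e) : e * e * gb e ≤ 24 * 11 ^ (e - 2) := by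
  rcases Nat.lt_or_ge e 4 with h | h
  · interval_cases e <;> norm_num [gb]
  · exact (middle_large h).trans (Nat.mul_le_mul_right _ (by norm_num))

theorem middle_regular {d e e' : ℕ} (hd : 0 < d) (he' : 2 ≤ e') (hee : e' ≤ e)
    (hex : ¬ (d = 1 ∧ e = e' ∧ e' ≤ 3)) : d * d * (e' * e' * gb e') ≤ 13 * 11 ^ (d * e - 2) := by
  rcases eq_or_ne d 1 with rfl | hd1
  · rcases eq_or_lt_of_le hee with rfl | hlt
    · simpa using middle_large (e := e') (by simp at hex; omega)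
    calc 1 * 1 * (e' * e' * gb e') ≤ 13 * 11 * 11 ^ (e' - 2) := by
          rw [one_mul, one_mul]
          exact (middle_small he').trans (Nat.mul_le_mul_right _ (by norm_num))
      _ = 13 * 11 ^ (e' - 2 + 1) := by ring
      _ ≤ _ := Nat.mul_le_mul_left _ (Nat.pow_le_pow_right (by norm_num) (by omega))
  have h2 : 2 ≤ d := by omega
  calc d * d * (e' * e' * gb e') ≤ 4 ^ (d - 1) * (24 * 11 ^ (e' - 2)) :=
        Nat.mul_le_mul (sq_le_four_pow d hd) (middle_small he')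
    _ ≤ 13 * 121 ^ (d - 1) * 11 ^ (e' - 2) := by
        rw [← mul_assoc]
        refine Nat.mul_le_mul_right _ ?_
        calc 4 ^ (d - 1) * 24 ≤ 4 ^ (d - 1) * (13 * 30 ^ (d - 1)) := by
              refine Nat.mul_le_mul_left _ ?_
              have : 30 ≤ 30 ^ (d - 1) := le_self_pow (by norm_num) (by omega)
              omega
          _ ≤ _ := by
              rw [mul_comm 13 (30 ^ _), ← mul_assoc, ← mul_pow, mul_comm 13]
              exact Nat.mul_le_mul_right _ (Nat.pow_le_pow_left (by norm_num) _)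
    _ = 13 * 11 ^ (2 * (d - 1) + (e' - 2)) := by rw [pow_add, pow_mul]; ring
    _ ≤ _ := Nat.mul_le_mul_left _ (Nat.pow_le_pow_right (by norm_num) (by
        have h3 : d * e' ≤ d * e := Nat.mul_le_mul_left _ hee
        have h4 : (d - 1) * 2 ≤ (d - 1) * e' := Nat.mul_le_mul_left _ he'
        have h5 : (d - 1) * e' + e' = d * e' := by rw [← Nat.succ_mul, Nat.succ_eq_add_one, Nat.sub_add_cancel hd]
        omega))

/-- The conditions for the induction in the regular case. -/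
theorem middle_regular' {p T D : ℕ} (hp : 11 ≤ p) (hD : 2 ≤ D) (hT : T ≤ 13 * 11 ^ (D - 2)) :
    9 * T ≤ p ^ D ∧ T * (p * p) + 17 ≤ 17 * p ^ D := by
  obtain ⟨r, rfl⟩ : ∃ r, D = r + 2 := ⟨D - 2, by omega⟩
  rw [Nat.add_sub_cancel] at hT
  have hT' : T ≤ 13 * p ^ r := hT.trans (Nat.mul_le_mul_left _ (Nat.pow_le_pow_left hp r))
  have h11 : 121 ≤ p * p := Nat.mul_le_mul hp hp
  have hpr : 1 ≤ p ^ r := Nat.one_le_pow _ _ (by omega)
  rw [show p ^ (r + 2) = p ^ r * (p * p) by ring]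
  constructor
  · calc 9 * T ≤ p ^ r * 117 := by omega
      _ ≤ _ := Nat.mul_le_mul_left _ (by omega)
  · calc T * (p * p) + 17 ≤ 13 * p ^ r * (p * p) + 17 := Nat.add_le_add_right (Nat.mul_le_mul_right _ hT') 17
      _ ≤ 17 * (p ^ r * (p * p)) := by
          have := Nat.mul_le_mul hpr h11
          rw [mul_assoc 13]
          omega

theorem middle_three {p : ℕ} (hp : 13 ≤ p) : 9 * 216 ≤ p ^ 3 ∧ 216 * (p * p) + 17 ≤ 17 * p ^ 3 := by
  have h := Nat.mul_le_mul hp hp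
  have h3 := Nat.mul_le_mul_right (p * p) hp
  rw [show p ^ 3 = p * (p * p) by ring]
  omega

/-- The exceptional middle part with a large prime. -/
theorem middle_two {p : ℕ} (hp : 17 ≤ p) : ∀ m : ℕ, 3 ≤ m →
    9 ^ (m - 1) * 24 ^ m * (p * p) + 17 ≤ 17 * p ^ (2 * m) := by
  intro m hm
  induction m, hm using Nat.le_induction with
  | base =>
    have h := Nat.mul_le_mul hp hp
    have h4 := Nat.mul_le_mul h h
    have h6 := Nat.mul_le_mul_right (p * p) h4
    rw [show p ^ (2 * 3) = p * p * (p * p) * (p * p) by ring]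
    norm_num at h h4 h6 ⊢
    omega
  | succ m hm ih =>
    obtain ⟨r, rfl⟩ : ∃ r, m = r + 1 := ⟨m - 1, by omega⟩
    rw [Nat.add_sub_cancel] at ih ⊢
    have h : 216 ≤ p * p := le_trans (by norm_num) (Nat.mul_le_mul hp hp)
    calc 9 ^ (r + 1) * 24 ^ (r + 1 + 1) * (p * p) + 17
        ≤ 216 * (9 ^ r * 24 ^ (r + 1) * (p * p) + 17) := by ring_nf; omega
      _ ≤ p * p * (17 * p ^ (2 * (r + 1))) := Nat.mul_le_mul h ih
      _ = _ := by ring

/-- The small primes. -/
theorem small_prime {p k o a c : ℕ} (hp : p.Prime) (hple : p ≤ 10) (hk : 0 < k) (ho : 0 < o)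
    (h1 : k ≤ 1 → a ≤ 1) (h2 : k ≤ 2 → a ≤ 2) (h3 : k ≤ 3 → a ≤ 6) (h4 : k ≤ 4 → a ≤ 42)
    (hc : p ^ 2 ≤ c) (hO : c ≤ o * a + 1) : 49 * p ≤ 60 * (k + o) := by
  by_contra hlt
  have hp2 := hp.two_le
  have hp7 : p ≤ 7 := by interval_cases p <;> first | omega | (norm_num at hp; done)
  have hk4 : k ≤ 4 := by omega
  have hb : o * a ≤ (49 * p / 60 - k) * [0, 1, 2, 6, 42].getD k 0 := by
    refine Nat.mul_le_mul (by omega) ?_
    interval_cases k <;> simp <;> first | exact h1 le_rfl | exact h2 le_rfl | exact h3 le_rfl | exact h4 le_rfl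
  interval_cases p <;> interval_cases k <;> (simp at hb hc) <;> first | omega | (norm_num at hp; done)

/-- The exceptional linear group of dimension two. -/
theorem six_arith {p z j o : ℕ} (hp : 11 ≤ p) (hzj : p - 1 = z * j) (hj : 0 < j) (ho : j * (p + 1) ≤ 24 * o) :
    49 * p ≤ 60 * (4 * z + o) := by
  rcases Nat.lt_or_ge j 10 with h | h
  · interval_cases j <;> omega
  refine Nat.le_of_mul_le_mul_left (?_ : 2 * j * _ ≤ 2 * j * _) (by omega)
  have h1 : 5 * j * (j * (p + 1)) ≤ 5 * j * (24 * o) := Nat.mul_le_mul_left _ ho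
  obtain ⟨u, rfl⟩ : ∃ u, j = 10 + u := ⟨j - 10, by omega⟩
  obtain ⟨v, rfl⟩ : ∃ v, p = v + 1 := ⟨p - 1, by omega⟩
  rw [Nat.add_sub_cancel] at hzj
  subst hzj
  nlinarith [Nat.zero_le (u * u * (z * (10 + u))), Nat.zero_le (u * (z * (10 + u))), Nat.zero_le (u * u)]

end Cfsg.Lib.Solv.ClassLower
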