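import Mathlib
import Cfsg.Agent.Lib.Solv.ClassCount.Eight

/-!
# Lower bounds for the class number: orbits, commuting pairs and the class equation
-/

set_option autoImplicit false
set_option linter.style.haveILetI false
set_option linter.unusedSectionVars false

namespace Cfsg.Lib.Solv.ClassLower

open MulAction Cfsg.Lib.Solv.ClassCount

universe u v

/-- The number of orbits on the nonzero vectors. -/
noncomputable def orb (A : Type u) (V : Type v) [Monoid A] [AddMonoid V] [MulAction A V] : ℕ :=
  Nat.card (Set.range fun v : {v : V // v ≠ 0} => orbit A (v : V))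

section Orbits

variable {A : Type u} {V : Type v} [Group A] [Finite A] [AddCommGroup V] [Finite V] [DistribMulAction A V]

theorem orb_mul_ge : Nat.card V ≤ orb A V * Nat.card A + 1 := by
  classical
  haveI := Fintype.ofFinite V
  have h0 : Nat.card {v : V // v ≠ 0} + 1 = Nat.card V := by
    rw [← Finite.card_option]
    exact Nat.card_congr (Equiv.optionSubtypeNe (0 : V))
  suffices Nat.card {v : V // v ≠ 0} ≤ orb A V * Nat.card A by omega
  rw [orb, ← Nat.card_prod]
  have hrep : ∀ v : {v : V // v ≠ 0}, ∃ a : A, a • ((⟨_, v, rfl⟩ :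
      Set.range fun v : {v : V // v ≠ 0} => orbit A (v : V)).2.choose : V) = (v : V) := fun v => by
    have h := (⟨_, v, rfl⟩ : Set.range fun v : {v : V // v ≠ 0} => orbit A (v : V)).2.choose_spec
    have hv : (v : V) ∈ orbit A (v : V) := mem_orbit_self _
    have h' : orbit A ((⟨_, v, rfl⟩ : Set.range fun v : {v : V // v ≠ 0} => orbit A (v : V)).2.choose : V) =
        orbit A (v : V) := h
    rw [← h'] at hv
    exact hv
  choose r hr using hrep
  refine Nat.card_le_card_of_injective (fun v => ((⟨_, v, rfl⟩ :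
    Set.range fun v : {v : V // v ≠ 0} => orbit A (v : V)), r v)) fun v w h => Subtype.ext ?_
  obtain ⟨h1, h2⟩ := Prod.mk.injEq _ _ _ _ ▸ h
  rw [← hr v, ← hr w, h2]
  congr 2
  have hh : ∀ x y : Set.range fun v : {v : V // v ≠ 0} => orbit A (v : V), x = y →
      x.2.choose = y.2.choose := by rintro x y rfl; rfl
  rw [hh _ _ h1]

theorem le_orb {X : Type*} (f : X → {v : V // v ≠ 0})
    (hf : ∀ x y, orbit A (f x : V) = orbit A (f y : V) → x = y) : Nat.card X ≤ orb A V := by
  haveI : Finite (Set.range fun v : {v : V // v ≠ 0} => orbit A (v : V)) := Set.finite_range _ |>.to_subtype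
  exact Nat.card_le_card_of_injective (fun x => (⟨_, f x, rfl⟩ :
    Set.range fun v : {v : V // v ≠ 0} => orbit A (v : V))) fun x y h => hf x y (congrArg Subtype.val h)

theorem two_le_orb (h : ¬ (Nat.card V - 1) ∣ Nat.card A) (hV : 1 < Nat.card V) : 2 ≤ orb A V := by
  classical
  haveI := Fintype.ofFinite V
  haveI : Nontrivial V := Finite.one_lt_card_iff_nontrivial.1 hV
  by_contra hlt
  obtain ⟨v, hv⟩ := exists_ne (0 : V)
  apply h
  have hall : orbit A v = {w : V | w ≠ 0} := by
    ext w
    refine ⟨?_, fun hw => ?_⟩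
    · rintro ⟨a, rfl⟩
      exact smul_ne_zero_iff_ne _ |>.2 hv
    by_contra hnot
    apply hlt
    have := le_orb (A := A) (fun b : Bool => if b then (⟨v, hv⟩ : {v : V // v ≠ 0}) else ⟨w, hw⟩) (by
      have hne : orbit A v ≠ orbit A w := fun e => hnot (e ▸ mem_orbit_self w)
      intro x y
      cases x <;> cases y <;> simp [hne, hne.symm])
    simpa using this
  rw [← Nat.card_congr (orbitProdStabilizerEquivGroup A v), Nat.card_prod]
  have h1 : Nat.card V - 1 = Nat.card (orbit A v) := by
    rw [hall, show Nat.card ↥{w : V | w ≠ 0} = Nat.card {w : V // w ≠ 0} from rfl, Nat.card_eq_fintype_card,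
      Nat.card_eq_fintype_card, Fintype.card_subtype_compl, Fintype.card_subtype_eq]
  exact h1 ▸ Dvd.intro _ rfl

end Orbits

/-- The classes inside and outside an abelian normal subgroup. -/
theorem card_classes_quotient_add_le {G : Type u} [Group G] [Finite G] (N : Subgroup G) [N.Normal]
    {V : Type v} [AddCommGroup V] [Finite V] [DistribMulAction (G ⧸ N) V] (ι : V → G) (hι : ∀ v, ι v ∈ N)
    (hinj : Function.Injective ι) (h0 : ι 0 = 1)
    (hconj : ∀ (g : G) (v : V), ι ((g : G ⧸ N) • v) = g * ι v * g⁻¹) :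
    Nat.card (ConjClasses (G ⧸ N)) + orb (G ⧸ N) V ≤ Nat.card (ConjClasses G) := by
  classical
  rw [orb, ← Nat.card_sum]
  have hsec : ∀ c : ConjClasses (G ⧸ N), ∃ g : G, ConjClasses.mk (g : G ⧸ N) = c ∧ (c = ConjClasses.mk 1 → g = 1) :=
    fun c => by
      by_cases hc : c = ConjClasses.mk 1
      · exact ⟨1, by rw [hc, QuotientGroup.mk_one], fun _ => rfl⟩
      obtain ⟨q, rfl⟩ := ConjClasses.exists_rep c
      obtain ⟨g, rfl⟩ := QuotientGroup.mk_surjective q
      exact ⟨g, rfl, fun h => absurd h hc⟩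
  choose s hs hs1 using hsec
  let π : ConjClasses G → ConjClasses (G ⧸ N) := ConjClasses.map (QuotientGroup.mk' N)
  let f : ConjClasses (G ⧸ N) ⊕ Set.range (fun v : {v : V // v ≠ 0} => orbit (G ⧸ N) (v : V)) → ConjClasses G :=
    Sum.elim (fun c => ConjClasses.mk (s c)) fun o => ConjClasses.mk (ι (o.2.choose : V))
  have hone : ∀ o : Set.range (fun v : {v : V // v ≠ 0} => orbit (G ⧸ N) (v : V)),
      π (ConjClasses.mk (ι (o.2.choose : V))) = ConjClasses.mk 1 := fun o => by
    show ConjClasses.mk (QuotientGroup.mk' N _) = _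
    rw [QuotientGroup.mk'_apply, (QuotientGroup.eq_one_iff _).2 (hι _)]
  have hne : ∀ o : Set.range (fun v : {v : V // v ≠ 0} => orbit (G ⧸ N) (v : V)),
      ConjClasses.mk (ι (o.2.choose : V)) ≠ ConjClasses.mk 1 := fun o h => by
    obtain ⟨c, hc⟩ := isConj_iff.1 (ConjClasses.mk_eq_mk_iff_isConj.1 h).symm
    rw [mul_one, mul_inv_cancel] at hc
    exact o.2.choose.2 (hinj (hc.symm.trans h0.symm))
  refine Nat.card_le_card_of_injective f ?_
  rintro (c | o) (c' | o') h <;> simp only [f, Sum.elim_inl, Sum.elim_inr] at h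
  · rw [← hs c, ← hs c']
    exact congrArg Sum.inl (congrArg π h)
  · exfalso
    have hc : c = ConjClasses.mk 1 := by
      rw [← hs c, ← hone o']
      exact congrArg π h
    rw [hs1 c hc] at h
    exact hne o' h.symm
  · exfalso
    have hc : c' = ConjClasses.mk 1 := by
      rw [← hs c', ← hone o]
      exact congrArg π h.symm
    rw [hs1 c' hc] at h
    exact hne o h
  · obtain ⟨g, hg⟩ := isConj_iff.1 (ConjClasses.mk_eq_mk_iff_isConj.1 h)
    rw [← hconj] at hg
    refine congrArg Sum.inr (Subtype.ext ?_)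
    rw [← o.2.choose_spec, ← o'.2.choose_spec]
    exact (orbit_eq_iff.2 ⟨(g : G ⧸ N), hinj hg⟩).symm

/-- Commuting pairs from a central subgroup of a subgroup. -/
theorem pairs_le {H : Type u} [Group H] [Finite H] (A K : Subgroup H) (hAK : A ≤ K)
    (hcen : ∀ a ∈ A, ∀ k ∈ K, a * k = k * a) :
    Nat.card A * Nat.card A * (3 * A.relIndex K - 2) ≤ Nat.card (ConjClasses H) * Nat.card H := by
  classical
  haveI := Fintype.ofFinite H
  rw [← Cfsg.Lib.Solv.ClassCount.sum_centralizer]
  set q := A.relIndex K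
  set a := Nat.card A
  have hK : Nat.card K = a * q := by
    have h := Subgroup.card_mul_index (A.subgroupOf K)
    rw [Nat.card_congr (Subgroup.subgroupOfEquivOfLe hAK).toEquiv] at h
    exact h.symm
  let w : H → ℕ := fun x => if x ∈ A then a * q else if x ∈ K then 2 * a else 0
  have hw : ∀ x, w x ≤ Nat.card (Subgroup.centralizer ({x} : Set H)) := fun x => by
    simp only [w]
    split_ifs with h1 h2
    · rw [← hK]
      exact Nat.card_le_card_of_injective (fun k : K => (⟨k, Subgroup.mem_centralizer_singleton_iff.2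
        (hcen x h1 k k.2).symm⟩ : Subgroup.centralizer ({x} : Set H)))
        fun k k' e => Subtype.ext (congrArg (fun z : Subgroup.centralizer ({x} : Set H) => (z : H)) e)
    · have hlt : A < Subgroup.centralizer ({x} : Set H) :=
        lt_of_le_of_ne (fun z hz => Subgroup.mem_centralizer_singleton_iff.2 (hcen z hz x h2))
          fun e => h1 (e ▸ Subgroup.mem_centralizer_singleton_iff.2 rfl)
      obtain ⟨t, ht⟩ := Subgroup.card_dvd_of_le hlt.le
      have h3 := Subgroup.card_le_of_le hlt.le
      have h4 : a ≠ Nat.card (Subgroup.centralizer ({x} : Set H)) := fun e =>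
        hlt.ne (Subgroup.eq_of_le_of_card_ge hlt.le e.ge)
      rcases t with _ | _ | t
      · simp only [mul_zero] at ht
        exact absurd ht Nat.card_pos.ne'
      · exact absurd (by rw [ht]; show Nat.card A = _; ring) h4
      · rw [ht, mul_comm 2]
        exact Nat.mul_le_mul_left _ (by omega)
    · exact Nat.zero_le _
  refine le_trans ?_ (Finset.sum_le_sum fun x _ => hw x)
  simp only [w]
  rw [Finset.sum_ite, Finset.sum_const, Finset.sum_ite, Finset.sum_const, Finset.sum_const_zero, add_zero,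
    smul_eq_mul, smul_eq_mul]
  have hA : (Finset.univ.filter (· ∈ A)).card = a := by
    rw [← Fintype.card_subtype, ← Nat.card_eq_fintype_card]
  have hKA : ((Finset.univ.filter fun x => ¬ x ∈ A).filter (· ∈ K)).card + a = a * q := by
    rw [← hK, Nat.card_eq_fintype_card, Fintype.card_subtype, ← hA,
      ← Finset.card_filter_add_card_filter_not (s := Finset.univ.filter (· ∈ K)) (· ∈ A), add_comm]
    congr 1
    · congr 1
      ext x
      simp only [Finset.mem_filter, Finset.mem_univ, true_and]
      exact ⟨fun h => ⟨hAK h, h⟩, And.right⟩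
    · congr 1
      ext x
      simp only [Finset.mem_filter, Finset.mem_univ, true_and]
      exact and_comm
  rw [hA]
  generalize ((Finset.univ.filter fun x => ¬ x ∈ A).filter (· ∈ K)).card = c at hKA ⊢
  have hq : 1 ≤ q := Nat.pos_of_ne_zero fun h => by
    rw [h, mul_zero] at hK; exact Nat.card_pos.ne' hK
  clear_value q
  obtain ⟨r, rfl⟩ : ∃ r, q = r + 1 := ⟨q - 1, by omega⟩
  have hc : c = a * r := by rw [mul_add, mul_one] at hKA; omega
  rw [hc, show 3 * (r + 1) - 2 = 3 * r + 1 by omega]
  nlinarith [Nat.zero_le (a * a * r)]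

/-- The mean inequality for classes and orbits. -/
theorem amgm {k o h a c q s P : ℕ} (hh : h ≤ a * (q * s)) (hk : a * a * c ≤ k * h) (ho : P ≤ o * h)
    (ha : 0 < a) : 4 * c * P ≤ (k + o) * (k + o) * (q * s * (q * s)) := by
  refine Nat.le_of_mul_le_mul_left (?_ : a * a * _ ≤ a * a * _) (Nat.mul_pos ha ha)
  calc a * a * (4 * c * P) = 4 * (a * a * c) * P := by ring
    _ ≤ 4 * (k * h) * (o * h) := Nat.mul_le_mul (Nat.mul_le_mul_left 4 hk) ho
    _ = 4 * k * o * (h * h) := by ring
    _ ≤ (k + o) * (k + o) * (a * (q * s) * (a * (q * s))) := by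
      refine Nat.mul_le_mul ?_ (Nat.mul_le_mul hh hh)
      rw [mul_assoc]
      have := four_mul_le_sq_add k o
      nlinarith
    _ = _ := by ring

/-- All solutions of `∑ 1 / c = a / b` in `j` increasing terms from `lo` are bounded by `B`. -/
def egy : ℕ → ℕ → ℕ → ℕ → ℕ → Bool
  | 0, _, _, _, _ => true
  | 1, _, a, b, B => decide (b ≤ a * B)
  | j + 2, lo, a, b, B =>
    (List.range' lo ((j + 2) * b / a + 1 - lo)).all fun c =>
      decide (a * c ≤ b) || egy (j + 1) c (a * c - b) (b * c) B

theorem egy_sound : ∀ (j lo a b B : ℕ), egy j lo a b B = true → 0 < a → 0 < b →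
    ∀ {ι : Type u} (s : Finset ι) (f : ι → ℕ), s.card = j → (∀ i ∈ s, 0 < f i ∧ lo ≤ f i) →
      ∑ i ∈ s, ((f i : ℚ))⁻¹ = a / b → ∀ i ∈ s, f i ≤ B := by
  intro j
  induction j with
  | zero =>
    intro lo a b B _ _ _ ι s f hs _ _ i hi
    rw [Finset.card_eq_zero] at hs
    simp [hs] at hi
  | succ j ih =>
    intro lo a b B hegy ha hb ι s f hs hpos hsum
    classical
    obtain ⟨m, hm, hmin⟩ := s.exists_min_image f (Finset.card_pos.1 (by omega))
    have hf := (hpos m hm).1
    have haq : (0 : ℚ) < a := by exact_mod_cast ha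
    have hbq : (0 : ℚ) < b := by exact_mod_cast hb
    have hmq : (0 : ℚ) < f m := by exact_mod_cast hf
    rcases j with _ | j
    · obtain ⟨i₀, rfl⟩ := Finset.card_eq_one.1 hs
      rw [Finset.sum_singleton] at hsum
      simp only [Finset.mem_singleton] at hm hmin ⊢
      rw [hm] at hf hmq
      intro i hi
      rw [hi]
      simp only [egy, decide_eq_true_eq] at hegy
      have h1 : (a : ℚ) * f i₀ = b := by field_simp at hsum; linarith
      have h2 : a * f i₀ = b := by exact_mod_cast h1
      exact Nat.le_of_mul_le_mul_left (h2.trans_le hegy) ha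
    have hle : a * f m ≤ (j + 1 + 1) * b := by
      have h1 : (a : ℚ) / b ≤ (j + 1 + 1 : ℕ) * (f m : ℚ)⁻¹ := by
        rw [← hsum, ← hs, ← nsmul_eq_mul]
        refine Finset.sum_le_card_nsmul _ _ _ fun i hi => ?_
        exact inv_anti₀ hmq (by exact_mod_cast hmin i hi)
      have h2 : (a : ℚ) * f m ≤ ((j + 1 + 1 : ℕ) : ℚ) * b := by
        field_simp at h1; linarith
      exact_mod_cast h2
    rw [egy, List.all_eq_true] at hegy
    have hc := hegy (f m) (List.mem_range'_1.2 ⟨(hpos m hm).2, by
      have : f m ≤ (j + 2) * b / a := (Nat.le_div_iff_mul_le ha).2 (by rwa [mul_comm])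
      omega⟩)
    have hsum' : ∑ i ∈ s.erase m, ((f i : ℚ))⁻¹ = a / b - (f m : ℚ)⁻¹ := by
      rw [← hsum, ← Finset.add_sum_erase s _ hm]; ring
    have hlt : b < a * f m := by
      have hne : (s.erase m).Nonempty := Finset.card_pos.1 (by rw [Finset.card_erase_of_mem hm]; omega)
      have h1 : 0 < ∑ i ∈ s.erase m, ((f i : ℚ))⁻¹ := Finset.sum_pos
        (fun i hi => inv_pos.2 (by exact_mod_cast (hpos i (Finset.mem_of_mem_erase hi)).1)) hne
      rw [hsum', sub_pos] at h1
      have h2 : (b : ℚ) < a * f m := by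
        rw [inv_eq_one_div, div_lt_div_iff₀ hmq hbq] at h1; linarith
      exact_mod_cast h2
    simp only [Bool.or_eq_true, decide_eq_true_eq] at hc
    have hc' := hc.resolve_left (by omega)
    have hrest := ih (f m) (a * f m - b) (b * f m) B hc' (by omega) (Nat.mul_pos hb hf) (s.erase m) f
      (by rw [Finset.card_erase_of_mem hm]; omega)
      (fun i hi => ⟨(hpos i (Finset.mem_of_mem_erase hi)).1, hmin i (Finset.mem_of_mem_erase hi)⟩) (by
        rw [hsum', Nat.cast_sub hlt.le, Nat.cast_mul, Nat.cast_mul]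
        field_simp)
    intro i hi
    rcases eq_or_ne i m with rfl | hne
    · obtain ⟨i', hi'⟩ : (s.erase i).Nonempty :=
        Finset.card_pos.1 (by rw [Finset.card_erase_of_mem hm]; omega)
      exact (hmin i' (Finset.mem_of_mem_erase hi')).trans (hrest i' hi')
    · exact hrest i (Finset.mem_erase.2 ⟨hne, hi⟩)

theorem egy_checks : egy 1 1 1 1 1 = true ∧ egy 2 1 1 1 2 = true ∧ egy 3 1 1 1 6 = true ∧ egy 4 1 1 1 42 = true ∧
    egy 5 1 1 1 1806 = true := by decide +kernel

/-- Groups with few classes are small. -/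
theorem card_le_of_classes {G : Type u} [Group G] [Finite G] :
    (Nat.card (ConjClasses G) ≤ 1 → Nat.card G ≤ 1) ∧ (Nat.card (ConjClasses G) ≤ 2 → Nat.card G ≤ 2) ∧
    (Nat.card (ConjClasses G) ≤ 3 → Nat.card G ≤ 6) ∧ (Nat.card (ConjClasses G) ≤ 4 → Nat.card G ≤ 42) ∧
    (Nat.card (ConjClasses G) ≤ 5 → Nat.card G ≤ 1806) := by
  classical
  haveI := Fintype.ofFinite G
  haveI := Fintype.ofFinite (ConjClasses G)
  set f : ConjClasses G → ℕ := fun c => Nat.card (Subgroup.centralizer ({c.exists_rep.choose} : Set G))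
  have hsum : ∑ c : ConjClasses G, ((f c : ℚ))⁻¹ = 1 / 1 := by
    have hkey : ∀ x : G, Nat.card (Subgroup.centralizer ({x} : Set G)) = f (ConjClasses.mk x) := fun x => by
      obtain ⟨c, hc⟩ := isConj_iff.1 (ConjClasses.mk_eq_mk_iff_isConj.1 (ConjClasses.mk x).exists_rep.choose_spec)
      show _ = Nat.card (Subgroup.centralizer ({(ConjClasses.mk x).exists_rep.choose} : Set G))
      generalize (ConjClasses.mk x).exists_rep.choose = r at hc
      subst hc
      exact Nat.card_congr ((MulAut.conj c⁻¹).toEquiv.subtypeEquiv fun y => by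
        rw [Subgroup.mem_centralizer_singleton_iff, Subgroup.mem_centralizer_singleton_iff,
          show (MulAut.conj c⁻¹).toEquiv y = c⁻¹ * y * c by simp]
        constructor <;> intro h
        · calc c⁻¹ * y * c * r = c⁻¹ * (y * (c * r * c⁻¹)) * c := by group
            _ = c⁻¹ * ((c * r * c⁻¹) * y) * c := by rw [h]
            _ = r * (c⁻¹ * y * c) := by group
        · calc y * (c * r * c⁻¹) = c * ((c⁻¹ * y * c) * r) * c⁻¹ := by group
            _ = c * (r * (c⁻¹ * y * c)) * c⁻¹ := by rw [h]
            _ = c * r * c⁻¹ * y := by group)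
    have hh : (Nat.card G : ℚ) ≠ 0 := by exact_mod_cast Nat.card_pos.ne'
    rw [div_one, ← mul_right_inj' hh, mul_one, Finset.mul_sum]
    have h1 : ∀ c : ConjClasses G, (Nat.card G : ℚ) * (f c : ℚ)⁻¹ = (c.carrier.toFinset.card : ℚ) := fun c => by
      obtain ⟨x, rfl⟩ := ConjClasses.exists_rep c
      have horb := Nat.card_congr (orbitProdStabilizerEquivGroup (ConjAct G) x)
      rw [Nat.card_prod] at horb
      rw [Nat.card_congr (Equiv.setCongr (ConjAct.orbit_eq_carrier_conjClasses x)),
        Nat.card_eq_fintype_card, ← Set.toFinset_card,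
        Nat.card_congr (Equiv.subtypeEquiv ConjAct.ofConjAct.toEquiv fun y => ?_)] at horb
      rotate_left
      · exact fun z => z ∈ Subgroup.centralizer ({x} : Set G)
      · rw [mem_stabilizer_iff, ConjAct.smul_def, Subgroup.mem_centralizer_singleton_iff, mul_inv_eq_iff_eq_mul]
        rfl
      · have hG : Nat.card (ConjAct G) = Nat.card G := rfl
        rw [hG, hkey] at horb
        have hf0 : (f (ConjClasses.mk x) : ℚ) ≠ 0 := by exact_mod_cast (Nat.card_pos (α := _)).ne'
        rw [← div_eq_mul_inv, div_eq_iff hf0]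
        exact_mod_cast horb.symm
    rw [Finset.sum_congr rfl fun c _ => h1 c, Nat.card_eq_fintype_card]
    exact_mod_cast sum_conjClasses_card_eq_card G
  have hcard : ∀ j, Nat.card (ConjClasses G) = j → ∀ B, egy j 1 1 1 B = true → Nat.card G ≤ B := fun j hj B hB => by
    have h := egy_sound j 1 1 1 B hB one_pos one_pos Finset.univ f
      (by rw [Finset.card_univ, ← Nat.card_eq_fintype_card, hj])
      (fun c _ => ⟨Nat.card_pos, Nat.card_pos⟩) (by simpa using hsum) (ConjClasses.mk 1) (Finset.mem_univ _)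
    refine le_trans ?_ h
    have h1 : (ConjClasses.mk (1 : G)).exists_rep.choose = 1 :=
      (isConj_one_left.1 (ConjClasses.mk_eq_mk_iff_isConj.1 (ConjClasses.mk (1 : G)).exists_rep.choose_spec))
    show _ ≤ Nat.card (Subgroup.centralizer ({(ConjClasses.mk (1 : G)).exists_rep.choose} : Set G))
    rw [h1]
    exact (Subgroup.card_top (G := G)).ge.trans (Subgroup.card_le_of_le fun y _ => Subgroup.mem_centralizer_singleton_iff.2 (by simp))
  obtain ⟨e1, e2, e3, e4, e5⟩ := egy_checks
  have hpos : 0 < Nat.card (ConjClasses G) := Nat.card_pos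
  refine ⟨fun h => ?_, fun h => ?_, fun h => ?_, fun h => ?_, fun h => ?_⟩ <;>
    (rcases (show Nat.card (ConjClasses G) = 1 ∨ Nat.card (ConjClasses G) = 2 ∨ Nat.card (ConjClasses G) = 3 ∨
      Nat.card (ConjClasses G) = 4 ∨ Nat.card (ConjClasses G) = 5 by omega) with e | e | e | e | e <;>
    first
    | omega
    | exact (hcard _ e _ e1).trans (by norm_num)
    | exact (hcard _ e _ e2).trans (by norm_num)
    | exact (hcard _ e _ e3).trans (by norm_num)
    | exact (hcard _ e _ e4).trans (by norm_num)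
    | exact (hcard _ e _ e5).trans (by norm_num))

end Cfsg.Lib.Solv.ClassLower
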