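import Cfsg.Agent.Lib.Solv.ClassLower.Primitive
import Cfsg.Agent.Lib.Solv.ClassCount.PermOrder

/-!
# An irreducible solvable linear group: blocks, a normal abelian part and its centraliser
-/

set_option autoImplicit false
set_option linter.style.haveILetI false
set_option linter.unusedSectionVars false

namespace Cfsg.Lib.Solv.ClassLower

open Cfsg.Lib.Solv.ClassCount Cfsg.Lib.OddBase Cfsg.Lib.CoprimeBase MulAction
open scoped Pointwise

/-- The translates of a subgroup are independent. -/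
def BlockSystem (H : Type) {V : Type} [Group H] [AddCommGroup V] [DistribMulAction H V] (X : AddSubgroup V) : Prop :=
  ∀ (s : Finset (orbit H X)) (G : ↥(orbit H X) → V),
    (∀ Y : ↥(orbit H X), G Y ∈ (Y : AddSubgroup V)) → ∑ Y ∈ s, G Y = 0 → ∀ Y ∈ s, G Y = 0

variable {H V : Type} [Group H] [Finite H] [AddCommGroup V] [Finite V] [DistribMulAction H V]

theorem system_top : BlockSystem H (⊤ : AddSubgroup V) := by
  intro s G _ hsum Y hY
  have hsub : ∀ Z : orbit H (⊤ : AddSubgroup V), Z = Y := by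
    have htop : ∀ a : H, a • (⊤ : AddSubgroup V) = ⊤ := fun a => eq_top_iff.2 fun v _ => by
      rw [AddSubgroup.mem_pointwise_smul_iff_inv_smul_mem]; trivial
    intro Z
    obtain ⟨a, ha⟩ := Z.2
    obtain ⟨b, hb⟩ := Y.2
    refine Subtype.ext ?_
    rw [← ha, ← hb]
    exact (htop a).trans (htop b).symm
  rwa [Finset.sum_eq_single_of_mem Y hY fun Z _ hne => absurd (hsub Z) hne] at hsum

/-- The pairs of multiplicities with sum at most four. -/
theorem pairs_four : (Finset.univ.filter fun ij : Fin 5 × Fin 5 =>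
    1 ≤ ij.1.val + ij.2.val ∧ ij.1.val + ij.2.val ≤ 4).card = 14 := by decide +kernel

set_option maxHeartbeats 1000000 in
/-- The structure of an irreducible solvable group. -/
theorem blocks_structure [FaithfulSMul H V] [Group.IsSolvable H] [Nontrivial V] {p : ℕ} [hp : Fact p.Prime]
    (hV : ∀ x : V, p • x = 0) (hirr : Irreducible' H V) :
    ∃ (m d e e' j : ℕ) (A K : Subgroup H), A ≤ K ∧ (∀ a ∈ A, ∀ k ∈ K, a * k = k * a) ∧
      0 < m ∧ 0 < d ∧ 0 < e ∧ 0 < e' ∧ e' ≤ e ∧ j ≤ gb e' ∧ Nat.card V = p ^ (d * e * m) ∧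
      K.index ≤ ob m * d ^ m ∧ A.relIndex K ≤ (j * (e' * e')) ^ m ∧ (e' = 3 → 3 ∣ p ^ d - 1) ∧ m ≤ orb H V ∧
      (m = 1 → d = 1 → e' = 2 → j = 6 → ∃ z, z ∣ p - 1 ∧ Nat.card H = 24 * z ∧ 4 * z ≤ Nat.card (ConjClasses H)) ∧
      (4 ≤ m → d = 1 → e = 2 → p = 13 → 14 ≤ orb H V) ∧ (e' = 2 → j ∣ 6) ∧
      ∀ ℓ : ℕ, ℓ.Prime → ℓ ∣ Nat.card H → ℓ ≤ m ∨ ℓ ≤ p ^ d ∨ ℓ ≤ e' * e' := by
  classical
  obtain ⟨X, hX⟩ := (Set.toFinite {X : AddSubgroup V | X ≠ ⊥ ∧ BlockSystem H X}).exists_minimal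
    ⟨⊤, top_ne_bot, system_top⟩
  obtain ⟨hXb, hsys⟩ := hX.prop
  let Ψ := orbit H X
  haveI := Fintype.ofFinite Ψ
  have ht : ∀ Y : Ψ, ∃ t : H, t • X = (Y : AddSubgroup V) := fun Y => Y.2
  choose t ht using ht
  let X₁ : Ψ := ⟨X, mem_orbit_self X⟩
  -- the decomposition
  let Φ : (∀ Y : Ψ, (Y : AddSubgroup V)) →+ V :=
    { toFun := fun G => ∑ Y, (G Y : V)
      map_zero' := by simp
      map_add' := fun G G' => by simp [Finset.sum_add_distrib] }
  have hΦi : Function.Injective Φ := by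
    rw [injective_iff_map_eq_zero]
    intro G hG
    exact funext fun Y => Subtype.ext (hsys Finset.univ (fun Y => (G Y : V)) (fun Y => (G Y).2) hG Y (Finset.mem_univ Y))
  have hsingle : ∀ (Y : Ψ) (y : (Y : AddSubgroup V)), Φ (Pi.single Y y) = (y : V) := fun Y y => by
    show ∑ Z, ((Pi.single Y y : ∀ Y : Ψ, (Y : AddSubgroup V)) Z : V) = _
    rw [Finset.sum_eq_single Y (fun Z _ hne => by rw [Pi.single_eq_of_ne hne]; rfl) (by simp), Pi.single_eq_same]
  have hrange : Φ.range = ⊤ := by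
    refine (hirr _ fun a v hv => ?_).resolve_left fun h => hXb (eq_bot_iff.2 fun x hx => h ▸ ⟨_, hsingle X₁ ⟨x, hx⟩⟩)
    obtain ⟨G, rfl⟩ := hv
    show a • ∑ Y, (G Y : V) ∈ Φ.range
    rw [Finset.smul_sum]
    refine sum_mem fun Y _ => ⟨_, hsingle (a • Y) ⟨a • (G Y : V), ?_⟩⟩
    rw [orbit.coe_smul]
    exact AddSubgroup.smul_mem_pointwise_smul _ _ _ (G Y).2
  let Φe := AddEquiv.ofBijective Φ ⟨hΦi, AddMonoidHom.range_eq_top.1 hrange⟩
  let comp : V → Ψ → V := fun v Y => (Φe.symm v Y : V)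
  have hcompY : ∀ v Y, comp v Y ∈ ((Y : Ψ) : AddSubgroup V) := fun v Y => (Φe.symm v Y).2
  have hcompsum : ∀ v, ∑ Y, comp v Y = v := fun v => Φe.apply_symm_apply v
  have huniq : ∀ (G : Ψ → V) (v : V), (∀ Y : Ψ, G Y ∈ (Y : AddSubgroup V)) → ∑ Y, G Y = v →
      ∀ Y, comp v Y = G Y := fun G v hG hsum Y => by
    have h : Φe.symm v = fun Y : Ψ => (⟨G Y, hG Y⟩ : (Y : AddSubgroup V)) := by
      rw [AddEquiv.symm_apply_eq]; exact hsum.symm
    show ((Φe.symm v) Y : V) = G Y
    rw [h]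
  have hcomp : ∀ (a : H) (v : V) (Y : Ψ), comp (a • v) (a • Y) = a • comp v Y := by
    intro a v Y
    have h1 : ∀ Z : Ψ, a • comp v (a⁻¹ • Z) ∈ (Z : AddSubgroup V) := fun Z => by
      have h := AddSubgroup.smul_mem_pointwise_smul _ a _ (hcompY v (a⁻¹ • Z))
      rwa [← orbit.coe_smul, smul_inv_smul] at h
    have h2 : ∑ Z, a • comp v (a⁻¹ • Z) = a • v := by
      rw [← Finset.smul_sum]
      conv_rhs => rw [← hcompsum v]
      congr 1
      exact Equiv.sum_comp (MulAction.toPerm a⁻¹) (comp v)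
    rw [huniq _ (a • v) h1 h2 (a • Y)]
    show a • comp v (a⁻¹ • a • Y) = _
    rw [inv_smul_smul]
  have hblock : ∀ (Y Y' : Ψ) (v : V), v ∈ (Y : AddSubgroup V) → v ∈ (Y' : AddSubgroup V) → v ≠ 0 → Y = Y' := by
    intro Y Y' v h h' hv
    by_contra hne
    have e1 := huniq (Pi.single Y v) v (fun Z => by
      rcases eq_or_ne Z Y with rfl | hz
      · rwa [Pi.single_eq_same]
      · rw [Pi.single_eq_of_ne hz]; exact zero_mem _) (Finset.sum_pi_single' Y v Finset.univ |>.trans (by simp)) Y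
    have e2 := huniq (Pi.single Y' v) v (fun Z => by
      rcases eq_or_ne Z Y' with rfl | hz
      · rwa [Pi.single_eq_same]
      · rw [Pi.single_eq_of_ne hz]; exact zero_mem _) (Finset.sum_pi_single' Y' v Finset.univ |>.trans (by simp)) Y
    rw [Pi.single_eq_same] at e1
    rw [Pi.single_eq_of_ne hne, e1] at e2
    exact hv e2
  -- the stabiliser and its image
  set S := stabilizer H X with hS
  have hSX : ∀ s : S, ∀ x ∈ X, s • x ∈ X := fun s x hx => by
    have h := AddSubgroup.smul_mem_pointwise_smul x (s : H) X hx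
    rwa [mem_stabilizer_iff.1 s.2] at h
  letI := subAct (A := S) X hSX
  let μ : S →* (AddMonoid.End X)ˣ := (DistribMulAction.toAddMonoidEnd S X).toHomUnits
  set L := μ.range with hL
  have hμ : ∀ (s : S) (x : X), ((⟨μ s, s, rfl⟩ : L) • x : X) = s • x := fun s x => rfl
  haveI : Group.IsSolvable L := Group.isSolvable_of_surjective μ.rangeRestrict_surjective
  haveI : Nontrivial X := (AddSubgroup.nontrivial_iff_ne_bot X).2 hXb
  have htS : ∀ (a : H) (Y : Ψ), (t (a • Y))⁻¹ * a * t Y ∈ S := fun a Y => by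
    rw [hS, mem_stabilizer_iff, mul_smul, mul_smul, ht, inv_smul_eq_iff, ht, orbit.coe_smul]
  have hirrL : Irreducible' L X := by
    intro Z hZ
    rcases eq_or_ne Z ⊥ with hb | hb
    · exact Or.inl hb
    refine Or.inr (eq_top_iff.2 fun x _ => ?_)
    have hZs : ∀ s : S, ∀ z : X, z ∈ Z → s • z ∈ Z := fun s z hz => hZ ⟨μ s, s, rfl⟩ z hz
    let T : AddSubgroup V :=
      { carrier := {v | ∀ Y, ∃ z ∈ Z, (t Y)⁻¹ • comp v Y = (z : V)}
        zero_mem' := fun Y => ⟨0, zero_mem _, by simp [comp]⟩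
        add_mem' := fun {u w} hu hw Y => by
          obtain ⟨z, hz, e⟩ := hu Y
          obtain ⟨z', hz', e'⟩ := hw Y
          refine ⟨z + z', add_mem hz hz', ?_⟩
          show (t Y)⁻¹ • ((Φe.symm (u + w)) Y : V) = _
          rw [map_add, Pi.add_apply, AddSubgroup.coe_add, smul_add, AddSubgroup.coe_add]
          exact congrArg₂ (· + ·) e e'
        neg_mem' := fun {u} hu Y => by
          obtain ⟨z, hz, e⟩ := hu Y
          refine ⟨-z, neg_mem hz, ?_⟩
          show (t Y)⁻¹ • ((Φe.symm (-u)) Y : V) = _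
          rw [map_neg, Pi.neg_apply, AddSubgroup.coe_neg, smul_neg, AddSubgroup.coe_neg]
          exact congrArg Neg.neg e }
    have hTi : ∀ a : H, ∀ v ∈ T, a • v ∈ T := fun a v hv Y => by
      obtain ⟨z, hz, e⟩ := hv (a⁻¹ • Y)
      have hs := htS a (a⁻¹ • Y)
      simp only [smul_inv_smul] at hs
      refine ⟨_, hZs ⟨_, hs⟩ z hz, ?_⟩
      show (t Y)⁻¹ • comp (a • v) Y = ((t Y)⁻¹ * a * t (a⁻¹ • Y)) • (z : V)
      rw [← e, mul_smul, mul_smul, smul_inv_smul, ← hcomp a v, smul_inv_smul]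
    obtain ⟨z, hz, hz0⟩ : ∃ z ∈ Z, z ≠ 0 := by
      by_contra hall
      push Not at hall
      exact hb (eq_bot_iff.2 fun z hz => AddSubgroup.mem_bot.2 (hall z hz))
    have hmemX : ∀ (w : X) (Y : Ψ), comp (w : V) Y = if Y = X₁ then (w : V) else 0 := fun w Y =>
      huniq (fun Y => if Y = X₁ then (w : V) else 0) w (fun Y => by
        split_ifs with h
        · subst h; exact w.2
        · exact zero_mem _) (by simp) Y
    have ht1 : t X₁ ∈ S := mem_stabilizer_iff.2 (ht X₁)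
    have hzT : (z : V) ∈ T := fun Y => by
      rw [hmemX z Y]
      split_ifs with h
      · subst h
        exact ⟨_, hZs (⟨t X₁, ht1⟩ : S)⁻¹ z hz, rfl⟩
      · exact ⟨0, zero_mem _, by simp⟩
    have hT : T = ⊤ := (hirr T hTi).resolve_left fun h => hz0 (Subtype.ext (AddSubgroup.mem_bot.1 (h ▸ hzT)))
    obtain ⟨y, hy, e⟩ := (hT ▸ AddSubgroup.mem_top (x : V) : (x : V) ∈ T) X₁
    rw [hmemX x X₁, if_pos rfl, inv_smul_eq_iff] at e
    have := hZs ⟨t X₁, ht1⟩ y hy
    rwa [show (⟨t X₁, ht1⟩ : S) • y = x from Subtype.ext e.symm] at this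
  have himpL : ¬ Imprimitive L X := by
    rintro ⟨Z, hZb, hZt, hZsys⟩
    set Z' := Z.map X.subtype with hZ'
    have hZX : Z' ≤ X := AddSubgroup.map_subtype_le Z
    have hZ'b : Z' ≠ ⊥ := fun h => hZb (AddSubgroup.map_injective (AddSubgroup.subtype_injective X)
      (h.trans (AddSubgroup.map_bot _).symm))
    refine hZt (eq_top_iff.2 fun x _ => ?_)
    suffices hle : X ≤ Z' by
      obtain ⟨z, hz, e⟩ := hle x.2
      rwa [← Subtype.ext e]
    refine hX.le_of_le ⟨hZ'b, ?_⟩ hZX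
    intro s G hG hsum W₀ hW₀
    -- the block of a translate
    have hb : ∀ W : orbit H Z', ∃ Y : Ψ, (W : AddSubgroup V) ≤ (Y : AddSubgroup V) := fun W => by
      obtain ⟨a, ha⟩ := W.2
      refine ⟨⟨a • X, a, rfl⟩, fun v hv => ?_⟩
      rw [← ha] at hv
      obtain ⟨u, hu, rfl⟩ := (AddSubgroup.mem_smul_pointwise_iff_exists _ _ _).1 hv
      exact AddSubgroup.smul_mem_pointwise_smul _ _ _ (hZX hu)
    choose b hb using hb
    set Y := b W₀
    set F := s.filter fun W => b W = Y with hF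
    have hFsum : ∑ W ∈ F, G W = 0 := by
      have h := hsys Finset.univ (fun Y => ∑ W ∈ s.filter (fun W => b W = Y), G W)
        (fun Y => sum_mem fun W hW => (Finset.mem_filter.1 hW).2 ▸ hb W (hG W))
        (by rw [Finset.sum_fiberwise]; exact hsum) Y (Finset.mem_univ Y)
      exact h
    have hmove : ∀ W ∈ F, ∃ W' : orbit L Z, ∀ x : X, x ∈ (W' : AddSubgroup X) ↔ (t Y) • (x : V) ∈ (W : AddSubgroup V) := by
      intro W hW
      obtain ⟨a, ha⟩ := W.2
      obtain ⟨u, hu, hu0⟩ : ∃ u ∈ Z', u ≠ 0 := by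
        by_contra hall
        push Not at hall
        exact hZ'b (eq_bot_iff.2 fun z hz => AddSubgroup.mem_bot.2 (hall z hz))
      have h1 : a • u ∈ (W : AddSubgroup V) := ha ▸ AddSubgroup.smul_mem_pointwise_smul _ _ _ hu
      have hYa : Y = a • X₁ := hblock _ _ (a • u) ((Finset.mem_filter.1 hW).2 ▸ hb W h1)
        (AddSubgroup.smul_mem_pointwise_smul _ _ _ (hZX hu)) (fun h => hu0 ((smul_eq_zero_iff_eq a).1 h))
      have hs : (t Y)⁻¹ * a ∈ S := by
        rw [hS, mem_stabilizer_iff, mul_smul, inv_smul_eq_iff, ht, hYa]; rfl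
      refine ⟨⟨μ.rangeRestrict ⟨_, hs⟩ • Z, _, rfl⟩, fun x => ?_⟩
      have hW' : (W : AddSubgroup V) = a • Z' := ha.symm
      show x ∈ μ.rangeRestrict ⟨_, hs⟩ • Z ↔ _
      rw [hW', AddSubgroup.mem_smul_pointwise_iff_exists]
      constructor
      · rintro ⟨z, hz, rfl⟩
        refine ⟨z, ⟨z, hz, rfl⟩, ?_⟩
        show a • (z : V) = t Y • ((t Y)⁻¹ * a) • (z : V)
        rw [mul_smul, smul_inv_smul]
      · rintro ⟨_, ⟨z, hz, rfl⟩, e⟩
        refine (⟨z, hz, Subtype.ext ?_⟩ : ∃ z, z ∈ (Z : Set X) ∧ μ.rangeRestrict ⟨_, hs⟩ • z = x)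
        show ((t Y)⁻¹ * a) • (z : V) = (x : V)
        rw [mul_smul, inv_smul_eq_iff]
        exact e
    choose w hw using hmove
    have hinj : ∀ W hW W' hW', w W hW = w W' hW' → W = W' := by
      intro W hW W' hW' e
      refine Subtype.ext (AddSubgroup.ext fun v => ?_)
      suffices h : ∀ (W : orbit H Z') (hW : W ∈ F), ∀ v, v ∈ (W : AddSubgroup V) → ∃ x : X, t Y • (x : V) = v by
        constructor <;> intro hv
        · obtain ⟨x, rfl⟩ := h W hW v hv
          exact (hw W' hW' x).1 (e ▸ (hw W hW x).2 hv)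
        · obtain ⟨x, rfl⟩ := h W' hW' v hv
          exact (hw W hW x).1 (e.symm ▸ (hw W' hW' x).2 hv)
      intro W hW v hv
      have h1 : v ∈ (Y : AddSubgroup V) := (Finset.mem_filter.1 hW).2 ▸ hb W hv
      rw [← ht Y, AddSubgroup.mem_pointwise_smul_iff_inv_smul_mem] at h1
      exact ⟨⟨_, h1⟩, smul_inv_smul _ _⟩
    have hval : ∀ W ∈ F, (t Y)⁻¹ • G W ∈ X := fun W hW => by
      have h1 : G W ∈ (Y : AddSubgroup V) := (Finset.mem_filter.1 hW).2 ▸ hb W (hG W)
      rwa [← ht Y, AddSubgroup.mem_pointwise_smul_iff_inv_smul_mem] at h1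
    let G' : orbit L Z → X := fun W' =>
      if h : ∃ W hW, w W hW = W' then ⟨(t Y)⁻¹ • G h.choose, hval _ h.choose_spec.choose⟩ else 0
    have hG'w : ∀ W hW, G' (w W hW) = ⟨(t Y)⁻¹ • G W, hval W hW⟩ := fun W hW => by
      have h : ∃ W₁ hW₁, w W₁ hW₁ = w W hW := ⟨W, hW, rfl⟩
      simp only [G', dif_pos h]
      have := hinj _ h.choose_spec.choose W hW h.choose_spec.choose_spec
      refine Subtype.ext ?_
      show (t Y)⁻¹ • G h.choose = (t Y)⁻¹ • G W
      rw [this]
    have hG'mem : ∀ W' : orbit L Z, G' W' ∈ (W' : AddSubgroup X) := fun W' => by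
      by_cases h : ∃ W hW, w W hW = W'
      · obtain ⟨W, hW, rfl⟩ := h
        rw [hG'w, hw W hW]
        show t Y • (t Y)⁻¹ • G W ∈ _
        rw [smul_inv_smul]
        exact hG W
      · simp only [G', dif_neg h]; exact zero_mem _
    have hsum' : ∑ W' ∈ F.attach.image (fun W => w W.1 W.2), G' W' = 0 := by
      rw [Finset.sum_image fun W _ W' _ e => Subtype.ext (hinj _ _ _ _ e)]
      refine Subtype.ext ?_
      rw [AddSubgroup.val_finsetSum, Finset.sum_congr rfl fun W _ => congrArg Subtype.val (hG'w W.1 W.2)]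
      show ∑ W ∈ F.attach, (t Y)⁻¹ • G W.1 = 0
      rw [Finset.sum_attach F fun W => (t Y)⁻¹ • G W, ← Finset.smul_sum, hFsum, smul_zero]
    have hW₀F : W₀ ∈ F := Finset.mem_filter.2 ⟨hW₀, rfl⟩
    have h0 := hZsys _ G' hG'mem hsum' _ (Finset.mem_image.2 ⟨⟨W₀, hW₀F⟩, Finset.mem_attach _ _, rfl⟩)
    rw [hG'w W₀ hW₀F] at h0
    have h1 : (t Y)⁻¹ • G W₀ = 0 := congrArg Subtype.val h0
    exact (smul_eq_zero_iff_eq _).1 h1
  have hpX : ∀ x : X, p • x = 0 := fun x => Subtype.ext (hV x)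
  obtain ⟨M, C, d, e, e', j, hMC, hcen, hd0, he0, he'0, hee, hXcard, hMdvd, hindex, hj, hCcard, h3, h4, h6, hℓj⟩ :=
    primitive_structure hpX L hirrL himpL
  set m := Nat.card Ψ with hm
  haveI : Nonempty Ψ := ⟨X₁⟩
  have hm0 : 0 < m := Nat.card_pos
  have hVcard : Nat.card V = p ^ (d * e * m) := by
    rw [← Nat.card_congr Φe.toEquiv, Nat.card_pi, Finset.prod_congr rfl fun Y _ => ?_, Finset.prod_const,
      Finset.card_univ, ← Nat.card_eq_fintype_card, ← hm, ← pow_mul]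
    rw [← hXcard, ← ht Y]
    exact (Nat.card_congr (AddSubgroup.equivMapOfInjective X (DistribMulAction.toAddMonoidEnd H V (t Y))
      (MulAction.injective (t Y))).toEquiv).symm
  -- the kernel of the permutation
  set σ := toPermHom H Ψ with hσdef
  have hfix : ∀ (k : σ.ker) (Y : Ψ), (k : H) • Y = Y := fun k Y => Equiv.congr_fun (MonoidHom.mem_ker.1 k.2) Y
  have hρS : ∀ (k : σ.ker) (Y : Ψ), (t Y)⁻¹ * (k : H) * t Y ∈ S := fun k Y => by
    have := htS (k : H) Y
    rwa [hfix] at this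
  let ρ : Ψ → σ.ker →* L := fun Y => μ.rangeRestrict.comp
    { toFun := fun k => ⟨_, hρS k Y⟩
      map_one' := Subtype.ext (by simp)
      map_mul' := fun k l => Subtype.ext (by simp [mul_assoc]) }
  have hρinj : ∀ k l : σ.ker, (∀ Y, ρ Y k = ρ Y l) → k = l := fun k l h => by
    refine Subtype.ext (eq_of_smul_eq_smul fun v : V => ?_)
    rw [← hcompsum v, Finset.smul_sum, Finset.smul_sum]
    refine Finset.sum_congr rfl fun Y _ => ?_
    have hx : (t Y)⁻¹ • comp v Y ∈ X := by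
      have := hcompY v Y
      rwa [← ht Y, AddSubgroup.mem_pointwise_smul_iff_inv_smul_mem] at this
    have e : ((t Y)⁻¹ * (k : H) * t Y) • (t Y)⁻¹ • comp v Y = ((t Y)⁻¹ * (l : H) * t Y) • (t Y)⁻¹ • comp v Y :=
      congrArg (fun g : L => ((g • (⟨_, hx⟩ : X) : X) : V)) (h Y)
    rw [mul_smul, mul_smul, mul_smul, mul_smul, smul_inv_smul] at e
    exact (MulAction.injective (t Y)⁻¹) e
  set K₀ : Subgroup σ.ker := ⨅ Y, C.comap (ρ Y) with hK₀
  set A₀ : Subgroup σ.ker := ⨅ Y, M.comap (ρ Y) with hA₀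
  have hA₀K₀ : A₀ ≤ K₀ := iInf_mono fun Y => Subgroup.comap_mono hMC
  have hKidx : (K₀.map σ.ker.subtype).index ≤ ob m * d ^ m := by
    rw [Subgroup.index_map_subtype, mul_comm]
    refine Nat.mul_le_mul ?_ ?_
    · rw [Subgroup.index_ker]
      exact OB.transfer σ (Order.ob_all _)
    · refine (Subgroup.index_iInf_le _).trans ?_
      refine (Finset.prod_le_prod' (g := fun _ => d) fun Y _ => ?_).trans (le_of_eq ?_)
      · rw [Subgroup.index_comap]
        refine le_trans ?_ hindex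
        rw [← Subgroup.relIndex_top_right C]
        exact Subgroup.relIndex_le_of_le_right le_top (by
          rw [Subgroup.relIndex_top_right]; exact Subgroup.index_ne_zero_of_finite)
      · rw [Finset.prod_const, Finset.card_univ, ← Nat.card_eq_fintype_card]
  have hrel : (A₀.map σ.ker.subtype).relIndex (K₀.map σ.ker.subtype) ≤ (j * (e' * e')) ^ m := by
    rw [Subgroup.relIndex_map_map_of_injective _ _ (Subgroup.subtype_injective _)]
    refine Nat.le_of_mul_le_mul_left (?_ : Nat.card A₀ * _ ≤ Nat.card A₀ * _) Nat.card_pos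
    have h := Subgroup.card_mul_index (A₀.subgroupOf K₀)
    rw [Nat.card_congr (Subgroup.subgroupOfEquivOfLe hA₀K₀).toEquiv] at h
    rw [Subgroup.relIndex, h, mul_comm]
    have hQ : Nat.card (C ⧸ M.subgroupOf C) = j * (e' * e') := by
      have h2 := Subgroup.card_eq_card_quotient_mul_card_subgroup (M.subgroupOf C)
      rw [Nat.card_congr (Subgroup.subgroupOfEquivOfLe hMC).toEquiv, hCcard] at h2
      exact (Nat.eq_of_mul_eq_mul_right Nat.card_pos h2).symm
    rw [← hQ, hm, ← Nat.card_fun]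
    refine card_le_fibre K₀ A₀ (fun k => fun Y => QuotientGroup.mk
      (⟨ρ Y k, Subgroup.mem_iInf.1 k.2 Y⟩ : C)) fun a c hac => ?_
    refine Subgroup.mem_iInf.2 fun Y => ?_
    have := QuotientGroup.eq.1 (congrFun hac Y)
    show ρ Y ((a : σ.ker)⁻¹ * c) ∈ M
    rw [map_mul, map_inv]
    exact this
  have hcentral : ∀ a ∈ A₀.map σ.ker.subtype, ∀ k ∈ K₀.map σ.ker.subtype, a * k = k * a := by
    rintro _ ⟨a, ha, rfl⟩ _ ⟨k, hk, rfl⟩
    refine congrArg Subtype.val (hρinj (a * k) (k * a) fun Y => ?_)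
    rw [map_mul, map_mul]
    exact hcen _ (Subgroup.mem_iInf.1 ha Y) _ (Subgroup.mem_iInf.1 hk Y)
  -- invariants of orbits
  have hinvt : ∀ (P : X → Prop), (∀ s : S, ∀ x : X, P (s • x) ↔ P x) → ∀ (a : H) (v : V),
      Nat.card {Y : Ψ // ∃ x : X, (x : V) = (t Y)⁻¹ • comp (a • v) Y ∧ P x} =
        Nat.card {Y : Ψ // ∃ x : X, (x : V) = (t Y)⁻¹ • comp v Y ∧ P x} := by
    intro P hP a v
    refine (Nat.card_congr (Equiv.subtypeEquiv (MulAction.toPerm a) fun Y => ?_)).symm
    show _ ↔ ∃ x : X, (x : V) = (t (a • Y))⁻¹ • comp (a • v) (a • Y) ∧ P x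
    have key : ∀ x : X, (x : V) = (t Y)⁻¹ • comp v Y →
        (((⟨_, htS a Y⟩ : S) • x : X) : V) = (t (a • Y))⁻¹ • comp (a • v) (a • Y) := fun x hx => by
      show ((t (a • Y))⁻¹ * a * t Y) • (x : V) = _
      rw [hx, mul_smul, mul_smul, smul_inv_smul, hcomp]
    constructor
    · rintro ⟨x, hx, hPx⟩
      exact ⟨_, key x hx, (hP _ x).2 hPx⟩
    · rintro ⟨y, hy, hPy⟩
      have hx : (t Y)⁻¹ • comp v Y ∈ X := by
        have := hcompY v Y
        rwa [← ht Y, AddSubgroup.mem_pointwise_smul_iff_inv_smul_mem] at this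
      refine ⟨⟨_, hx⟩, rfl, (hP ⟨_, htS a Y⟩ _).1 ?_⟩
      rwa [← Subtype.ext (hy.trans (key ⟨_, hx⟩ rfl).symm)]
  let ι : Fin m ≃ Ψ := (finCongr (show m = Fintype.card Ψ from Nat.card_eq_fintype_card)).trans (Fintype.equivFin Ψ).symm
  have hvec : ∀ f : Fin m → X, ∃ v : V, ∀ i, (t (ι i))⁻¹ • comp v (ι i) = (f i : V) := fun f => by
    refine ⟨∑ Y, t Y • (f (ι.symm Y) : V), fun i => ?_⟩
    rw [huniq (fun Y => t Y • (f (ι.symm Y) : V)) _ (fun Y => ?_) rfl, inv_smul_smul, Equiv.symm_apply_apply]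
    show t Y • _ ∈ (Y : AddSubgroup V)
    rw [← ht Y]
    exact AddSubgroup.smul_mem_pointwise_smul _ _ _ (f _).2
  choose vec hvec using hvec
  have hcount : ∀ (P : X → Prop) (f : Fin m → X),
      Nat.card {Y : Ψ // ∃ x : X, (x : V) = (t Y)⁻¹ • comp (vec f) Y ∧ P x} = Nat.card {i // P (f i)} := by
    intro P f
    refine (Nat.card_congr (Equiv.subtypeEquiv ι fun i => ?_)).symm
    rw [hvec]
    exact ⟨fun h => ⟨_, rfl, h⟩, fun ⟨x, hx, hPx⟩ => Subtype.ext hx ▸ hPx⟩
  have horbit : ∀ (P : X → Prop), (∀ s : S, ∀ x : X, P (s • x) ↔ P x) → ∀ f g : Fin m → X,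
      orbit H (vec f) = orbit H (vec g) → Nat.card {i // P (f i)} = Nat.card {i // P (g i)} := by
    intro P hP f g he
    obtain ⟨a, ha⟩ : vec g ∈ orbit H (vec f) := he ▸ mem_orbit_self _
    rw [← hcount P f, ← hcount P g, ← ha]
    exact (hinvt P hP a _).symm
  have hvne : ∀ f : Fin m → X, ∀ i, f i ≠ 0 → vec f ≠ 0 := fun f i hi h => hi (Subtype.ext (by
    rw [← hvec f i, h]; simp [comp]))
  obtain ⟨v₁, hv₁⟩ := exists_ne (0 : X)
  have hcardlt : ∀ k : ℕ, k ≤ m → Nat.card {i : Fin m // (i : ℕ) < k} = k := fun k hk => by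
    conv_rhs => rw [← Nat.card_fin k]
    exact Nat.card_congr ⟨fun i => ⟨i.1, i.2⟩, fun i => ⟨⟨i, lt_of_lt_of_le i.2 hk⟩, i.2⟩, fun _ => rfl, fun _ => rfl⟩
  have horb : m ≤ orb H V := by
    let f : Fin m → Fin m → X := fun k i => if (i : ℕ) < k + 1 then v₁ else 0
    have hcard : ∀ k : Fin m, Nat.card {i // f k i ≠ 0} = k + 1 := fun k => by
      rw [← hcardlt (k + 1) k.2]
      refine Nat.card_congr (Equiv.subtypeEquivRight fun i => ?_)
      simp only [f]
      split_ifs with h <;> simp [h, hv₁]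
    refine (Nat.card_fin m).symm.trans_le (le_orb (A := H) (fun k => (⟨vec (f k), hvne (f k) ⟨0, hm0⟩
      (by simp only [f]; rw [if_pos (Nat.succ_pos _)]; exact hv₁)⟩ : {v : V // v ≠ 0})) fun k l hkl => ?_)
    have := horbit (fun x => x ≠ 0) (fun s x => not_congr (smul_eq_zero_iff_eq s)) (f k) (f l) hkl
    rw [hcard, hcard] at this
    exact Fin.ext (by omega)
  refine ⟨m, d, e, e', j, A₀.map σ.ker.subtype, K₀.map σ.ker.subtype, Subgroup.map_mono hA₀K₀, hcentral,
    hm0, hd0, he0, he'0, hee, hj, hVcard, hKidx, hrel, h3, horb, ?_, ?_, h6, ?_⟩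
  · intro hm1 hd1 he2 hj6
    haveI : Subsingleton Ψ := Finite.card_le_one_iff_subsingleton.1 hm1.le
    have hXtop : ∀ v : V, v ∈ X := fun v => by
      rw [← hcompsum v]
      exact sum_mem fun Y _ => (Subsingleton.elim Y X₁) ▸ hcompY v Y
    have hStop : ∀ a : H, a ∈ S := fun a => by
      rw [hS, mem_stabilizer_iff]
      exact congrArg Subtype.val (Subsingleton.elim (⟨a • X, a, rfl⟩ : Ψ) X₁)
    let φ : H →* L := μ.rangeRestrict.comp
      { toFun := fun a => ⟨a, hStop a⟩, map_one' := rfl, map_mul' := fun _ _ => rfl }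
    have hφ : Function.Bijective φ := by
      refine ⟨fun a b h => eq_of_smul_eq_smul fun v : V =>
        congrArg (fun g : L => ((g • (⟨v, hXtop v⟩ : X) : X) : V)) h, ?_⟩
      rintro ⟨_, s, rfl⟩
      exact ⟨s, rfl⟩
    let φe := MulEquiv.ofBijective φ hφ
    have hCtop : C = ⊤ := Subgroup.index_eq_one.1 (by
      have := Subgroup.index_ne_zero_of_finite (H := C)
      omega)
    refine ⟨Nat.card M, ?_, ?_, ?_⟩
    · simpa [hd1] using hMdvd
    · rw [Nat.card_congr φe.toEquiv, ← Subgroup.card_top (G := L), ← hCtop, hCcard, he2, hj6]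
    · rw [Cfsg.Lib.Solv.ClassCount.card_classes_congr φe]
      exact h4 hd1 he2 hj6
  · intro hm4 hd1 he2 hp13
    have hnd : ¬ (Nat.card X - 1) ∣ Nat.card L := by
      rw [← Subgroup.card_mul_index C, hCcard, hXcard, hd1, he2, hp13]
      have hM12 : Nat.card M ∣ 12 := by simpa [hd1, hp13] using hMdvd
      have h7 : Nat.Prime 7 := by norm_num
      intro h
      have h' : 7 ∣ j * (e' * e') * Nat.card M * C.index := (show 7 ∣ 13 ^ (1 * 2) - 1 by norm_num).trans h
      rcases (Nat.Prime.dvd_mul h7).1 h' with h' | h'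
      swap
      · have := Subgroup.index_ne_zero_of_finite (H := C)
        have := Nat.le_of_dvd (by omega) h'
        omega
      rcases (Nat.Prime.dvd_mul h7).1 h' with h' | h'
      swap
      · exact absurd (h'.trans hM12) (by norm_num)
      have hj6 : j ≤ 6 := by
        have : e' = 1 ∨ e' = 2 := by omega
        rcases this with h1 | h1 <;> rw [h1] at hj <;> simp [gb] at hj <;> omega
      have hjpos : 0 < j := by
        rcases Nat.eq_zero_or_pos j with h0 | h0
        · exfalso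
          rw [h0, zero_mul, zero_mul] at hCcard
          exact Nat.card_pos.ne' hCcard
        · exact h0
      rcases (Nat.Prime.dvd_mul h7).1 h' with h' | h'
      · have := Nat.le_of_dvd hjpos h'
        omega
      · rcases (Nat.Prime.dvd_mul h7).1 h' with h' | h' <;>
          (have := Nat.le_of_dvd he'0 h'; omega)
    have hL2 := two_le_orb (A := L) (V := X) hnd (Finite.one_lt_card_iff_nontrivial.2 ‹_›)
    have hrng : Nontrivial (Set.range fun v : {v : X // v ≠ 0} => orbit L (v : X)) :=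
      Finite.one_lt_card_iff_nontrivial.1 hL2
    obtain ⟨⟨_, v, rfl⟩, ⟨_, w, rfl⟩, hne⟩ := hrng
    have hvw : orbit L (v : X) ≠ orbit L (w : X) := fun h => hne (Subtype.ext h)
    have hPs : ∀ (u : X), ∀ s : S, ∀ x : X, s • x ∈ orbit L u ↔ x ∈ orbit L u := fun u s x =>
      ⟨fun hx => by
        have := mem_orbit_of_mem_orbit (⟨μ s, s, rfl⟩ : L)⁻¹ hx
        rwa [← hμ s x, inv_smul_smul] at this,
       fun hx => by rw [← hμ s x]; exact mem_orbit_of_mem_orbit _ hx⟩
    let f : Fin 5 × Fin 5 → Fin m → X := fun ij i =>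
      if (i : ℕ) < ij.1 then (v : X) else if (i : ℕ) < ij.1 + ij.2 then (w : X) else 0
    have hv0 : ∀ u : {u : X // u ≠ 0}, (0 : X) ∉ orbit L (u : X) := fun u ⟨g, hg⟩ =>
      u.2 ((smul_eq_zero_iff_eq g).1 hg)
    have hwv : (w : X) ∉ orbit L (v : X) := fun h => hvw (orbit_eq_iff.2 h).symm
    have hvw' : (v : X) ∉ orbit L (w : X) := fun h => hvw (orbit_eq_iff.2 h)
    let T := {ij : Fin 5 × Fin 5 // 1 ≤ ij.1.val + ij.2.val ∧ ij.1.val + ij.2.val ≤ 4}
    have hT : Nat.card T = 14 := by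
      rw [Nat.card_eq_fintype_card, Fintype.card_subtype]; exact pairs_four
    rw [← hT]
    refine le_orb (A := H) (fun ij : T => (⟨vec (f ij.1), hvne (f ij.1) ⟨0, hm0⟩ ?_⟩ : {u : V // u ≠ 0})) ?_
    · simp only [f]
      split_ifs with h1 h2
      · exact v.2
      · exact w.2
      · have := ij.2.1
        omega
    rintro ⟨ij, hij⟩ ⟨kl, hkl⟩ h
    have c1 : ∀ ij : Fin 5 × Fin 5, ij.1.val + ij.2.val ≤ 4 →
        Nat.card {i // f ij i ∈ orbit L (v : X)} = ij.1.val := fun ij hle => by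
      rw [← hcardlt ij.1.val (by omega)]
      refine Nat.card_congr (Equiv.subtypeEquivRight fun i => ?_)
      simp only [f]
      split_ifs with h1 h2
      · simp [h1, mem_orbit_self]
      · simp [h1, hwv]
      · simp [h1, hv0]
    have c2 : ∀ ij : Fin 5 × Fin 5, ij.1.val + ij.2.val ≤ 4 →
        Nat.card {i // f ij i ≠ 0} = ij.1.val + ij.2.val := fun ij hle => by
      rw [← hcardlt (ij.1.val + ij.2.val) (by omega)]
      refine Nat.card_congr (Equiv.subtypeEquivRight fun i => ?_)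
      simp only [f]
      split_ifs with h1 h2
      · simp [v.2]; omega
      · simp [w.2, h2]
      · simp; omega
    have e1 := horbit (fun x => x ∈ orbit L (v : X)) (hPs v) (f ij) (f kl) h
    have e2 := horbit (fun x => x ≠ 0) (fun s x => not_congr (smul_eq_zero_iff_eq s)) (f ij) (f kl) h
    rw [c1 ij hij.2, c1 kl hkl.2] at e1
    rw [c2 ij hij.2, c2 kl hkl.2] at e2
    refine Subtype.ext (Prod.ext (Fin.ext e1) (Fin.ext ?_))
    show ij.2.val = kl.2.val
    omega
  · intro ℓ hℓ hdvd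
    by_contra hno
    push Not at hno
    obtain ⟨hℓm, hℓd, hℓe⟩ := hno
    have hnL : ¬ ℓ ∣ Nat.card L := by
      rw [← Subgroup.card_mul_index C, hCcard]
      intro h
      have hdpow : d < p ^ d := Nat.lt_pow_self hp.out.one_lt
      rcases hℓ.dvd_mul.1 h with h | h
      swap
      · have := Nat.le_of_dvd (Nat.pos_of_ne_zero Subgroup.index_ne_zero_of_finite) h
        omega
      rcases hℓ.dvd_mul.1 h with h | h
      swap
      · have := Nat.le_of_dvd (by omega) (h.trans hMdvd)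
        omega
      rcases hℓ.dvd_mul.1 h with h | h
      · have := hℓj ℓ hℓ h
        omega
      · rcases hℓ.dvd_mul.1 h with h | h <;>
          (have := Nat.le_of_dvd he'0 h
           have := Nat.le_mul_self e'
           omega)
    rw [← Subgroup.card_mul_index σ.ker, Subgroup.index_ker] at hdvd
    rcases hℓ.dvd_mul.1 hdvd with h | h
    · have h1 : ℓ ∣ Nat.card (Ψ → L) := h.trans
        (Subgroup.card_dvd_of_injective (MonoidHom.mk' (fun k : σ.ker => fun Y => ρ Y k)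
          fun k l => funext fun Y => map_mul _ _ _) fun k l hkl => hρinj k l (congrFun hkl))
      rw [Nat.card_fun] at h1
      exact hnL (hℓ.dvd_of_dvd_pow h1)
    · have h1 : ℓ ∣ Nat.card (Equiv.Perm Ψ) := h.trans (Subgroup.card_subgroup_dvd_card _)
      rw [Nat.card_perm, hℓ.dvd_factorial] at h1
      omega

end Cfsg.Lib.Solv.ClassLower
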