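import Cfsg.Agent.Lib.Solv.ClassLower.Basic

/-!
# The class number of a central extension of the symmetric group of degree four
-/

set_option autoImplicit false
set_option linter.style.haveILetI false
set_option linter.unusedSectionVars false

namespace Cfsg.Lib.Solv.ClassLower

open MulAction

theorem perm_three_counts : (Finset.univ.filter fun g : Equiv.Perm (Fin 3) => g ≠ 1 ∧ g * g = 1).card = 3 ∧
    (Finset.univ.filter fun g : Equiv.Perm (Fin 3) => g ≠ 1 ∧ g * g ≠ 1).card = 2 := by decide +kernel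

theorem perm_three_cube : ∀ g : Equiv.Perm (Fin 3), g ≠ 1 → g * g ≠ 1 → g * g * g = 1 := by decide +kernel

variable {G : Type} [Group G] [Finite G] (A N : Subgroup G)

/-- The order of a centraliser in terms of the first power in the central subgroup. -/
theorem mul_le_card_centralizer (hA : A ≤ Subgroup.center G) (x : G) (r : ℕ)
    (hr : ∀ i : ℕ, 0 < i → i < r → x ^ i ∉ A) :
    r * Nat.card A ≤ Nat.card (Subgroup.centralizer ({x} : Set G)) := by
  rw [← Nat.card_fin r, ← Nat.card_prod]
  refine Nat.card_le_card_of_injective (fun z => (⟨x ^ (z.1 : ℕ) * (z.2 : G),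
    Subgroup.mem_centralizer_singleton_iff.2 ?_⟩ : Subgroup.centralizer ({x} : Set G))) fun a b h => ?_
  · rw [mul_assoc, ← Subgroup.mem_center_iff.1 (hA z.2.2) x, ← mul_assoc, ← pow_succ, pow_succ', mul_assoc]
  · have h' : x ^ (a.1 : ℕ) * (a.2 : G) = x ^ (b.1 : ℕ) * (b.2 : G) := congrArg Subtype.val h
    have key : ∀ i j : ℕ, ∀ u v : A, i ≤ j → j < r → x ^ i * (u : G) = x ^ j * (v : G) → i = j := by
      intro i j u v hij hj e
      obtain ⟨d, rfl⟩ : ∃ d, j = i + d := ⟨j - i, by omega⟩
      rw [pow_add, mul_assoc, mul_right_inj] at e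
      by_contra hne
      refine hr d (by omega) (by omega) ?_
      rw [show x ^ d = (u : G) * (v : G)⁻¹ by rw [e, mul_inv_cancel_right]]
      exact mul_mem u.2 (inv_mem v.2)
    have h1 : (a.1 : ℕ) = b.1 := by
      rcases le_total (a.1 : ℕ) b.1 with hle | hle
      · exact key _ _ _ _ hle b.1.2 h'
      · exact (key _ _ _ _ hle a.1.2 h'.symm).symm
    rw [h1, mul_right_inj] at h'
    exact Prod.ext (Fin.ext h1) (Subtype.ext h')

/-- Central extensions of the symmetric group of degree four. -/
theorem card_classes_four [A.Normal] [N.Normal] (hA : A ≤ Subgroup.center G) [IsCyclic A] (hAN : A ≤ N)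
    (hN : Nat.card N = 4 * Nat.card A) (hsq : ∀ n ∈ N, n * n ∈ A) (hcm : ∀ m ∈ N, ∀ n ∈ N, m * n * m⁻¹ * n⁻¹ ∈ A)
    (hker : ∀ x ∉ N, ∃ n ∈ N, x⁻¹ * n * x * n⁻¹ ∉ A) (σ : G →* Equiv.Perm (Fin 3))
    (hσ : Function.Surjective σ) (hσk : σ.ker = N) : 4 * Nat.card A ≤ Nat.card (ConjClasses G) := by
  classical
  haveI := Fintype.ofFinite G
  set z := Nat.card A with hz
  have hzpos : 0 < z := Nat.card_pos
  have hmemN : ∀ x, x ∈ N ↔ σ x = 1 := fun x => by rw [← hσk, MonoidHom.mem_ker]
  have hfib : ∀ g : Equiv.Perm (Fin 3), (Finset.univ.filter fun x => σ x = g).card = 4 * z := fun g => by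
    obtain ⟨x₀, rfl⟩ := hσ g
    rw [← hN, Nat.card_eq_fintype_card, Fintype.card_subtype]
    exact (Finset.card_bij (fun n _ => x₀ * n) (fun n hn => by simp_all) (fun a _ b _ h => mul_left_cancel h)
      fun y hy => ⟨x₀⁻¹ * y, by simp_all, mul_inv_cancel_left _ _⟩).symm
  have hG : Nat.card G = 24 * z := by
    rw [← Subgroup.card_mul_index σ.ker, Subgroup.index_ker, hσk, hN,
      MonoidHom.range_eq_top.2 hσ, Subgroup.card_top, Nat.card_perm, Nat.card_fin]
    simp [Nat.factorial]; ring
  -- elements of the normal subgroup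
  have cN : ∀ x ∈ N, x ∉ A → 4 * z ≤ Nat.card (Subgroup.centralizer ({x} : Set G)) := by
    intro x hxN hxA
    haveI := Fintype.ofFinite A
    have horb : Nat.card (orbit (ConjAct G) x) ≤ 6 := by
      have hQ : Nat.card (N ⧸ A.subgroupOf N) = 4 := by
        have h := Subgroup.card_eq_card_quotient_mul_card_subgroup (A.subgroupOf N)
        rw [Nat.card_congr (Subgroup.subgroupOfEquivOfLe hAN).toEquiv, hN] at h
        exact (Nat.eq_of_mul_eq_mul_right hzpos h).symm
      let T := {q : N ⧸ A.subgroupOf N // q ≠ 1}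
      have hT : Nat.card T = 3 := by
        haveI := Fintype.ofFinite (N ⧸ A.subgroupOf N)
        rw [Nat.card_eq_fintype_card, Fintype.card_subtype_compl, Fintype.card_subtype_eq,
          ← Nat.card_eq_fintype_card, hQ]
      have hy : ∀ y : orbit (ConjAct G) x, ∃ g : G, g * x * g⁻¹ = (y : G) := fun y => by
        obtain ⟨g, hg⟩ := y.2
        exact ⟨ConjAct.ofConjAct g, by rw [← ConjAct.smul_def]; exact hg⟩
      choose gy hgy using hy
      have hyN : ∀ y : orbit (ConjAct G) x, (y : G) ∈ N := fun y =>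
        hgy y ▸ (inferInstance : N.Normal).conj_mem x hxN _
      have hyA : ∀ y : orbit (ConjAct G) x, (y : G) ∉ A := fun y h => hxA (by
        have := (inferInstance : A.Normal).conj_mem _ h (gy y)⁻¹
        rw [← hgy y] at this
        simpa [mul_assoc] using this)
      have hsqy : ∀ y : orbit (ConjAct G) x, (y : G) * y = x * x := fun y => by
        rw [← hgy y, show gy y * x * (gy y)⁻¹ * (gy y * x * (gy y)⁻¹) = gy y * (x * x) * (gy y)⁻¹ by group,
          Subgroup.mem_center_iff.1 (hA (hsq x hxN)) (gy y), mul_inv_cancel_right]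
      set r : T → G := fun q => (((q : N ⧸ A.subgroupOf N).out : N) : G)
      let f : orbit (ConjAct G) x → T := fun y =>
        ⟨QuotientGroup.mk (⟨y, hyN y⟩ : N), fun h => hyA y ((QuotientGroup.eq_one_iff (⟨(y : G), hyN y⟩ : N)).1 h)⟩
      have hfib' : ∀ q : T, Nat.card {y // f y = q} ≤ 2 := fun q => by
        rcases isEmpty_or_nonempty {y // f y = q} with h | ⟨⟨y₀, hy₀⟩⟩
        · simp
        have hd : ∀ y : {y // f y = q}, ((y₀ : G))⁻¹ * (y.1 : G) ∈ A := fun y => by
          have h := congrArg Subtype.val (hy₀.trans y.2.symm)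
          have h' : (⟨(y₀ : G), hyN y₀⟩ : N)⁻¹ * ⟨((y.1 : orbit (ConjAct G) x) : G), hyN y.1⟩ ∈ A.subgroupOf N :=
            QuotientGroup.eq.1 h
          exact h'
        have hd2 : ∀ y : {y // f y = q}, (⟨_, hd y⟩ : A) ^ 2 = 1 := fun y => Subtype.ext (by
          show (((y₀ : G))⁻¹ * (y.1 : G)) ^ 2 = 1
          have hc := Subgroup.mem_center_iff.1 (hA (hd y)) (y₀ : G)
          calc (((y₀ : G))⁻¹ * (y.1 : G)) ^ 2 = (y₀ : G)⁻¹ * ((y.1 : G) * ((y₀ : G)⁻¹ * y.1)) := by
                rw [pow_two, mul_assoc]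
            _ = (y₀ : G)⁻¹ * ((y₀ : G)⁻¹ * y.1) * (y.1 : G) := by
              rw [Subgroup.mem_center_iff.1 (hA (hd y)) (y.1 : G)]; group
            _ = (y₀ : G)⁻¹ * (y₀ : G)⁻¹ * ((y.1 : G) * y.1) := by group
            _ = 1 := by rw [hsqy y.1, ← hsqy y₀]; group)
        letI : CommGroup A := IsCyclic.commGroup
        calc Nat.card {y // f y = q} ≤ Nat.card {a : A // a ^ 2 = 1} :=
              Nat.card_le_card_of_injective (fun y => (⟨⟨_, hd y⟩, hd2 y⟩ : {a : A // a ^ 2 = 1}))
                fun y y' e => Subtype.ext (Subtype.ext (mul_left_cancel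
                  (congrArg (fun a : {a : A // a ^ 2 = 1} => ((a : A) : G)) e)))
          _ ≤ 2 := by
            rw [Nat.card_eq_fintype_card, Fintype.card_subtype]
            exact IsCyclic.card_pow_eq_one_le two_pos
      haveI := Fintype.ofFinite T
      rw [Nat.card_congr (Equiv.sigmaFiberEquiv f).symm, Nat.card_sigma]
      refine (Finset.sum_le_card_nsmul _ _ 2 fun q _ => hfib' q).trans ?_
      rw [Finset.card_univ, ← Nat.card_eq_fintype_card, hT]
      norm_num
    have h := Nat.card_congr (orbitProdStabilizerEquivGroup (ConjAct G) x)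
    rw [Nat.card_prod, show Nat.card (ConjAct G) = 24 * z from hG] at h
    have hst : Nat.card (stabilizer (ConjAct G) x) ≤ Nat.card (Subgroup.centralizer ({x} : Set G)) :=
      Nat.card_le_card_of_injective (fun g => (⟨ConjAct.ofConjAct (g : ConjAct G), by
        have hg := g.2
        rw [mem_stabilizer_iff, ConjAct.smul_def, mul_inv_eq_iff_eq_mul] at hg
        exact Subgroup.mem_centralizer_singleton_iff.2 hg⟩ : Subgroup.centralizer ({x} : Set G)))
        fun a b e => Subtype.ext (ConjAct.ofConjAct.injective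
          (congrArg (fun w : Subgroup.centralizer ({x} : Set G) => (w : G)) e))
    nlinarith
  -- a moved element for each coset
  have hmove : ∀ g : Equiv.Perm (Fin 3), ∃ n ∈ N, ∀ x, σ x = g → g ≠ 1 → x⁻¹ * n * x * n⁻¹ ∉ A := fun g => by
    by_cases hg : g = 1
    · exact ⟨1, one_mem _, fun x _ h => absurd hg h⟩
    obtain ⟨x₀, hx₀⟩ := hσ g
    obtain ⟨n, hn, hna⟩ := hker x₀ (fun h => hg (hx₀ ▸ (hmemN _).1 h))
    refine ⟨n, hn, fun x hx _ h => hna ?_⟩
    have hm : x₀⁻¹ * x ∈ N := (hmemN _).2 (by rw [map_mul, map_inv, hx₀, hx, inv_mul_cancel])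
    have hy : x₀⁻¹ * n * x₀ ∈ N := by simpa using (inferInstance : N.Normal).conj_mem n hn x₀⁻¹
    have hc := hcm _ (inv_mem hm) _ hy
    have e : x₀⁻¹ * n * x₀ * n⁻¹ = ((x₀⁻¹ * x)⁻¹ * (x₀⁻¹ * n * x₀) * (x₀⁻¹ * x) * (x₀⁻¹ * n * x₀)⁻¹)⁻¹ *
        (x⁻¹ * n * x * n⁻¹) := by group
    rw [e]
    exact mul_mem (inv_mem (by simpa using hc)) h
  choose n₀ hn₀ hn₀A using hmove
  -- the count
  let w : G → ℕ := fun x => if x ∈ A then 24 * z else if σ x = 1 then 4 * z
    else if σ x * σ x ≠ 1 then 3 * z else if x * x ∈ A then 2 * z else 4 * z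
  have hw : ∀ x, w x ≤ Nat.card (Subgroup.centralizer ({x} : Set G)) := fun x => by
    simp only [w]
    split_ifs with h1 h2 h3 h4
    · rw [← hG, ← Subgroup.card_top]
      exact Subgroup.card_le_of_le fun y _ =>
        Subgroup.mem_centralizer_singleton_iff.2 (Subgroup.mem_center_iff.1 (hA h1) y)
    · exact cN x ((hmemN x).2 h2) h1
    · refine mul_le_card_centralizer A hA x 3 fun i hi hi3 hmem => ?_
      have hσi : σ x ^ i = 1 := by rw [← map_pow]; exact (hmemN _).1 (hAN hmem)
      interval_cases i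
      · exact h2 (by simpa using hσi)
      · exact h3 (by rwa [pow_two] at hσi)
    · refine mul_le_card_centralizer A hA x 2 fun i hi hi2 hmem => ?_
      interval_cases i
      exact h1 (by simpa using hmem)
    · refine mul_le_card_centralizer A hA x 4 fun i hi hi4 hmem => ?_
      have hσi : σ x ^ i = 1 := by rw [← map_pow]; exact (hmemN _).1 (hAN hmem)
      push Not at h3
      interval_cases i
      · exact h2 (by simpa using hσi)
      · exact h4 (by rwa [pow_two] at hmem)
      · exact h2 (by rwa [pow_succ, pow_two, h3, one_mul] at hσi)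
  have hsum := Finset.sum_le_sum fun x (_ : x ∈ Finset.univ) => hw x
  rw [Cfsg.Lib.Solv.ClassCount.sum_centralizer, hG] at hsum
  have htot : 96 * z * z ≤ ∑ x, w x := by
    have hA' : (Finset.univ.filter fun x => x ∈ A).card = z := by
      rw [← Fintype.card_subtype, hz, Nat.card_eq_fintype_card]
    have hN' : (Finset.univ.filter fun x => ¬ x ∈ A ∧ σ x = 1).card = 3 * z := by
      have h := Finset.card_filter_add_card_filter_not (s := Finset.univ.filter fun x => σ x = 1) (fun x => x ∈ A)
      rw [hfib 1, Finset.filter_filter, Finset.filter_filter] at h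
      have e1 : (Finset.univ.filter fun x => σ x = 1 ∧ x ∈ A) = Finset.univ.filter fun x => x ∈ A :=
        Finset.filter_congr fun x _ => ⟨And.right, fun h => ⟨(hmemN x).1 (hAN h), h⟩⟩
      rw [e1, hA'] at h
      have e2 : (Finset.univ.filter fun x => ¬ x ∈ A ∧ σ x = 1) = Finset.univ.filter fun x => σ x = 1 ∧ ¬ x ∈ A :=
        Finset.filter_congr fun x _ => and_comm
      rw [e2]
      omega
    have hcount : ∀ P : Equiv.Perm (Fin 3) → Prop, [DecidablePred P] →
        (Finset.univ.filter fun x => P (σ x)).card = (Finset.univ.filter P).card * (4 * z) := fun P _ => by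
      rw [Finset.card_eq_sum_card_fiberwise (t := Finset.univ.filter P) (f := σ)
        (fun x hx => by simpa using hx), Finset.sum_congr rfl fun g hg => ?_, Finset.sum_const, smul_eq_mul]
      rw [Finset.filter_filter]
      refine (congrArg Finset.card (Finset.filter_congr fun x _ => ?_)).trans (hfib g)
      exact ⟨And.right, fun h => ⟨h ▸ (Finset.mem_filter.1 hg).2, h⟩⟩
    have h3' := hcount fun g => g ≠ 1 ∧ g * g ≠ 1
    have h2' := hcount fun g => g ≠ 1 ∧ g * g = 1
    rw [perm_three_counts.2] at h3'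
    rw [perm_three_counts.1] at h2'
    set bad := (Finset.univ.filter fun x => (σ x ≠ 1 ∧ σ x * σ x = 1) ∧ x * x ∈ A).card
    set good := (Finset.univ.filter fun x => (σ x ≠ 1 ∧ σ x * σ x = 1) ∧ ¬ x * x ∈ A).card
    have hgb : bad + good = 12 * z := by
      have h := Finset.card_filter_add_card_filter_not
        (s := Finset.univ.filter fun x => σ x ≠ 1 ∧ σ x * σ x = 1) (fun x => x * x ∈ A)
      rw [h2', Finset.filter_filter, Finset.filter_filter] at h
      omega
    have hbg : bad ≤ good := by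
      refine Finset.card_le_card_of_injOn (fun x => x * n₀ (σ x)) ?_ ?_
      · intro x hx
        simp only [Finset.coe_filter, Finset.mem_univ, true_and, Set.mem_setOf_eq] at hx ⊢
        obtain ⟨⟨hx1, hx2⟩, hx3⟩ := hx
        set n := n₀ (σ x)
        have hn : σ n = 1 := (hmemN n).1 (hn₀ _)
        refine ⟨by rw [map_mul, hn, mul_one]; exact ⟨hx1, hx2⟩, fun hmem => hn₀A _ x rfl hx1 ?_⟩
        have hn2 := hsq n (hn₀ _)
        have e : x⁻¹ * n * x * n⁻¹ = (x * x)⁻¹ * (x * n * (x * n)) * (n * n)⁻¹ := by group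
        rw [e]
        exact mul_mem (mul_mem (inv_mem hx3) hmem) (inv_mem hn2)
      · intro x _ y _ hxy
        have hσxy : σ x = σ y := by
          have h := congrArg σ hxy
          simpa [(hmemN _).1 (hn₀ _)] using h
        simp only [hσxy] at hxy
        exact mul_right_cancel hxy
    calc 96 * z * z ≤ z * (24 * z) + 3 * z * (4 * z) + 2 * (4 * z) * (3 * z) + bad * (2 * z) + good * (4 * z) := by
          nlinarith
      _ = ∑ x, ((if x ∈ A then 24 * z else 0) + (if ¬ x ∈ A ∧ σ x = 1 then 4 * z else 0) +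
            (if σ x ≠ 1 ∧ σ x * σ x ≠ 1 then 3 * z else 0) +
            (if (σ x ≠ 1 ∧ σ x * σ x = 1) ∧ x * x ∈ A then 2 * z else 0) +
            (if (σ x ≠ 1 ∧ σ x * σ x = 1) ∧ ¬ x * x ∈ A then 4 * z else 0)) := by
          simp only [Finset.sum_add_distrib, ← Finset.sum_filter, Finset.sum_const, smul_eq_mul, hA', hN', h3']
          rfl
      _ ≤ ∑ x, w x := Finset.sum_le_sum fun x _ => by
          by_cases h1 : x ∈ A
          · simp [w, h1, (hmemN x).1 (hAN h1)]
          by_cases h2 : σ x = 1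
          · simp [w, h1, h2]
          by_cases h3 : σ x * σ x = 1 <;> by_cases h4 : x * x ∈ A <;> simp [w, h1, h2, h3, h4]
  have : 96 * z * z ≤ Nat.card (ConjClasses G) * (24 * z) := htot.trans hsum
  by_contra hlt
  push Not at hlt
  nlinarith

end Cfsg.Lib.Solv.ClassLower
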