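import Cfsg.Agent.Lib.Solv.ClassCount.SympOrder
import Cfsg.Agent.Lib.Solv.ClassLower.FourPairs

/-!
# The centraliser of a maximal abelian normal subgroup, when that subgroup is cyclic
-/

set_option autoImplicit false
set_option linter.style.haveILetI false
set_option linter.unusedSectionVars false

namespace Cfsg.Lib.Solv.ClassLower

open Cfsg.Lib.Solv.ClassCount Cfsg.Lib.OddBase MulAction
open scoped commutatorElement Pointwise

variable {G : Type} [Group G] [Finite G]

/-- A normal subgroup of class two relative to a maximal abelian normal subgroup. -/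
theorem exists_relative_classTwo [Group.IsSolvable G] (M : Subgroup G) [hMnorm : M.Normal]
    (hMc : IsMulCommutative M)
    (hmax : ∀ B : Subgroup G, B.Normal → IsMulCommutative B → M ≤ B → B = M) :
    ∃ N : Subgroup G, N.Normal ∧ M ≤ N ∧ N ≤ Subgroup.centralizer (M : Set G) ∧
      (∀ x ∈ N, ∀ y ∈ N, ⁅x, y⁆ ∈ M) ∧
      Subgroup.centralizer (M : Set G) ⊓ Subgroup.centralizer (N : Set G) = M := by
  classical
  set C₀ := Subgroup.centralizer (M : Set G)
  have hMC : M ≤ C₀ := fun y hy => Subgroup.mem_centralizer_iff.2 fun g hg =>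
    congrArg Subtype.val (mul_comm' (⟨g, hg⟩ : M) ⟨y, hy⟩)
  haveI : C₀.Normal := Subgroup.normal_centralizer
  obtain ⟨N, hN⟩ := (Set.toFinite {N : Subgroup G | N.Normal ∧ M ≤ N ∧ N ≤ C₀ ∧
    ∀ x ∈ N, ∀ y ∈ N, ⁅x, y⁆ ∈ M}).exists_maximal ⟨M, hMnorm, le_rfl, hMC, fun x hx y hy => by
      rw [commutatorElement_def]
      exact mul_mem (mul_mem (mul_mem hx hy) (inv_mem hx)) (inv_mem hy)⟩
  obtain ⟨hNn, hMN, hNC, hcm⟩ := hN.prop
  haveI := hNn
  refine ⟨N, hNn, hMN, hNC, hcm, ?_⟩
  set D := C₀ ⊓ Subgroup.centralizer (N : Set G)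
  haveI : (Subgroup.centralizer (N : Set G)).Normal := Subgroup.normal_centralizer
  haveI hDn : D.Normal := Subgroup.normal_inf_normal _ _
  have hMD : M ≤ D := le_inf hMC fun y hy => Subgroup.mem_centralizer_iff.2 fun g hg =>
    (Subgroup.mem_centralizer_iff.1 (hNC hg) y hy).symm
  have hDN : D ⊓ N = M := hmax _ (Subgroup.normal_inf_normal _ _) ⟨⟨fun a b => Subtype.ext
    (Subgroup.mem_centralizer_iff.1 b.2.1.2 a a.2.2)⟩⟩ (le_inf hMD hMN)
  by_contra hne
  have hnle : ¬ D ≤ M := fun h => hne (le_antisymm h hMD)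
  obtain ⟨l, hl⟩ := (Group.isSolvable_def G).mp inferInstance
  have hex : ∃ k, D ⊓ derivedSeries G k ≤ M := ⟨l, by rw [hl]; simp⟩
  have hk0 : Nat.find hex ≠ 0 := fun h => by
    have := Nat.find_spec hex
    rw [h, derivedSeries_zero, inf_top_eq] at this
    exact hnle this
  obtain ⟨k, hk⟩ := Nat.exists_eq_succ_of_ne_zero hk0
  set D' := (D ⊓ derivedSeries G k) ⊔ M with hD'
  haveI : (D ⊓ derivedSeries G k).Normal := Subgroup.normal_inf_normal _ _
  haveI : D'.Normal := Subgroup.sup_normal _ _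
  let π := QuotientGroup.mk' M
  have hz : ∀ u : G, u ∈ M → π u = 1 := fun u hu => (QuotientGroup.eq_one_iff u).2 hu
  have hD'c : ∀ x ∈ D', ∀ y ∈ D', Commute (π x) (π y) := by
    intro x hx y hy
    obtain ⟨a, ha, u, hu, rfl⟩ := Subgroup.mem_sup_of_normal_right.mp hx
    obtain ⟨b, hb, v, hv, rfl⟩ := Subgroup.mem_sup_of_normal_right.mp hy
    rw [map_mul, map_mul, hz u hu, hz v hv, mul_one, mul_one]
    refine commutatorElement_eq_one_iff_mul_comm.1 ?_
    rw [← map_commutatorElement]
    have h2 := Nat.find_spec hex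
    rw [hk] at h2
    refine hz _ (h2 ⟨?_, ?_⟩)
    · have ha' : a ∈ D := (Subgroup.mem_inf.1 ha).1
      have hb' : b ∈ D := (Subgroup.mem_inf.1 hb).1
      rw [commutatorElement_def]
      show a * b * a⁻¹ * b⁻¹ ∈ D
      exact mul_mem (mul_mem (mul_mem ha' hb') (inv_mem ha')) (inv_mem hb')
    · rw [derivedSeries_succ]
      exact Subgroup.commutator_mem_commutator ha.2 hb.2
  have hD'D : D' ≤ D := sup_le inf_le_left hMD
  have hP : (N ⊔ D').Normal ∧ M ≤ N ⊔ D' ∧ N ⊔ D' ≤ C₀ ∧ ∀ x ∈ N ⊔ D', ∀ y ∈ N ⊔ D', ⁅x, y⁆ ∈ M := by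
    refine ⟨Subgroup.sup_normal _ _, hMN.trans le_sup_left, sup_le hNC (hD'D.trans inf_le_left),
      fun x hx y hy => ?_⟩
    obtain ⟨a, ha, u, hu, rfl⟩ := Subgroup.mem_sup_of_normal_right.mp hx
    obtain ⟨b, hb, v, hv, rfl⟩ := Subgroup.mem_sup_of_normal_right.mp hy
    rw [← QuotientGroup.eq_one_iff]
    show π ⁅a * u, b * v⁆ = 1
    rw [map_commutatorElement, map_mul, map_mul, commutatorElement_eq_one_iff_mul_comm]
    have h1 : Commute (π a) (π b) := commutatorElement_eq_one_iff_mul_comm.1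
      (by rw [← map_commutatorElement]; exact hz _ (hcm a ha b hb))
    have h2 : Commute (π a) (π v) := Commute.map (Subgroup.mem_centralizer_iff.1 (hD'D hv).2 a ha) π
    have h3 : Commute (π u) (π b) := (Commute.map (Subgroup.mem_centralizer_iff.1 (hD'D hu).2 b hb) π).symm
    exact ((h1.mul_right h2).mul_left (h3.mul_right (hD'c u hu v hv))).eq
  have hle : D' ≤ N := le_sup_right.trans (hN.le_of_ge hP le_sup_left)
  refine Nat.find_min hex (show k < Nat.find hex by omega) ?_
  rw [← hDN]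
  exact le_inf inf_le_left (le_sup_left.trans hle)

set_option maxHeartbeats 1000000 in
/-- The centraliser of a cyclic maximal abelian normal subgroup. -/
theorem centralizer_structure [Group.IsSolvable G] (M : Subgroup G) [hMnorm : M.Normal] [IsCyclic M]
    (hmax : ∀ B : Subgroup G, B.Normal → IsMulCommutative B → M ≤ B → B = M) :
    ∃ (N : Subgroup G) (e j : ℕ), M ≤ N ∧ N ≤ Subgroup.centralizer (M : Set G) ∧
      (∀ x ∈ N, ∀ y ∈ N, ⁅x, y⁆ ∈ M) ∧ (∀ x ∈ N, (∀ y ∈ N, ⁅x, y⁆ = 1) → x ∈ M) ∧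
      Nat.card N = e * e * Nat.card M ∧ j ≤ gb e ∧
      Nat.card (Subgroup.centralizer (M : Set G)) = j * Nat.card N ∧ (e = 3 → 3 ∣ Nat.card M) ∧
      (e = 2 → j = 6 → 4 * Nat.card M ≤ Nat.card (ConjClasses (Subgroup.centralizer (M : Set G)))) ∧
      (e = 2 → j ∣ 6) ∧ ∀ ℓ : ℕ, ℓ.Prime → ℓ ∣ j → ℓ ≤ e * e := by
  classical
  have hMc : IsMulCommutative M := inferInstance
  obtain ⟨N, hNn, hMN, hNC, hcm, hD⟩ := exists_relative_classTwo M hMc hmax
  haveI := hNn
  set C₀ := Subgroup.centralizer (M : Set G) with hC₀def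
  have hMC : M ≤ C₀ := hMN.trans hNC
  haveI hC₀n : C₀.Normal := Subgroup.normal_centralizer
  -- the quotient and the commutator form
  letI : CommGroup M := IsCyclic.commGroup
  set Mn := M.subgroupOf N
  haveI : Mn.Normal := Subgroup.Normal.subgroupOf hMnorm _
  let Q := N ⧸ Mn
  letI : CommGroup Q :=
    { (inferInstance : Group Q) with
      mul_comm := fun a b => by
        obtain ⟨x, rfl⟩ := QuotientGroup.mk_surjective a
        obtain ⟨y, rfl⟩ := QuotientGroup.mk_surjective b
        show QuotientGroup.mk (x * y) = QuotientGroup.mk (y * x)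
        rw [QuotientGroup.eq]
        have h := hcm _ (inv_mem y.2) _ (inv_mem x.2)
        rw [commutatorElement_def, inv_inv, inv_inv] at h
        show ((x * y)⁻¹ * (y * x) : N).1 ∈ M
        simpa [mul_assoc] using h }
  have hcen : ∀ z ∈ M, ∀ g ∈ C₀, g * z = z * g := fun z hz g hg => (Subgroup.mem_centralizer_iff.1 hg z hz).symm
  have hleft : ∀ x y w : N, ⁅((x * y : N) : G), (w : G)⁆ = ⁅(x : G), (w : G)⁆ * ⁅(y : G), (w : G)⁆ :=
    fun x y w => by
      have h := hcen _ (hcm _ y.2 _ w.2) x (hNC x.2)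
      calc ⁅((x * y : N) : G), (w : G)⁆ = (x : G) * ⁅(y : G), (w : G)⁆ * (x : G)⁻¹ * ⁅(x : G), (w : G)⁆ := by
            simp only [Subgroup.coe_mul, commutatorElement_def]; group
        _ = _ := by rw [h, mul_inv_cancel_right, ← hcen _ (hcm _ y.2 _ w.2) _ (hMC (hcm _ x.2 _ w.2))]
  have hright : ∀ x y w : N, ⁅(w : G), ((x * y : N) : G)⁆ = ⁅(w : G), (x : G)⁆ * ⁅(w : G), (y : G)⁆ :=
    fun x y w => by
      rw [← commutatorElement_inv, hleft, mul_inv_rev, commutatorElement_inv, commutatorElement_inv,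
        hcen _ (hcm _ w.2 _ x.2) _ (hMC (hcm _ w.2 _ y.2))]
  let b1 : N →* N →* M := MonoidHom.mk'
    (fun x => MonoidHom.mk' (fun y => (⟨⁅(x : G), (y : G)⁆, hcm _ x.2 _ y.2⟩ : M))
      fun y w => Subtype.ext (hright y w x))
    fun x y => MonoidHom.ext fun w => Subtype.ext (hleft x y w)
  have hb1 : Mn ≤ b1.ker := fun z hz => MonoidHom.ext fun y => Subtype.ext (by
    show ⁅(z : G), (y : G)⁆ = 1
    rw [commutatorElement_eq_one_iff_mul_comm]
    exact (hcen _ hz _ (hNC y.2)).symm)
  let b2 : Q →* N →* M := QuotientGroup.lift Mn b1 hb1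
  have hb2 : ∀ q : Q, Mn ≤ (b2 q).ker := fun q z hz => by
    obtain ⟨x, rfl⟩ := QuotientGroup.mk_surjective q
    refine Subtype.ext ?_
    show ⁅(x : G), (z : G)⁆ = 1
    rw [commutatorElement_eq_one_iff_mul_comm]
    exact hcen _ hz _ (hNC x.2)
  let b3 : Q → Q →* M := fun q => QuotientGroup.lift Mn (b2 q) (hb2 q)
  have hb3 : ∀ x y : N, ((b3 (QuotientGroup.mk x) (QuotientGroup.mk y) : M) : G) = ⁅(x : G), (y : G)⁆ :=
    fun x y => rfl
  let W := Additive Q
  let C := Additive M
  have hC : Thin C := fun n hn => by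
    haveI := Fintype.ofFinite M
    refine le_trans (Nat.card_le_card_of_injective (fun z : {z : C // n • z = 0} =>
      (⟨Additive.toMul z.1, congrArg Additive.toMul z.2⟩ : {m : M // m ^ n = 1}))
      fun z z' h => Subtype.ext (Additive.toMul.injective
        (congrArg (fun t : {m : M // m ^ n = 1} => (t : M)) h))) ?_
    rw [Nat.card_eq_fintype_card, Fintype.card_subtype]
    exact IsCyclic.card_pow_eq_one_le hn
  let B : Form W C :=
    { form := AddMonoidHom.mk' (fun x => MonoidHom.toAdditive (b3 (Additive.toMul x))) (fun x y => by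
        refine AddMonoidHom.ext fun w => congrArg Additive.ofMul ?_
        obtain ⟨x', hx'⟩ := QuotientGroup.mk_surjective (Additive.toMul x)
        obtain ⟨y', hy'⟩ := QuotientGroup.mk_surjective (Additive.toMul y)
        obtain ⟨w', hw'⟩ := QuotientGroup.mk_surjective (Additive.toMul w)
        show b3 (Additive.toMul x * Additive.toMul y) (Additive.toMul w) =
          b3 (Additive.toMul x) (Additive.toMul w) * b3 (Additive.toMul y) (Additive.toMul w)
        rw [← hx', ← hy', ← hw']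
        exact Subtype.ext (hleft x' y' w'))
      alt := fun x => by
        refine congrArg Additive.ofMul ?_
        obtain ⟨x', hx'⟩ := QuotientGroup.mk_surjective (Additive.toMul x)
        show b3 (Additive.toMul x) (Additive.toMul x) = 1
        rw [← hx']
        exact Subtype.ext (commutatorElement_self _)
      nondeg := fun x h => by
        obtain ⟨x', hx'⟩ := QuotientGroup.mk_surjective (Additive.toMul x)
        apply Additive.toMul.injective
        rw [← hx', toMul_zero, QuotientGroup.eq_one_iff]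
        show (x' : G) ∈ M
        rw [← hD]
        refine Subgroup.mem_inf.2 ⟨hNC x'.2, ?_⟩
        refine Subgroup.mem_centralizer_iff.2 fun y hy => ?_
        have h1 : b3 (Additive.toMul x) (QuotientGroup.mk (⟨y, hy⟩ : N)) = 1 :=
          congrArg Additive.toMul (h (Additive.ofMul (QuotientGroup.mk (⟨y, hy⟩ : N))))
        rw [← hx'] at h1
        exact (commutatorElement_eq_one_iff_mul_comm.1 (congrArg Subtype.val h1)).symm }
  -- the action
  let cjQ : G → Q →* Q := fun g => QuotientGroup.map Mn Mn (MulAut.conjNormal g).toMonoidHom fun z hz => by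
    show (g * (z : G) * g⁻¹) ∈ M
    exact (inferInstance : M.Normal).conj_mem _ hz g
  letI : DistribMulAction G W :=
    { smul := fun g x => Additive.ofMul (cjQ g (Additive.toMul x))
      one_smul := fun x => by
        obtain ⟨x', hx'⟩ := QuotientGroup.mk_surjective (Additive.toMul x)
        refine Additive.toMul.injective ?_
        show cjQ 1 (Additive.toMul x) = _
        rw [← hx']
        exact congrArg QuotientGroup.mk (Subtype.ext (by simp))
      mul_smul := fun g h x => by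
        obtain ⟨x', hx'⟩ := QuotientGroup.mk_surjective (Additive.toMul x)
        refine Additive.toMul.injective ?_
        show cjQ (g * h) (Additive.toMul x) = cjQ g (cjQ h (Additive.toMul x))
        rw [← hx']
        exact congrArg QuotientGroup.mk (Subtype.ext (by simp [mul_assoc]))
      smul_zero := fun g => congrArg Additive.ofMul (map_one (cjQ g))
      smul_add := fun g x y => congrArg Additive.ofMul (map_mul (cjQ g) _ _) }
  have hval : ∀ (g : G) (x y : W), ((Additive.toMul (B.form (g • x) (g • y)) : M) : G) =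
      g * ((Additive.toMul (B.form x y) : M) : G) * g⁻¹ := fun g x y => by
    obtain ⟨x', hx'⟩ := QuotientGroup.mk_surjective (Additive.toMul x)
    obtain ⟨y', hy'⟩ := QuotientGroup.mk_surjective (Additive.toMul y)
    show ((b3 (cjQ g (Additive.toMul x)) (cjQ g (Additive.toMul y)) : M) : G) =
      g * ((b3 (Additive.toMul x) (Additive.toMul y) : M) : G) * g⁻¹
    rw [← hx', ← hy']
    show ⁅g * (x' : G) * g⁻¹, g * (y' : G) * g⁻¹⁆ = g * ⁅(x' : G), (y' : G)⁆ * g⁻¹
    rw [← conjugate_commutatorElement]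
  have hinv : ∀ (c : C₀) (x y : W), B.form (c • x) (c • y) = B.form x y := fun c x y => by
    refine Additive.toMul.injective (Subtype.ext ((hval (c : G) x y).trans ?_))
    rw [hcen _ (Additive.toMul (B.form x y)).2 _ c.2, mul_inv_cancel_right]
  have hperpG : ∀ (U : AddSubgroup W), (∀ g : G, ∀ u ∈ U, g • u ∈ U) → ∀ g : G, ∀ u ∈ B.perp U,
      g • u ∈ B.perp U := fun U hU g u hu t ht => by
    have h := hval g (g⁻¹ • t) u
    rw [smul_inv_smul, hu _ (hU g⁻¹ t ht)] at h
    refine Additive.toMul.injective (Subtype.ext (h.trans ?_))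
    show g * 1 * g⁻¹ = 1
    rw [mul_one, mul_inv_cancel]
  -- the kernel
  set π := toPermHom C₀ W
  have hker : π.ker = N.subgroupOf C₀ := by
    have hle : N.subgroupOf C₀ ≤ π.ker := fun n hn => Equiv.ext fun x => by
      obtain ⟨x', hx'⟩ := QuotientGroup.mk_surjective (Additive.toMul x)
      refine Additive.toMul.injective ?_
      show cjQ (n : G) (Additive.toMul x) = Additive.toMul x
      rw [← hx']
      refine (QuotientGroup.eq.2 ?_).symm
      show (((x' : N) : G))⁻¹ * ((n : G) * x' * (n : G)⁻¹) ∈ M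
      rw [show ((x' : N) : G)⁻¹ * ((n : G) * x' * (n : G)⁻¹) = ⁅(x' : G)⁻¹, (n : G)⁆ by
        rw [commutatorElement_def]; group]
      exact hcm _ (inv_mem x'.2) _ hn
    refine (Subgroup.eq_of_le_of_card_ge hle ?_).symm
    have hd : ∀ k : π.ker, ∀ x : N, ((k : C₀) : G) * x * ((k : C₀) : G)⁻¹ * (x : G)⁻¹ ∈ M := fun k x => by
      have h := congrArg Additive.toMul (Equiv.congr_fun (MonoidHom.mem_ker.1 k.2)
        (Additive.ofMul (QuotientGroup.mk x : Q)))
      have h2 : (QuotientGroup.mk (MulAut.conjNormal ((k : C₀) : G) x) : Q) = QuotientGroup.mk x := h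
      rw [eq_comm, QuotientGroup.eq] at h2
      change (x : G)⁻¹ * (((k : C₀) : G) * x * ((k : C₀) : G)⁻¹) ∈ M at h2
      have h3 := hMnorm.conj_mem _ h2 x
      rwa [mul_inv_cancel_left] at h3
    let δ : π.ker → N →* M := fun k => MonoidHom.mk' (fun x => ⟨_, hd k x⟩) fun x y => Subtype.ext (by
      set k' : G := ((k : C₀) : G) with hk'
      show k' * ((x : G) * y) * k'⁻¹ * ((x : G) * y)⁻¹ =
        k' * x * k'⁻¹ * (x : G)⁻¹ * (k' * y * k'⁻¹ * (y : G)⁻¹)
      calc k' * ((x : G) * y) * k'⁻¹ * ((x : G) * y)⁻¹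
          = k' * x * k'⁻¹ * ((k' * y * k'⁻¹ * (y : G)⁻¹) * (x : G)⁻¹) := by group
        _ = k' * x * k'⁻¹ * ((x : G)⁻¹ * (k' * y * k'⁻¹ * (y : G)⁻¹)) := by
          rw [hcen _ (hd k y) (x : G)⁻¹ (hNC (inv_mem x.2))]
        _ = _ := by rw [← mul_assoc])
    have hδ : ∀ k, Mn ≤ (δ k).ker := fun k z hz => Subtype.ext (by
      show ((k : C₀) : G) * z * ((k : C₀) : G)⁻¹ * (z : G)⁻¹ = 1
      rw [hcen (z : G) hz _ (k : C₀).2, mul_inv_cancel_right, mul_inv_cancel])
    haveI := finite_hom W C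
    have h1 := card_le_fibre π.ker (M.subgroupOf C₀)
      (fun k => (MonoidHom.toAdditive (QuotientGroup.lift Mn (δ k) (hδ k)) : W →+ C))
      fun a c hac => by
        show (((a : C₀)⁻¹ * (c : C₀) : C₀) : G) ∈ M
        rw [← hD]
        refine Subgroup.mem_inf.2 ⟨((a : C₀)⁻¹ * (c : C₀)).2, Subgroup.mem_centralizer_iff.2 fun x hx => ?_⟩
        have h : δ a ⟨x, hx⟩ = δ c ⟨x, hx⟩ :=
          congrArg Additive.toMul (DFunLike.congr_fun hac (Additive.ofMul (QuotientGroup.mk (⟨x, hx⟩ : N) : Q)))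
        have h' : ((a : C₀) : G) * x * ((a : C₀) : G)⁻¹ * x⁻¹ = ((c : C₀) : G) * x * ((c : C₀) : G)⁻¹ * x⁻¹ :=
          congrArg Subtype.val h
        rw [mul_left_inj] at h'
        rw [Subgroup.coe_mul, Subgroup.coe_inv]
        calc x * (((a : C₀) : G)⁻¹ * (c : C₀)) =
            ((a : C₀) : G)⁻¹ * (((a : C₀) : G) * x * ((a : C₀) : G)⁻¹) * (c : C₀) := by group
          _ = ((a : C₀) : G)⁻¹ * (((c : C₀) : G) * x * ((c : C₀) : G)⁻¹) * (c : C₀) := by rw [h']
          _ = ((a : C₀) : G)⁻¹ * (c : C₀) * x := by group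
    have h2 := card_hom_le hC _ W rfl
    have h3 := Subgroup.card_eq_card_quotient_mul_card_subgroup Mn
    rw [Nat.card_congr (Subgroup.subgroupOfEquivOfLe hMN).toEquiv] at h3
    rw [Nat.card_congr (Subgroup.subgroupOfEquivOfLe hNC).toEquiv]
    rw [Nat.card_congr (Subgroup.subgroupOfEquivOfLe hMC).toEquiv] at h1
    calc Nat.card π.ker ≤ Nat.card (W →+ C) * Nat.card M := h1
      _ ≤ Nat.card W * Nat.card M := Nat.mul_le_mul_right _ h2
      _ = Nat.card N := h3.symm
  have hMN' : Nat.card N = Nat.card W * Nat.card M := by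
    have h3 := Subgroup.card_eq_card_quotient_mul_card_subgroup Mn
    rwa [Nat.card_congr (Subgroup.subgroupOfEquivOfLe hMN).toEquiv] at h3
  -- complete reducibility
  letI : DistribMulAction π.range W := rangeAct C₀ W
  haveI : Group.IsSolvable π.range := Group.isSolvable_of_surjective π.rangeRestrict_surjective
  have hndG : ∀ U : AddSubgroup W, (∀ g : G, ∀ u ∈ U, g • u ∈ U) → U ⊓ B.perp U = ⊥ := by
    intro U hU
    let M₀ : Subgroup N :=
      { carrier := {x | Additive.ofMul (QuotientGroup.mk x : Q) ∈ U ⊓ B.perp U}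
        one_mem' := (U ⊓ B.perp U).zero_mem
        mul_mem' := fun hx hy => (U ⊓ B.perp U).add_mem hx hy
        inv_mem' := fun hx => (U ⊓ B.perp U).neg_mem hx }
    have hMn : (M₀.map N.subtype).Normal := ⟨by
      rintro _ ⟨x, hx, rfl⟩ g
      exact ⟨MulAut.conjNormal g x, ⟨hU g _ hx.1, hperpG U hU g _ hx.2⟩, rfl⟩⟩
    have hMc' : IsMulCommutative (M₀.map N.subtype) := ⟨⟨by
      rintro ⟨_, x, hx, rfl⟩ ⟨_, y, hy, rfl⟩
      have h : b3 (QuotientGroup.mk x) (QuotientGroup.mk y) = 1 :=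
        congrArg Additive.toMul ((AddSubgroup.mem_inf.1 hy).2 _ (AddSubgroup.mem_inf.1 hx).1)
      exact Subtype.ext (commutatorElement_eq_one_iff_mul_comm.1 (congrArg Subtype.val h))⟩⟩
    have hle : M ≤ M₀.map N.subtype := fun m hm => ⟨⟨m, hMN hm⟩, by
      show Additive.ofMul (QuotientGroup.mk (⟨m, hMN hm⟩ : N) : Q) ∈ U ⊓ B.perp U
      rw [(QuotientGroup.eq_one_iff (⟨m, hMN hm⟩ : N)).2 hm]
      exact zero_mem _, rfl⟩
    refine eq_bot_iff.2 fun u hu => AddSubgroup.mem_bot.2 ?_
    obtain ⟨x, hx⟩ := QuotientGroup.mk_surjective (Additive.toMul u)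
    have h : (x : G) ∈ M₀.map N.subtype := ⟨x, by
      show Additive.ofMul (QuotientGroup.mk x : Q) ∈ U ⊓ B.perp U
      rw [hx]; exact hu, rfl⟩
    rw [hmax _ hMn hMc' hle] at h
    refine Additive.toMul.injective ?_
    rw [← hx, toMul_zero, QuotientGroup.eq_one_iff]
    exact h
  have hcr : CompletelyReducible π.range W := by
    set T := {U : AddSubgroup W | U ≠ ⊥ ∧ ∀ a : π.range, ∀ u ∈ U, a • u ∈ U}
    set S := ⨆ U ∈ {U : AddSubgroup W | Minimal (· ∈ T) U}, U with hS
    have hSi : ∀ g : G, ∀ u ∈ S, g • u ∈ S := by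
      intro g
      suffices h : S ≤ S.comap (DistribMulAction.toAddMonoidHom W g) from fun u hu => h hu
      refine iSup₂_le fun U hU => ?_
      have hmin : Minimal (· ∈ T) (g • U) := by
        have hmem : ∀ (h : G) (V : AddSubgroup W), V ∈ T → h • V ∈ T := by
          intro h V hV
          refine ⟨fun he => hV.1 ?_, ?_⟩
          · refine eq_bot_iff.2 fun v hv => AddSubgroup.mem_bot.2 ?_
            have h1 := AddSubgroup.smul_mem_pointwise_smul v h V hv
            rw [he, AddSubgroup.mem_bot] at h1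
            exact (smul_eq_zero_iff_eq h).1 h1
          rintro ⟨_, c, rfl⟩ u hu
          obtain ⟨v, hv, rfl⟩ := (AddSubgroup.mem_smul_pointwise_iff_exists _ _ _).1 hu
          show (c : G) • h • v ∈ h • V
          have hc' : h⁻¹ * (c : G) * h ∈ C₀ := by simpa using hC₀n.conj_mem _ c.2 h⁻¹
          have h1 := hV.2 ⟨_, ⟨_, hc'⟩, rfl⟩ v hv
          rw [show (c : G) • h • v = h • (h⁻¹ * (c : G) * h) • v by
            rw [smul_smul, smul_smul]; congr 1; group]
          exact AddSubgroup.smul_mem_pointwise_smul _ _ _ h1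
        refine ⟨hmem g U hU.prop, fun V hV hle x hx => ?_⟩
        have h1 : g⁻¹ • V ≤ U := fun y hy => by
          obtain ⟨v, hv, rfl⟩ := (AddSubgroup.mem_smul_pointwise_iff_exists _ _ _).1 hy
          obtain ⟨u, hu, rfl⟩ := (AddSubgroup.mem_smul_pointwise_iff_exists _ _ _).1 (hle hv)
          rwa [inv_smul_smul]
        have h2 := hU.le_of_le (hmem g⁻¹ V hV) h1
        obtain ⟨u, hu, rfl⟩ := (AddSubgroup.mem_smul_pointwise_iff_exists _ _ _).1 hx
        have h3 := h2 hu
        rwa [AddSubgroup.mem_pointwise_smul_iff_inv_smul_mem, inv_inv] at h3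
      exact fun u hu => le_iSup₂ (f := fun U (_ : U ∈ {U : AddSubgroup W | Minimal (· ∈ T) U}) => U) (g • U) hmin
        (AddSubgroup.smul_mem_pointwise_smul u g U hu)
    have hmin : ∀ X : AddSubgroup W, X ∈ T → ∃ U, Minimal (· ∈ T) U ∧ U ≤ X := fun X hX => by
      obtain ⟨U, hle, hU⟩ := (Set.toFinite T).exists_le_minimal hX
      exact ⟨U, hU, hle⟩
    have hTperp : ∀ X : AddSubgroup W, (∀ a : π.range, ∀ u ∈ X, a • u ∈ X) →
        ∀ a : π.range, ∀ u ∈ B.perp X, a • u ∈ B.perp X := by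
      rintro X hX ⟨_, c, rfl⟩ u hu t ht
      show B.form t (c • u) = 0
      rw [← hinv c⁻¹, show c⁻¹ • c • u = u from inv_smul_smul c u]
      exact hu _ (hX ⟨_, c⁻¹, rfl⟩ t ht)
    have hStop : S = ⊤ := by
      have hSd := hndG S hSi
      have hP : B.perp S = ⊥ := by
        by_contra hne
        have hPi : B.perp S ∈ T := ⟨hne, hTperp S fun a u hu => by
          obtain ⟨_, c, rfl⟩ := a
          exact hSi (c : G) u hu⟩
        obtain ⟨U, hU, hle⟩ := hmin _ hPi
        refine hU.prop.1 (eq_bot_iff.2 fun u hu => hSd ▸ ⟨?_, hle hu⟩)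
        exact le_iSup₂ (f := fun U (_ : U ∈ {U : AddSubgroup W | Minimal (· ∈ T) U}) => U) U hU hu
      have h := B.sup_perp hC hSd
      rwa [hP, sup_bot_eq] at h
    intro U hU
    obtain ⟨X, hX⟩ := (Set.toFinite {X : AddSubgroup W | (∀ a : π.range, ∀ u ∈ X, a • u ∈ X) ∧ U ⊓ X = ⊥}).exists_maximal
      ⟨⊥, fun a u hu => by rw [AddSubgroup.mem_bot.1 hu, smul_zero]; exact zero_mem _, inf_bot_eq _⟩
    refine ⟨X, hX.prop.1, hX.prop.2, ?_⟩
    by_contra hne
    have : ∃ V, Minimal (· ∈ T) V ∧ ¬ V ≤ U ⊔ X := by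
      by_contra hall
      push Not at hall
      exact hne (top_le_iff.1 (hStop ▸ iSup₂_le fun V hV => hall V hV))
    obtain ⟨V, hV, hVn⟩ := this
    have hUX : ∀ a : π.range, ∀ u ∈ U ⊔ X, a • u ∈ U ⊔ X := fun a u hu => by
      obtain ⟨s, hs, t, ht, rfl⟩ := AddSubgroup.mem_sup.1 hu
      rw [smul_add]
      exact AddSubgroup.add_mem_sup (hU a s hs) (hX.prop.1 a t ht)
    have hVX : V ⊓ (U ⊔ X) = ⊥ := by
      by_contra h
      exact hVn ((hV.le_of_le ⟨h, fun a u hu => ⟨hV.prop.2 a u hu.1, hUX a u hu.2⟩⟩ inf_le_left).trans inf_le_right)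
    have h1 : X ⊔ V ≤ X := hX.le_of_ge ⟨fun a u hu => by
      obtain ⟨s, hs, t, ht, rfl⟩ := AddSubgroup.mem_sup.1 hu
      rw [smul_add]
      exact AddSubgroup.add_mem_sup (hX.prop.1 a s hs) (hV.prop.2 a t ht), eq_bot_iff.2 fun u hu => by
        obtain ⟨s, hs, t, ht, rfl⟩ := AddSubgroup.mem_sup.1 hu.2
        have ht0 : t = 0 := AddSubgroup.mem_bot.1 (hVX ▸ AddSubgroup.mem_inf.2 ⟨ht, by
          have := sub_mem (AddSubgroup.mem_sup_left (T := X) hu.1) (AddSubgroup.mem_sup_right (S := U) hs)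
          rwa [add_sub_cancel_left] at this⟩)
        rw [ht0, add_zero] at hu ⊢
        exact hX.prop.2 ▸ ⟨hu.1, hs⟩⟩ le_sup_left
    exact hVn ((le_sup_right.trans h1).trans le_sup_right)
  obtain ⟨e, he, hA⟩ := card_le_gb _ π.range W C B hC rfl
    (by rintro ⟨_, c, rfl⟩ x y; exact hinv c x y) hcr
  refine ⟨N, e, Nat.card π.range, hMN, hNC, hcm, fun x hx h => ?_, by rw [hMN', he], hA, ?_, fun he3 => ?_, fun he2 hj => ?_,
    fun he2 => ?_, fun ℓ hℓ hd => ?_⟩
  · rw [← hD]
    exact Subgroup.mem_inf.2 ⟨hNC hx, Subgroup.mem_centralizer_iff.2 fun y hy =>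
      (commutatorElement_eq_one_iff_mul_comm.1 (h y hy)).symm⟩
  · rw [← Subgroup.card_mul_index π.ker, Subgroup.index_ker, hker,
      Nat.card_congr (Subgroup.subgroupOfEquivOfLe hNC).toEquiv, mul_comm]
  · haveI := Fact.mk Nat.prime_three
    haveI := Fintype.ofFinite W
    obtain ⟨x, hx⟩ := exists_prime_addOrderOf_dvd_card (G := W) 3
      (by rw [← Nat.card_eq_fintype_card, he, he3]; norm_num)
    obtain ⟨y, hy⟩ := B.exists_ne (x := x) (fun h => by rw [h, addOrderOf_zero] at hx; omega)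
    have h3 : addOrderOf (B.form x y) = 3 := addOrderOf_eq_prime (by
      rw [← AddMonoidHom.nsmul_apply, ← map_nsmul, ← hx, addOrderOf_nsmul_eq_zero, map_zero,
        AddMonoidHom.zero_apply]) hy
    exact h3 ▸ addOrderOf_dvd_natCard (B.form x y)
  · have hW4 : Nat.card W = 4 := by rw [he, he2]
    have hexp : ∀ w : W, (2 : ℕ) • w = 0 := by
      intro w
      have hd : addOrderOf w ∣ 2 ^ 2 := by
        rw [show (2 : ℕ) ^ 2 = Nat.card W by rw [hW4]; norm_num]
        exact addOrderOf_dvd_natCard w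
      obtain ⟨i, hi, hi'⟩ := (Nat.dvd_prime_pow Nat.prime_two).1 hd
      rcases Nat.lt_or_ge i 2 with h | h
      · exact addOrderOf_dvd_iff_nsmul_eq_zero.1 (hi' ▸ (by interval_cases i <;> norm_num))
      exfalso
      have h4 : addOrderOf w = 4 := by rw [hi', show i = 2 by omega]; norm_num
      have hz : w = 0 := B.nondeg w fun y => by
        have hy : y ∈ AddSubgroup.zmultiples w := by
          rw [AddSubgroup.eq_top_of_card_eq (AddSubgroup.zmultiples w) (by rw [Nat.card_zmultiples, h4, hW4])]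
          trivial
        obtain ⟨k, rfl⟩ := AddSubgroup.mem_zmultiples_iff.1 hy
        rw [map_zsmul, B.alt, zsmul_zero]
      rw [hz, addOrderOf_zero] at h4
      omega
    have hsq : ∀ n ∈ N, n * n ∈ M := fun n hn => by
      have h := congrArg Additive.toMul (hexp (Additive.ofMul (QuotientGroup.mk (⟨n, hn⟩ : N) : Q)))
      have h2 : (QuotientGroup.mk ((⟨n, hn⟩ : N) * ⟨n, hn⟩) : Q) = 1 := by
        rw [QuotientGroup.mk_mul]
        apply Additive.ofMul.injective
        simpa [two_nsmul] using h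
      exact (QuotientGroup.eq_one_iff ((⟨n, hn⟩ : N) * ⟨n, hn⟩)).1 h2
    set M' := M.subgroupOf C₀
    set N' := N.subgroupOf C₀
    haveI : M'.Normal := hMnorm.subgroupOf _
    haveI : N'.Normal := hNn.subgroupOf _
    have hcM : Nat.card M' = Nat.card M := Nat.card_congr (Subgroup.subgroupOfEquivOfLe hMC).toEquiv
    haveI : IsCyclic M' := isCyclic_of_surjective (Subgroup.subgroupOfEquivOfLe hMC).symm.toMonoidHom
      (Subgroup.subgroupOfEquivOfLe hMC).symm.surjective
    haveI := Fintype.ofFinite W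
    have hne : Nat.card {w : W // w ≠ 0} = 3 := by
      rw [Nat.card_eq_fintype_card, Fintype.card_subtype_compl, Fintype.card_subtype_eq,
        ← Nat.card_eq_fintype_card, hW4]
    let ε : {w : W // w ≠ 0} ≃ Fin 3 := (Finite.equivFin _).trans (finCongr hne)
    let σ : C₀ →* Equiv.Perm (Fin 3) := ε.permCongrHom.toMonoidHom.comp
      (Cfsg.Lib.Solv.ClassCount.restrictHom π (fun w => w ≠ 0) fun c w => smul_ne_zero_iff_ne c)
    have hσk : σ.ker = N' := by
      rw [show N' = π.ker from hker.symm]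
      ext c
      constructor
      · intro hc
        refine MonoidHom.mem_ker.2 (Equiv.ext fun w => ?_)
        rcases eq_or_ne w 0 with rfl | hw
        · exact smul_zero c
        have h : (Cfsg.Lib.Solv.ClassCount.restrictHom π (fun w => w ≠ 0) fun c w => smul_ne_zero_iff_ne c) c = 1 :=
          ε.permCongrHom.injective (by rw [map_one]; exact hc)
        exact congrArg Subtype.val (Equiv.congr_fun h ⟨w, hw⟩)
      · intro hc
        refine MonoidHom.mem_ker.2 ?_
        show ε.permCongrHom _ = 1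
        rw [show (Cfsg.Lib.Solv.ClassCount.restrictHom π (fun w => w ≠ 0) fun c w => smul_ne_zero_iff_ne c) c = 1 from
          Equiv.ext fun w => Subtype.ext (Equiv.congr_fun (MonoidHom.mem_ker.1 hc) (w : W)), map_one]
    have hσ : Function.Surjective σ := by
      rw [← MonoidHom.range_eq_top]
      refine Subgroup.eq_top_of_card_eq _ ?_
      have h1 : Nat.card σ.range = Nat.card π.range := by
        rw [← Subgroup.index_ker, ← Subgroup.index_ker, hσk, hker]
      rw [h1, hj, Nat.card_perm, Nat.card_fin]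
      rfl
    rw [← hcM]
    refine card_classes_four M' N' (fun m hm => Subgroup.mem_center_iff.2 fun g => Subtype.ext (hcen _ hm _ g.2))
      (fun m hm => hMN hm) ?_ (fun n hn => hsq _ hn) (fun a ha b hb => ?_) (fun x hx => ?_) σ hσ hσk
    · rw [Nat.card_congr (Subgroup.subgroupOfEquivOfLe hNC).toEquiv, hMN', hW4, hcM]
    · have := hcm _ ha _ hb
      rwa [commutatorElement_def] at this
    · by_contra hall
      push Not at hall
      refine hx (hker ▸ MonoidHom.mem_ker.2 (Equiv.ext fun w => ?_))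
      obtain ⟨n, hn⟩ := QuotientGroup.mk_surjective (Additive.toMul w)
      refine Additive.toMul.injective ?_
      show cjQ (x : G) (Additive.toMul w) = Additive.toMul w
      rw [← hn]
      refine (QuotientGroup.eq.2 ?_).symm
      show (n : G)⁻¹ * ((x : G) * n * (x : G)⁻¹) ∈ M
      have hn' : (x : G) * n * (x : G)⁻¹ ∈ N := hNn.conj_mem _ n.2 _
      have h : (x : G)⁻¹ * ((x : G) * n * (x : G)⁻¹) * (x : G) * ((x : G) * n * (x : G)⁻¹)⁻¹ ∈ M :=
        hall ⟨_, hNC hn'⟩ hn'
      have h2 := hMnorm.conj_mem _ (inv_mem h) (n : G)⁻¹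
      convert h2 using 1
      group
  · have hW4 : Nat.card W = 4 := by rw [he, he2]
    haveI := Fintype.ofFinite W
    let R := Cfsg.Lib.Solv.ClassCount.restrictHom π (fun w => w ≠ 0) fun c w => smul_ne_zero_iff_ne c
    have hk : R.ker = π.ker := by
      ext c
      constructor
      · intro hc
        refine MonoidHom.mem_ker.2 (Equiv.ext fun w => ?_)
        rcases eq_or_ne w 0 with rfl | hw
        · exact smul_zero c
        exact congrArg Subtype.val (Equiv.congr_fun (MonoidHom.mem_ker.1 hc) ⟨w, hw⟩)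
      · intro hc
        exact MonoidHom.mem_ker.2 (Equiv.ext fun w => Subtype.ext (Equiv.congr_fun (MonoidHom.mem_ker.1 hc) (w : W)))
    rw [← Subgroup.index_ker, ← hk, Subgroup.index_ker]
    refine (Subgroup.card_subgroup_dvd_card _).trans (dvd_of_eq ?_)
    rw [Nat.card_perm, Nat.card_eq_fintype_card, Fintype.card_subtype_compl, Fintype.card_subtype_eq,
      ← Nat.card_eq_fintype_card, hW4]
    rfl
  · have h1 : ℓ ∣ Nat.card (Equiv.Perm W) := hd.trans (Subgroup.card_subgroup_dvd_card _)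
    rw [Nat.card_perm, hℓ.dvd_factorial, he] at h1
    exact h1

end Cfsg.Lib.Solv.ClassLower
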