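import Cfsg.Agent.Lib.Solv.ClassLower.Arith

/-!
# Arithmetic for a prime dividing the index of the Fitting subgroup
-/

set_option autoImplicit false

namespace Cfsg.Lib.Solv.ClassLower

open Cfsg.Lib.Solv.ClassCount

theorem cube_checks : ((List.range' 3 34).all fun L => decide (2 ^ (L + 1) ≤ (4 * L ^ 2 - 2) ^ 3)) = true := by
  decide +kernel

/-- The small primes. -/
theorem sq_le_log {p : ℕ} (hp : 2 ≤ p) (hle : p ≤ 4096) :
    p * p ≤ 4 * (p - 1) * (Nat.log 2 (p ^ 3) * Nat.log 2 (p ^ 3)) := by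
  set L := Nat.log 2 (p ^ 3)
  have h3 : 3 ≤ L := Nat.le_log_of_pow_le (by norm_num) (Nat.pow_le_pow_left hp 3)
  have h36 : L ≤ 36 := by
    refine (Nat.log_mono_right (Nat.pow_le_pow_left hle 3)).trans (le_of_eq ?_)
    rw [show (4096 : ℕ) ^ 3 = 2 ^ 36 by norm_num, Nat.log_pow (by norm_num)]
  have hc := List.all_eq_true.1 cube_checks L (List.mem_range'_1.2 ⟨h3, by omega⟩)
  rw [decide_eq_true_eq] at hc
  have hlt : p ^ 3 < (4 * L ^ 2 - 2) ^ 3 := (Nat.lt_pow_succ_log_self (by norm_num) _).trans_le hc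
  have hpL : p < 4 * L ^ 2 - 2 := lt_of_pow_lt_pow_left' 3 hlt
  obtain ⟨u, rfl⟩ : ∃ u, p = u + 2 := ⟨p - 2, by omega⟩
  rw [sq] at hpL
  obtain ⟨v, hv⟩ : ∃ v, 4 * (L * L) = u + 5 + v := ⟨4 * (L * L) - (u + 5), by omega⟩
  rw [show 4 * (u + 2 - 1) * (L * L) = (u + 1) * (4 * (L * L)) by rw [show u + 2 - 1 = u + 1 by omega]; ring, hv]
  nlinarith [Nat.zero_le (u * v)]

theorem six_le_pow {n : ℕ} (h : 37 ≤ n) : n ^ 6 ≤ 2592 ^ 3 * 2 ^ n := by
  induction n, h using Nat.le_induction with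
  | base => norm_num
  | succ n hn ih =>
    have h2 : (n + 1) ^ 6 ≤ 2 * n ^ 6 := by
      refine Nat.le_of_mul_le_mul_left (?_ : 37 ^ 6 * _ ≤ 37 ^ 6 * _) (by norm_num)
      calc 37 ^ 6 * (n + 1) ^ 6 = (37 * (n + 1)) ^ 6 := (mul_pow 37 (n + 1) 6).symm
        _ ≤ (38 * n) ^ 6 := Nat.pow_le_pow_left (by omega) 6
        _ = 38 ^ 6 * n ^ 6 := mul_pow 38 n 6
        _ ≤ 37 ^ 6 * 2 * n ^ 6 := Nat.mul_le_mul_right _ (by norm_num)
        _ = _ := by ring
    calc (n + 1) ^ 6 ≤ 2 * n ^ 6 := h2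
      _ ≤ 2 * (2592 ^ 3 * 2 ^ n) := Nat.mul_le_mul_left _ ih
      _ = _ := by ring

/-- An abelian centraliser of small index. -/
theorem abelian_arith {p r n N k o a : ℕ} (hr : 2 ≤ r) (hn : 37 ≤ n) (hNn : N ≤ n) (hp : p ^ 3 < 2 ^ N)
    (ha : 0 < a) (hk : a * a * 1 ≤ k * (a * (1 * N))) (ho : r ^ n - 1 ≤ o * (a * (1 * N))) :
    p ≤ 36 * (k + o) := by
  have h1 := amgm le_rfl hk ho ha
  rw [one_mul] at h1
  have hN : 0 < N := Nat.pos_of_ne_zero fun h => by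
    rw [h, pow_zero] at hp
    rw [h, mul_zero] at ho
    have : 2 ^ 1 ≤ r ^ n := (Nat.pow_le_pow_right (by norm_num) (by omega)).trans (Nat.pow_le_pow_left hr n)
    omega
  have h2 : p * p * (n * n) ≤ 2592 * r ^ n := by
    refine le_trans ?_ (Nat.mul_le_mul_left _ (Nat.pow_le_pow_left hr n))
    refine (Nat.pow_le_pow_iff_left (n := 3) (by norm_num)).1 ?_
    calc (p * p * (n * n)) ^ 3 = (p ^ 3) ^ 2 * n ^ 6 := by ring
      _ ≤ (2 ^ n) ^ 2 * (2592 ^ 3 * 2 ^ n) := Nat.mul_le_mul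
          (Nat.pow_le_pow_left (hp.le.trans (Nat.pow_le_pow_right (by norm_num) hNn)) 2) (six_le_pow hn)
      _ = (2592 * 2 ^ n) ^ 3 := by rw [mul_pow]; ring
  have h3 : r ^ n ≤ 2 * (r ^ n - 1) := by
    have : 2 ^ 1 ≤ r ^ n := (Nat.pow_le_pow_right (by norm_num) (by omega)).trans (Nat.pow_le_pow_left hr n)
    omega
  refine Nat.mul_self_le_mul_self_iff.1 (Nat.le_of_mul_le_mul_right
    (?_ : _ * (N * N) ≤ _ * (N * N)) (Nat.mul_pos hN hN))
  calc p * p * (N * N) ≤ p * p * (n * n) := Nat.mul_le_mul_left _ (Nat.mul_le_mul hNn hNn)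
    _ ≤ 1296 * (4 * (3 * 1 - 2) * (r ^ n - 1)) := by omega
    _ ≤ 1296 * ((k + o) * (k + o) * (1 * N * (1 * N))) := Nat.mul_le_mul_left _ (by simpa using h1)
    _ = _ := by ring

theorem six_le_four : ∀ d, 12 ≤ d → d ^ 3 ≤ 2 ^ d := by
  intro d hd
  induction d, hd using Nat.le_induction with
  | base => norm_num
  | succ d hd ih =>
    have h2 : (d + 1) ^ 3 ≤ 2 * d ^ 3 := by
      refine Nat.le_of_mul_le_mul_left (?_ : 12 ^ 3 * _ ≤ 12 ^ 3 * _) (by norm_num)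
      calc 12 ^ 3 * (d + 1) ^ 3 = (12 * (d + 1)) ^ 3 := (mul_pow 12 (d + 1) 3).symm
        _ ≤ (13 * d) ^ 3 := Nat.pow_le_pow_left (by omega) 3
        _ = 13 ^ 3 * d ^ 3 := mul_pow 13 d 3
        _ ≤ 12 ^ 3 * 2 * d ^ 3 := Nat.mul_le_mul_right _ (by norm_num)
        _ = _ := by ring
    calc (d + 1) ^ 3 ≤ 2 * d ^ 3 := h2
      _ ≤ 2 * 2 ^ d := Nat.mul_le_mul_left _ ih
      _ = _ := by ring

theorem base_two : ∀ d, 18 ≤ d → 729 * d ^ 6 ≤ 4 ^ d := by
  intro d hd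
  induction d, hd using Nat.le_induction with
  | base => norm_num
  | succ d hd ih =>
    have h2 : (d + 1) ^ 6 ≤ 4 * d ^ 6 := by
      refine Nat.le_of_mul_le_mul_left (?_ : 18 ^ 6 * _ ≤ 18 ^ 6 * _) (by norm_num)
      calc 18 ^ 6 * (d + 1) ^ 6 = (18 * (d + 1)) ^ 6 := (mul_pow 18 (d + 1) 6).symm
        _ ≤ (19 * d) ^ 6 := Nat.pow_le_pow_left (by omega) 6
        _ = 19 ^ 6 * d ^ 6 := mul_pow 19 d 6
        _ ≤ 18 ^ 6 * 4 * d ^ 6 := Nat.mul_le_mul_right _ (by norm_num)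
        _ = _ := by ring
    calc 729 * (d + 1) ^ 6 ≤ 729 * (4 * d ^ 6) := Nat.mul_le_mul_left _ h2
      _ ≤ 4 * 4 ^ d := by omega
      _ = _ := by ring

theorem base_three : ∀ d, 8 ≤ d → 729 * d ^ 6 * 2 ^ d ≤ 27 ^ d := by
  intro d hd
  induction d, hd using Nat.le_induction with
  | base => norm_num
  | succ d hd ih =>
    have h2 : (d + 1) ^ 6 ≤ 3 * d ^ 6 := by
      refine Nat.le_of_mul_le_mul_left (?_ : 8 ^ 6 * _ ≤ 8 ^ 6 * _) (by norm_num)
      calc 8 ^ 6 * (d + 1) ^ 6 = (8 * (d + 1)) ^ 6 := (mul_pow 8 (d + 1) 6).symm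
        _ ≤ (9 * d) ^ 6 := Nat.pow_le_pow_left (by omega) 6
        _ = 9 ^ 6 * d ^ 6 := mul_pow 9 d 6
        _ ≤ 8 ^ 6 * 3 * d ^ 6 := Nat.mul_le_mul_right _ (by norm_num)
        _ = _ := by ring
    calc 729 * (d + 1) ^ 6 * 2 ^ (d + 1) ≤ 729 * (3 * d ^ 6) * 2 ^ (d + 1) :=
          Nat.mul_le_mul_right _ (Nat.mul_le_mul_left _ h2)
      _ = 6 * (729 * d ^ 6 * 2 ^ d) := by ring
      _ ≤ 27 * 27 ^ d := Nat.mul_le_mul (by norm_num) ih
      _ = _ := by ring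

/-- The cubed middle condition when the field is large. -/
theorem cube_cond {r d e e' : ℕ} (hr : 2 ≤ r) (hd : 0 < d) (he' : 0 < e') (hee : e' ≤ e) (hR : 4096 < r ^ d)
    (hex : ¬ (r = 2 ∧ e = 1 ∧ d < 18)) :
    729 * (d * d * (e' * e' * gb e')) ^ 3 * 2 ^ (d * e) ≤ (r ^ d) ^ (3 * e) := by
  set R := r ^ d with hRdef
  have h2R : 2 ^ d ≤ R := Nat.pow_le_pow_left hr d
  have hd6 : d ^ 6 ≤ R ^ 2 := by
    rcases Nat.lt_or_ge d 12 with h | h
    · exact (Nat.pow_le_pow_left h.le 6).trans ((show 12 ^ 6 ≤ 4097 ^ 2 by norm_num).trans (Nat.pow_le_pow_left hR 2))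
    · calc d ^ 6 = (d ^ 3) ^ 2 := by ring
        _ ≤ R ^ 2 := Nat.pow_le_pow_left ((six_le_four d h).trans h2R) 2
  rcases Nat.lt_or_ge e' 2 with h1 | h2
  · obtain rfl : e' = 1 := by omega
    rw [show d * d * (1 * 1 * gb 1) = d ^ 2 by rw [show gb 1 = 1 from rfl]; ring, ← pow_mul]
    rcases Nat.lt_or_ge e 2 with he | he
    · obtain rfl : e = 1 := by omega
      rw [mul_one, mul_one]
      rcases Nat.lt_or_ge r 3 with h3 | h3
      · obtain rfl : r = 2 := by omega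
        have h18 : 18 ≤ d := by simpa using hex
        calc 729 * d ^ (2 * 3) * 2 ^ d ≤ 4 ^ d * 2 ^ d := Nat.mul_le_mul_right _ (base_two d h18)
          _ = R ^ 3 := by rw [hRdef, ← pow_mul, ← mul_pow, mul_comm d 3, pow_mul]; norm_num
      rcases Nat.lt_or_ge d 8 with h8 | h8
      · calc 729 * d ^ (2 * 3) * 2 ^ d ≤ 729 * 7 ^ 6 * 2 ^ 7 := by
              gcongr
              · omega
              · norm_num
              · omega
          _ ≤ 4097 ^ 3 := by norm_num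
          _ ≤ R ^ 3 := Nat.pow_le_pow_left hR 3
      · calc 729 * d ^ (2 * 3) * 2 ^ d ≤ 27 ^ d := base_three d h8
          _ ≤ R ^ 3 := by
            rw [hRdef, ← pow_mul, mul_comm d 3, pow_mul]
            exact Nat.pow_le_pow_left (le_trans (by norm_num) (Nat.pow_le_pow_left h3 3)) d
    calc 729 * d ^ (2 * 3) * 2 ^ (d * e) ≤ 729 * R ^ 2 * R ^ e := by
          rw [pow_mul 2 d e]
          exact Nat.mul_le_mul (Nat.mul_le_mul_left _ hd6) (Nat.pow_le_pow_left h2R e)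
      _ ≤ R * R ^ 2 * R ^ e := Nat.mul_le_mul_right _ (Nat.mul_le_mul_right _ (by omega))
      _ = R ^ (3 + e) := by ring
      _ ≤ R ^ (3 * e) := Nat.pow_le_pow_right (by omega) (by omega)
  have hτ : e' * e' * gb e' ≤ 24 * 11 ^ (e - 2) :=
    (middle_small h2).trans (Nat.mul_le_mul_left _ (Nat.pow_le_pow_right (by norm_num) (by omega)))
  obtain ⟨u, hu⟩ : ∃ u, e = u + 2 := ⟨e - 2, by omega⟩
  rw [hu, Nat.add_sub_cancel] at hτ
  calc 729 * (d * d * (e' * e' * gb e')) ^ 3 * 2 ^ (d * e)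
      ≤ 729 * (d * d * (24 * 11 ^ u)) ^ 3 * R ^ e := by
        rw [pow_mul 2 d e]
        exact Nat.mul_le_mul (Nat.mul_le_mul_left _ (Nat.pow_le_pow_left (Nat.mul_le_mul_left _ hτ) 3))
          (Nat.pow_le_pow_left h2R e)
    _ = (729 * 13824) * d ^ 6 * (1331 ^ u * R ^ e) := by
        rw [mul_pow, mul_pow, mul_pow, ← pow_mul 11 u 3, mul_comm u 3, pow_mul 11 3 u]; ring
    _ ≤ 4097 ^ 2 * R ^ 2 * (1331 ^ u * R ^ e) := Nat.mul_le_mul_right _ (Nat.mul_le_mul (by norm_num) hd6)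
    _ ≤ R ^ 2 * R ^ 2 * (R ^ (2 * u) * R ^ e) := by
        refine Nat.mul_le_mul (Nat.mul_le_mul_right _ (Nat.pow_le_pow_left hR 2)) (Nat.mul_le_mul_right _ ?_)
        rw [pow_mul]
        exact Nat.pow_le_pow_left (le_trans (by omega : 1331 ≤ R) (Nat.le_self_pow two_ne_zero R)) u
    _ = R ^ (3 * e) := by rw [hu]; ring

theorem exception_checks : ((List.range' 13 5).all fun d =>
    decide ((2 ^ d) ^ 2 * (9 * (d * d)) ^ 5 ≤ 23328 * (2 ^ d) ^ 5) && decide (9 * (d * d) ≤ 2 ^ d)) = true := by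
  decide +kernel

theorem large_checks : ∀ e, 65 ≤ e → 9 * e ^ 12 ≤ 23328 * 2 ^ e ∧ 9 * e ^ 8 ≤ 2 ^ e := by
  intro e he
  induction e, he using Nat.le_induction with
  | base => norm_num
  | succ e he ih =>
    have h2 : ∀ c, c ≤ 12 → (e + 1) ^ c ≤ 2 * e ^ c := fun c hc => by
      refine Nat.le_of_mul_le_mul_left (?_ : 65 ^ c * _ ≤ 65 ^ c * _) (by positivity)
      calc 65 ^ c * (e + 1) ^ c = (65 * (e + 1)) ^ c := (mul_pow 65 (e + 1) c).symm
        _ ≤ (66 * e) ^ c := Nat.pow_le_pow_left (by omega) c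
        _ = 66 ^ c * e ^ c := mul_pow 66 e c
        _ ≤ 65 ^ c * 2 * e ^ c := Nat.mul_le_mul_right _ (by interval_cases c <;> norm_num)
        _ = _ := by ring
    have h8 := h2 8 (by norm_num)
    have h12 := h2 12 le_rfl
    rw [pow_succ 2 e]
    omega

/-- The general bound for a centraliser with multiplicity. -/
theorem general_arith {p r m d e e' Y : ℕ} (hp : 4096 < p) (hr : 2 ≤ r) (hm : 0 < m) (hd : 0 < d)
    (he' : 0 < e') (hee : e' ≤ e) (hp6 : p ^ 6 < 2 ^ (d * e * m)) (hcase : p ≤ r ^ d ∨ p ≤ e' * e')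
    (hY : 36 * (r ^ (d * e * m) - 1) ≤ Y * Y * (9 * (d * d * (e' * e' * gb e'))) ^ m) : p ≤ 36 * Y := by
  set T := d * d * (e' * e' * gb e') with hT
  set D := d * e with hD
  have hT0 : 0 < T := by
    have hg : 0 < gb e' := by
      rcases Nat.lt_or_ge e' 2 with h | h
      · obtain rfl : e' = 1 := by omega
        decide
      rcases Nat.lt_or_ge e' 8 with h8 | h8
      · interval_cases e' <;> decide
      · rw [gb, if_neg (by omega)]
        exact Nat.div_pos (le_trans (by norm_num) (Nat.pow_le_pow_left h8 6)) (by norm_num)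
    positivity
  suffices hmain : p * p * (9 * T) ^ m ≤ 23328 * r ^ (D * m) by
    refine Nat.mul_self_le_mul_self_iff.1 (Nat.le_of_mul_le_mul_right
      (?_ : _ * (9 * T) ^ m ≤ _ * (9 * T) ^ m) (by positivity))
    have h3 : r ^ (D * m) ≤ 2 * (r ^ (D * m) - 1) := by
      have : 2 ^ 1 ≤ r ^ (D * m) := (Nat.pow_le_pow_right (by norm_num) (Nat.mul_pos (Nat.mul_pos hd (by omega)) hm)).trans
        (Nat.pow_le_pow_left hr _)
      omega
    calc p * p * (9 * T) ^ m ≤ 46656 * (r ^ (D * m) - 1) := by omega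
      _ = 1296 * (36 * (r ^ (D * m) - 1)) := by omega
      _ ≤ 1296 * (Y * Y * (9 * T) ^ m) := Nat.mul_le_mul_left _ hY
      _ = _ := by ring
  rcases Nat.lt_or_ge 4096 (r ^ d) with hR | hR
  · by_cases hex : r = 2 ∧ e = 1 ∧ d < 18
    · obtain ⟨rfl, rfl, hd18⟩ := hex
      obtain rfl : e' = 1 := by omega
      have hd13 : 13 ≤ d := by
        by_contra h
        have := Nat.pow_le_pow_right (show 0 < 2 by norm_num) (show d ≤ 12 by omega)
        omega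
      have hpR : p ≤ 2 ^ d := hcase.resolve_right (by omega)
      have hm5 : 5 ≤ m := by
        by_contra h
        have h1 : d * 1 * m ≤ 72 := (Nat.mul_le_mul (show d * 1 ≤ 17 by omega) (show m ≤ 4 by omega)).trans (by norm_num)
        have h2 := Nat.pow_le_pow_right (show 0 < 2 by norm_num) h1
        have h3 := Nat.pow_le_pow_left hp.le 6
        exact lt_irrefl _ (hp6.trans_le (h2.trans ((show (2 : ℕ) ^ 72 ≤ 4096 ^ 6 by norm_num).trans h3)))
      have hc := List.all_eq_true.1 exception_checks d (List.mem_range'_1.2 ⟨hd13, by omega⟩)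
      rw [Bool.and_eq_true, decide_eq_true_eq, decide_eq_true_eq] at hc
      obtain ⟨v, rfl⟩ : ∃ v, m = 5 + v := ⟨m - 5, by omega⟩
      rw [hT, hD, show gb 1 = 1 from rfl, mul_one, mul_one, mul_one, mul_one, pow_mul, pow_add, pow_add]
      calc p * p * ((9 * (d * d)) ^ 5 * (9 * (d * d)) ^ v)
          ≤ (2 ^ d) ^ 2 * (9 * (d * d)) ^ 5 * (2 ^ d) ^ v := by
            rw [← mul_assoc, sq]
            exact Nat.mul_le_mul (Nat.mul_le_mul_right _ (Nat.mul_le_mul hpR hpR)) (Nat.pow_le_pow_left hc.2 v)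
        _ ≤ 23328 * (2 ^ d) ^ 5 * (2 ^ d) ^ v := Nat.mul_le_mul_right _ hc.1
        _ = _ := by ring
    refine le_trans ?_ (Nat.le_mul_of_pos_left _ (by norm_num))
    refine (Nat.pow_le_pow_iff_left (n := 3) (by norm_num)).1 ?_
    calc (p * p * (9 * T) ^ m) ^ 3 = p ^ 6 * (729 * T ^ 3) ^ m := by
          rw [mul_pow, ← pow_mul, mul_comm m 3, pow_mul, mul_pow 9 T 3]; ring
      _ ≤ (2 ^ D) ^ m * (729 * T ^ 3) ^ m := Nat.mul_le_mul_right _ (by rw [← pow_mul]; exact hp6.le)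
      _ = (729 * T ^ 3 * 2 ^ (d * e)) ^ m := by rw [← mul_pow, mul_comm]
      _ ≤ ((r ^ d) ^ (3 * e)) ^ m := Nat.pow_le_pow_left (cube_cond hr hd he' hee hR hex) m
      _ = (r ^ (D * m)) ^ 3 := by rw [hD, ← pow_mul, ← pow_mul, ← pow_mul]; ring_nf
  have hpe : p ≤ e' * e' := hcase.resolve_left (by omega)
  have he65 : 65 ≤ e' := by
    by_contra h
    have := Nat.mul_le_mul (show e' ≤ 64 by omega) (show e' ≤ 64 by omega)
    omega
  have hT8 : T ≤ 4 ^ (d - 1) * e ^ 8 := by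
    refine Nat.mul_le_mul (sq_le_four_pow d hd) ?_
    calc e' * e' * gb e' ≤ e * e * e ^ 6 := by
          refine Nat.mul_le_mul (Nat.mul_le_mul hee hee) (le_trans ?_ (Nat.pow_le_pow_left hee 6))
          have := four_dvd_gb (a := e') (by omega)
          omega
      _ = _ := by ring
  have hpow : 2 ^ e * 4 ^ (d - 1) ≤ r ^ D := by
    refine le_trans ?_ (Nat.pow_le_pow_left hr D)
    rw [show (4 : ℕ) = 2 ^ 2 by norm_num, ← pow_mul, ← pow_add]
    refine Nat.pow_le_pow_right (by norm_num) ?_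
    obtain ⟨v, rfl⟩ : ∃ v, d = v + 1 := ⟨d - 1, by omega⟩
    have := Nat.mul_le_mul_left v (show 2 ≤ e by omega)
    rw [hD, Nat.add_sub_cancel, add_mul, one_mul]
    omega
  obtain ⟨hc1, hc2⟩ := large_checks e (by omega)
  obtain ⟨v, rfl⟩ : ∃ v, m = v + 1 := ⟨m - 1, by omega⟩
  rw [pow_mul, pow_succ', pow_succ', ← mul_assoc, ← mul_assoc 23328]
  refine Nat.mul_le_mul ?_ (Nat.pow_le_pow_left ?_ v)
  · calc p * p * (9 * T) ≤ e * e * (e * e) * (9 * (4 ^ (d - 1) * e ^ 8)) := by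
          have h1 : p ≤ e * e := hpe.trans (Nat.mul_le_mul hee hee)
          gcongr
      _ = 9 * e ^ 12 * 4 ^ (d - 1) := by ring
      _ ≤ 23328 * 2 ^ e * 4 ^ (d - 1) := Nat.mul_le_mul_right _ hc1
      _ ≤ _ := by rw [mul_assoc]; exact Nat.mul_le_mul_left _ hpow
  · calc 9 * T ≤ 9 * (4 ^ (d - 1) * e ^ 8) := Nat.mul_le_mul_left _ hT8
      _ = 9 * e ^ 8 * 4 ^ (d - 1) := by ring
      _ ≤ 2 ^ e * 4 ^ (d - 1) := Nat.mul_le_mul_right _ hc2
      _ ≤ _ := hpow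

end Cfsg.Lib.Solv.ClassLower
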