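import Cfsg.Agent.Lib.Solv.ClassLower.Main
import Cfsg.Agent.Lib.Core.PSolvable

/-!
# The class number of a solvable group whose order is divisible by the square of a prime
-/

set_option autoImplicit false
set_option linter.style.haveILetI false

namespace Cfsg.Lib.Solv.ClassLower

open Cfsg.Lib.Solv.ClassCount Cfsg.Lib.OddBase Cfsg.Lib.Core MulAction
open scoped commutatorElement IsMulCommutative

variable {G : Type} [Group G] [Finite G]

theorem card_classes_le_of_surjective {H : Type} [Group H] (f : G →* H) (hf : Function.Surjective f) :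
    Nat.card (ConjClasses H) ≤ Nat.card (ConjClasses G) :=
  Nat.card_le_card_of_surjective _ (ConjClasses.map_surjective (f := f) hf)

/-- A normal subgroup of prime order is centralised by commutators. -/
theorem commutator_centralizes {p : ℕ} [Fact p.Prime] {N : Subgroup G} [N.Normal] (hN : Nat.card N = p)
    (g h : G) {x : G} (hx : x ∈ N) : ⁅g, h⁆ * x = x * ⁅g, h⁆ := by
  haveI : IsCyclic N := isCyclic_of_prime_card hN
  let f : G → (N →* N) := fun a => (MulAut.conjNormal a).toMonoidHom
  have hf : ∀ (a b : G) (y : N), f a (f b y) = f b (f a y) := fun a b y => by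
    obtain ⟨i, hi⟩ := MonoidHom.map_cyclic (f a)
    obtain ⟨j, hj⟩ := MonoidHom.map_cyclic (f b)
    rw [hi, hj, hj, hi, ← zpow_mul, ← zpow_mul, mul_comm]
  have e : g * (h * (g⁻¹ * (h⁻¹ * x * h) * g) * h⁻¹) * g⁻¹ = h * (g * (g⁻¹ * (h⁻¹ * x * h) * g) * g⁻¹) * h⁻¹ := by
    have hy : g⁻¹ * (h⁻¹ * x * h) * g ∈ N := by
      have h1 : h⁻¹ * x * h ∈ N := by simpa using (inferInstance : N.Normal).conj_mem x hx h⁻¹
      simpa using (inferInstance : N.Normal).conj_mem _ h1 g⁻¹
    exact congrArg Subtype.val (hf g h ⟨_, hy⟩)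
  have e2 : g * (h * (g⁻¹ * (h⁻¹ * x * h) * g) * h⁻¹) * g⁻¹ = ⁅g, h⁆ * x * ⁅g, h⁆⁻¹ := by
    rw [commutatorElement_def]; group
  have e3 : h * (g * (g⁻¹ * (h⁻¹ * x * h) * g) * g⁻¹) * h⁻¹ = x := by group
  rw [e2, e3] at e
  exact mul_inv_eq_iff_eq_mul.1 e

/-- A step above a normal `p`-subgroup inside its centraliser. -/
theorem exists_central_step [Group.IsSolvable G] {p : ℕ} [hp : Fact p.Prime]
    (hmin : ∀ M : Subgroup G, IsMinNormal M → IsPGroup p M) {N : Subgroup G} [hNn : N.Normal]
    (hNp : IsPGroup p N) (hle : N ≤ Subgroup.centralizer (N : Set G))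
    (hne : ¬ Subgroup.centralizer (N : Set G) ≤ N) :
    ∃ (J : Subgroup G) (k : ℕ), J.Normal ∧ N ≤ J ∧ J ≤ Subgroup.centralizer (N : Set G) ∧ 0 < k ∧
      Nat.card J = p ^ k * Nat.card N := by
  classical
  set C := Subgroup.centralizer (N : Set G) with hC
  haveI : C.Normal := Subgroup.normal_centralizer
  set π := QuotientGroup.mk' N
  have hπ : Function.Surjective π := QuotientGroup.mk'_surjective N
  obtain ⟨M, hM, hMC⟩ := exists_isMinNormal (N := C.map π) (Subgroup.Normal.map inferInstance π hπ) (fun h => hne (by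
    rw [Subgroup.map_eq_bot_iff, QuotientGroup.ker_mk'] at h
    exact h))
  haveI := hM.1
  obtain ⟨hMc, r, hr, hMr, hMrg⟩ := minimal_solvable_elementary hM inferInstance
  haveI := Fact.mk hr
  set J := M.comap π with hJ
  haveI hJn : J.Normal := Subgroup.Normal.comap inferInstance π
  have hNJ : N ≤ J := fun x hx => by
    show π x ∈ M
    rw [QuotientGroup.mk'_apply, (QuotientGroup.eq_one_iff x).2 hx]; exact one_mem _
  have hJC : J ≤ C := by
    refine (Subgroup.comap_mono hMC).trans ?_
    rw [Subgroup.comap_map_eq, QuotientGroup.ker_mk']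
    exact sup_le le_rfl hle
  have hcard : Nat.card J = Nat.card M * Nat.card N := by
    have h := Subgroup.card_mul_index (π.subgroupComap M).ker
    rw [Subgroup.index_ker, MonoidHom.range_eq_top.2 (MonoidHom.subgroupComap_surjective_of_surjective π M hπ),
      Subgroup.card_top] at h
    rw [← h, mul_comm]
    congr 1
    refine Nat.card_congr ⟨fun x => ⟨(x : J), (QuotientGroup.eq_one_iff _).1 (congrArg Subtype.val (MonoidHom.mem_ker.1 x.2))⟩,
      fun x => ⟨⟨x, hNJ x.2⟩, MonoidHom.mem_ker.2 (Subtype.ext ((QuotientGroup.eq_one_iff _).2 x.2))⟩,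
      fun x => rfl, fun x => rfl⟩
  obtain ⟨k, hk⟩ := hMrg.exists_card_eq
  have hk0 : 0 < k := Nat.pos_of_ne_zero fun h => hM.2.1 (Subgroup.eq_bot_of_card_eq _ (by rw [hk, h, pow_zero]))
  rcases eq_or_ne r p with rfl | hrp
  · exact ⟨J, k, hJn, hNJ, hJC, hk0, by rw [hcard, hk]⟩
  exfalso
  have hcop : ∀ z : G, z ∈ N → z ^ r = 1 → z = 1 := fun z hz hzr => by
    obtain ⟨i, hi⟩ := hNp ⟨z, hz⟩
    have hi' : z ^ p ^ i = 1 := congrArg Subtype.val hi
    have h := pow_gcd_eq_one.2 ⟨hzr, hi'⟩
    rwa [Nat.Coprime.gcd_eq_one (Nat.Coprime.pow_right i ((Nat.coprime_primes hr hp.out).2 hrp)), pow_one] at h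
  have hxr : ∀ x ∈ J, x ^ r ∈ N := fun x hx => by
    rw [← QuotientGroup.eq_one_iff]
    exact (map_pow π x r).trans (hMr _ hx)
  have hab : ∀ x ∈ J, ∀ y ∈ J, x * y = y * x := fun x hx y hy => by
    set c := y * x * y⁻¹ * x⁻¹ with hc
    have hcN : c ∈ N := by
      rw [← QuotientGroup.eq_one_iff]
      show π c = 1
      rw [hc, map_mul, map_mul, map_mul, map_inv, map_inv]
      have h : π y * π x = π x * π y := congrArg Subtype.val (mul_comm' (⟨π y, hy⟩ : M) ⟨π x, hx⟩)
      rw [h, mul_inv_cancel_right, mul_inv_cancel]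
    have hcx : Commute c x := Subgroup.mem_centralizer_iff.1 (hJC hx) c hcN
    have h1 : (c * x) ^ r = x ^ r := by
      have h2 : c * x = y * x * y⁻¹ := by rw [hc]; group
      rw [h2, conj_pow]
      rw [← Subgroup.mem_centralizer_iff.1 (hJC hy) _ (hxr x hx), mul_inv_cancel_right]
    rw [hcx.mul_pow] at h1
    have h3 := hcop c hcN (mul_right_cancel (h1.trans (one_mul _).symm))
    rw [hc, mul_inv_eq_one, mul_inv_eq_iff_eq_mul] at h3
    exact h3.symm
  let T : Subgroup G :=
    { carrier := {x | x ∈ J ∧ x ^ r = 1}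
      one_mem' := ⟨one_mem J, one_pow r⟩
      mul_mem' := fun {a b} ha hb => ⟨mul_mem ha.1 hb.1, by
        rw [Commute.mul_pow (hab a ha.1 b hb.1) r, ha.2, hb.2, one_mul]⟩
      inv_mem' := fun {a} ha => ⟨inv_mem ha.1, by rw [inv_pow, ha.2, inv_one]⟩ }
  have hTn : T.Normal := ⟨fun x hx g => ⟨hJn.conj_mem x hx.1 g, by rw [conj_pow, hx.2, mul_one, mul_inv_cancel]⟩⟩
  have hT : T ≠ ⊥ := fun h => by
    obtain ⟨x, hx⟩ := exists_prime_orderOf_dvd_card' (G := J) r
      (by rw [hcard, hk]; exact Dvd.dvd.mul_right (dvd_pow_self r hk0.ne') _)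
    have hxT : (x : G) ∈ T := ⟨x.2, by rw [← hx, ← Subgroup.orderOf_coe]; exact pow_orderOf_eq_one (x : G)⟩
    rw [h, Subgroup.mem_bot] at hxT
    rw [show x = 1 from Subtype.ext hxT, orderOf_one] at hx
    exact hr.ne_one hx.symm
  obtain ⟨M', hM', hM'T⟩ := exists_isMinNormal hTn hT
  refine hM'.2.1 ((Subgroup.eq_bot_iff_forall _).2 fun z hz => ?_)
  obtain ⟨i, hi⟩ := hmin M' hM' ⟨z, hz⟩
  have hi' : z ^ p ^ i = 1 := congrArg Subtype.val hi
  have h := pow_gcd_eq_one.2 ⟨(hM'T hz).2, hi'⟩
  rwa [Nat.Coprime.gcd_eq_one (Nat.Coprime.pow_right i ((Nat.coprime_primes hr hp.out).2 hrp)), pow_one] at h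

/-- Conjugation on an abelian normal subgroup, as an action of the quotient. -/
noncomputable def conjQuot (N : Subgroup G) [N.Normal] [IsMulCommutative N] :
    DistribMulAction (G ⧸ N) (Additive N) :=
  DistribMulAction.compHom _ (QuotientGroup.lift N
    (({ toFun := fun g => MonoidHom.toAdditive (MulAut.conjNormal g : N ≃* N).toMonoidHom
        map_one' := AddMonoidHom.ext fun x => congrArg Additive.ofMul (Subtype.ext (by
          show (1 : G) * ((Additive.toMul x : N) : G) * (1 : G)⁻¹ = _
          rw [one_mul, inv_one, mul_one]; rfl))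
        map_mul' := fun a b => AddMonoidHom.ext fun x => congrArg Additive.ofMul (Subtype.ext (by
          show a * b * ((Additive.toMul x : N) : G) * (a * b)⁻¹ = a * (b * ((Additive.toMul x : N) : G) * b⁻¹) * a⁻¹
          group)) } :
      G →* AddMonoid.End (Additive N))) fun z hz => AddMonoidHom.ext fun x =>
        congrArg Additive.ofMul (Subtype.ext (show z * ((Additive.toMul x : N) : G) * z⁻¹ = _ by
          rw [show z * ((Additive.toMul x : N) : G) = (Additive.toMul x : N) * z from
            congrArg Subtype.val (mul_comm' (⟨z, hz⟩ : N) (Additive.toMul x)), mul_inv_cancel_right]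
          rfl)))

set_option maxHeartbeats 1000000 in
/-- The induction. -/
theorem class_bound {p : ℕ} [hp : Fact p.Prime] : ∀ (c : ℕ) (G : Type) [Group G] [Finite G],
    Group.IsSolvable G → Nat.card G = c → p ^ 2 ∣ c → 49 * p ≤ 60 * Nat.card (ConjClasses G) := by
  intro c
  induction c using Nat.strong_induction_on with
  | _ c ih =>
  intro G _ _ hsolv hc hdvd
  classical
  by_contra hcon
  have hp2 := hp.out.two_le
  have hidx : ∀ M : Subgroup G, IsMinNormal M → ¬ p ^ 2 ∣ M.index := fun M hM h => by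
    haveI := hM.1
    have h1 : 1 < Nat.card M := Finite.one_lt_card_iff_nontrivial.2 ((Subgroup.nontrivial_iff_ne_bot M).2 hM.2.1)
    have h2 := Subgroup.card_mul_index M
    have h3 : M.index ≠ 0 := Subgroup.index_ne_zero_of_finite
    have hlt : M.index < c := by
      rw [← hc, ← h2]
      exact lt_mul_of_one_lt_left (Nat.pos_of_ne_zero h3) h1
    have := ih _ hlt (G ⧸ M) inferInstance rfl h
    exact hcon (this.trans (Nat.mul_le_mul_left _ (card_classes_le_of_surjective _ (QuotientGroup.mk'_surjective M))))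
  have hmin : ∀ M : Subgroup G, IsMinNormal M → IsPGroup p M := fun M hM => by
    obtain ⟨-, r, hr, -, hMr⟩ := minimal_solvable_elementary hM inferInstance
    haveI := Fact.mk hr
    rcases eq_or_ne r p with rfl | hrp
    · exact hMr
    obtain ⟨k, hk⟩ := hMr.exists_card_eq
    refine absurd ?_ (hidx M hM)
    refine Nat.Coprime.dvd_of_dvd_mul_left (Nat.Coprime.pow 2 k ((Nat.coprime_primes hp.out hr).2 hrp.symm)) ?_
    rw [← hk, Subgroup.card_mul_index, hc]
    exact hdvd
  haveI : Nontrivial G := Finite.one_lt_card_iff_nontrivial.1 (by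
    rw [hc]
    have h1 : p ^ 2 ≤ c := Nat.le_of_dvd (Nat.pos_of_ne_zero fun h => Nat.card_pos.ne' (hc.trans h)) hdvd
    have h2 : 4 ≤ p ^ 2 := Nat.pow_le_pow_left hp2 2
    omega)
  obtain ⟨N, hN, -⟩ := exists_isMinNormal (N := (⊤ : Subgroup G)) inferInstance top_ne_bot
  haveI := hN.1
  obtain ⟨hNc, r, hr, hNr, hNrg⟩ := minimal_solvable_elementary hN inferInstance
  haveI := Fact.mk hr
  have hNp := hmin N hN
  haveI hNnt : Nontrivial N := (Subgroup.nontrivial_iff_ne_bot N).2 hN.2.1
  obtain rfl : r = p := by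
    obtain ⟨x, hx⟩ := exists_ne (1 : N)
    obtain ⟨i, hi⟩ := hNp x
    by_contra hrp
    refine hx ?_
    have h := pow_gcd_eq_one.2 ⟨(Subtype.ext (hNr x x.2) : x ^ r = 1), hi⟩
    rwa [Nat.Coprime.gcd_eq_one (Nat.Coprime.pow_right i ((Nat.coprime_primes hr hp.out).2 hrp)), pow_one] at h
  haveI := hNc
  obtain ⟨n, hn⟩ := hNp.exists_card_eq
  have hn0 : 0 < n := Nat.pos_of_ne_zero fun h => hN.2.1 (Subgroup.eq_bot_of_card_eq N (by rw [hn, h, pow_zero]))
  rcases Nat.lt_or_ge n 2 with hn1 | hn2
  · -- order `p`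
    obtain rfl : n = 1 := by omega
    rw [pow_one] at hn
    have hpidx : r ∣ N.index := by
      have h := Subgroup.card_mul_index N
      rw [hn, hc] at h
      refine Nat.dvd_of_mul_dvd_mul_left hp.out.pos (?_ : r * r ∣ r * N.index)
      rwa [h, ← sq]
    have hle : N ≤ Subgroup.centralizer (N : Set G) := fun x hx => Subgroup.mem_centralizer_iff.2 fun y hy =>
      congrArg Subtype.val (mul_comm' (⟨y, hy⟩ : N) ⟨x, hx⟩)
    have hne : ¬ Subgroup.centralizer (N : Set G) ≤ N := fun hle' => by
      have hpd : r ∣ Nat.card (G ⧸ N) := hpidx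
      let f : G →* MulAut N := MulAut.conjNormal
      have hker : f.ker = N := by
        ext x
        constructor
        · intro hx
          refine hle' (Subgroup.mem_centralizer_iff.2 fun y hy => ?_)
          have h := congrArg Subtype.val (DFunLike.congr_fun (MonoidHom.mem_ker.1 hx) ⟨y, hy⟩)
          simp [f, mul_inv_eq_iff_eq_mul] at h
          exact h.symm
        · intro hx
          refine MonoidHom.mem_ker.2 (MulEquiv.ext fun y => Subtype.ext ?_)
          simp [f, mul_inv_eq_iff_eq_mul]
          exact (Subgroup.mem_centralizer_iff.1 (hle hx) y y.2).symm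
      have h1 : N.index ∣ Nat.card (MulAut N) := by
        rw [show N.index = Nat.card f.range by rw [← Subgroup.index_ker, hker]]
        exact Subgroup.card_subgroup_dvd_card _
      haveI : IsCyclic N := isCyclic_of_prime_card hn
      rw [IsCyclic.card_mulAut, hn, Nat.totient_prime hp.out] at h1
      have := Nat.le_of_dvd (by omega) (hpidx.trans h1)
      omega
    obtain ⟨J, k, hJn, hNJ, hJC, hk0, hJcard⟩ := exists_central_step hmin hNp hle hne
    have hNJidx := Subgroup.card_mul_index J
    have hNidx := Subgroup.card_mul_index N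
    have hk1 : k = 1 := by
      by_contra hk
      refine hidx N hN ⟨r ^ (k - 2) * J.index, Nat.eq_of_mul_eq_mul_left hp.out.pos ?_⟩
      rw [hn] at hNidx hJcard
      rw [hNidx, ← hNJidx, hJcard, ← mul_assoc (r ^ 2), ← pow_add, Nat.add_sub_cancel' (by omega)]
      ring
    rw [hk1, pow_one, hn, ← sq] at hJcard
    haveI := hJn
    haveI : IsMulCommutative J := IsPGroup.isMulCommutative_of_card_eq_prime_sq hJcard
    have hJp : IsPGroup r J := IsPGroup.of_card hJcard
    have hJidx : ¬ r ∣ J.index := fun h => by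
      obtain ⟨t, ht⟩ := h
      refine hidx N hN ⟨t, Nat.eq_of_mul_eq_mul_left hp.out.pos ?_⟩
      rw [hn] at hNidx
      rw [hNidx, ← hNJidx, hJcard, ht]
      ring
    have hJle : J ≤ Subgroup.centralizer (J : Set G) := fun x hx => Subgroup.mem_centralizer_iff.2 fun y hy =>
      congrArg Subtype.val (mul_comm' (⟨y, hy⟩ : J) ⟨x, hx⟩)
    have hJC' : Subgroup.centralizer (J : Set G) ≤ J := by
      by_contra h
      obtain ⟨L, i, hLn, hJL, -, hi0, hLcard⟩ := exists_central_step hmin hJp hJle h
      refine hJidx ?_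
      have h1 := Subgroup.card_mul_index L
      rw [hLcard, ← hNJidx] at h1
      refine ⟨r ^ (i - 1) * L.index, Nat.eq_of_mul_eq_mul_left (Nat.card_pos (α := J)) ?_⟩
      rw [← h1, ← mul_assoc r, ← pow_succ', Nat.sub_add_cancel hi0]
      ring
    -- the image of order `p`
    set π := QuotientGroup.mk' N
    haveI : (J.map π).Normal := Subgroup.Normal.map inferInstance π (QuotientGroup.mk'_surjective N)
    have hJbar : Nat.card (J.map π) = r := by
      have h := Subgroup.card_mul_index (π.subgroupMap J).ker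
      rw [Subgroup.index_ker, MonoidHom.range_eq_top.2 (π.subgroupMap_surjective J), Subgroup.card_top,
        hJcard] at h
      have hk' : Nat.card (π.subgroupMap J).ker = r := by
        rw [← hn]
        exact Nat.card_congr ⟨fun x => ⟨(x : J), (QuotientGroup.eq_one_iff _).1
            (congrArg Subtype.val (MonoidHom.mem_ker.1 x.2))⟩,
          fun x => ⟨⟨x, hNJ x.2⟩, MonoidHom.mem_ker.2 (Subtype.ext ((QuotientGroup.eq_one_iff _).2 x.2))⟩,
          fun x => rfl, fun x => rfl⟩
      rw [hk', sq] at h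
      exact Nat.eq_of_mul_eq_mul_left hp.out.pos h
    have hab : ∀ g h : G, ⁅g, h⁆ ∈ J := fun g h => by
      set w := ⁅g, h⁆ with hw
      have hwp : w ^ r ∈ J := by
        refine hJC' (Subgroup.mem_centralizer_iff.2 fun x hx => ?_)
        have h1 : w * x * w⁻¹ * x⁻¹ ∈ N := by
          rw [← QuotientGroup.eq_one_iff]
          show π _ = 1
          rw [map_mul, map_mul, map_mul, map_inv, map_inv, hw, map_commutatorElement,
            commutator_centralizes hJbar (π g) (π h) ⟨x, hx, rfl⟩, mul_inv_cancel_right, mul_inv_cancel]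
        set z := w * x * w⁻¹ * x⁻¹ with hz
        have hzw : w * z = z * w := commutator_centralizes hn g h h1
        have hconj : ∀ i : ℕ, w ^ i * x = z ^ i * x * w ^ i := by
          intro i
          induction i with
          | zero => simp
          | succ i hi =>
            rw [pow_succ', mul_assoc, hi, ← mul_assoc, ← mul_assoc,
              (Commute.pow_right (show Commute w z from hzw) i).eq, pow_succ z, mul_assoc (z ^ i) w x,
              show w * x = z * x * w by rw [hz]; group]
            simp only [mul_assoc]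
        rw [hconj r, show z ^ r = 1 from hNr z h1, one_mul]
      rw [← QuotientGroup.eq_one_iff]
      have hw1 : ((w : G) : G ⧸ J) ^ r = 1 := by
        rw [← QuotientGroup.mk_pow, QuotientGroup.eq_one_iff]; exact hwp
      refine orderOf_eq_one_iff.1 (Nat.eq_one_of_dvd_coprimes ((hp.out.coprime_iff_not_dvd).2 hJidx)
        (orderOf_dvd_of_pow_eq_one hw1) (orderOf_dvd_natCard _))
    have hcomm : ∀ a b : G ⧸ J, a * b = b * a := fun a b => by
      obtain ⟨a, rfl⟩ := QuotientGroup.mk_surjective a
      obtain ⟨b, rfl⟩ := QuotientGroup.mk_surjective b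
      rw [← QuotientGroup.mk_mul, ← QuotientGroup.mk_mul, QuotientGroup.eq]
      have := hab b⁻¹ a⁻¹
      rw [commutatorElement_def, inv_inv, inv_inv] at this
      rwa [show (a * b)⁻¹ * (b * a) = b⁻¹ * a⁻¹ * b * a by group]
    have hkR : Nat.card (ConjClasses (G ⧸ J)) = Nat.card (G ⧸ J) :=
      (Nat.card_congr (Equiv.ofBijective ConjClasses.mk ⟨fun a b h => by
        obtain ⟨x, hx⟩ := isConj_iff.1 (ConjClasses.mk_eq_mk_iff_isConj.1 h)
        rwa [hcomm x a, mul_inv_cancel_right] at hx, ConjClasses.mk_surjective⟩)).symm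
    letI := conjQuot J
    have hsum := card_classes_quotient_add_le J (V := Additive J) (fun v => ((Additive.toMul v : J) : G))
      (fun v => (Additive.toMul v).2) (fun a b h => Additive.toMul.injective (Subtype.ext h)) rfl fun g v => rfl
    have horb := orb_mul_ge (A := G ⧸ J) (V := Additive J)
    rw [hkR] at hsum
    rw [show Nat.card (Additive J) = r ^ 2 from hJcard] at horb
    have hr4 : 2 * 2 ≤ r * r := Nat.mul_le_mul hp2 hp2
    generalize Nat.card (G ⧸ J) = b at hsum horb
    generalize orb (G ⧸ J) (Additive J) = o at hsum horb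
    refine hcon (Nat.mul_self_le_mul_self_iff.1 ?_)
    calc 49 * r * (49 * r) = 2401 * (r * r) := by ring
      _ ≤ 3600 * (4 * (o * b)) := by rw [sq] at horb; omega
      _ ≤ 3600 * ((b + o) * (b + o)) := by
          have := four_mul_le_sq_add o b
          nlinarith
      _ = 60 * (b + o) * (60 * (b + o)) := by ring
      _ ≤ _ := Nat.mul_le_mul (Nat.mul_le_mul_left _ hsum) (Nat.mul_le_mul_left _ hsum)
  · -- dimension at least two
    letI := conjQuot N
    have hsum := card_classes_quotient_add_le N (V := Additive N) (fun v => ((Additive.toMul v : N) : G))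
      (fun v => (Additive.toMul v).2) (fun a b h => Additive.toMul.injective (Subtype.ext h)) rfl fun g v => rfl
    let μ : G ⧸ N →* (AddMonoid.End (Additive N))ˣ :=
      (DistribMulAction.toAddMonoidEnd (G ⧸ N) (Additive N)).toHomUnits
    haveI : Group.IsSolvable μ.range := Group.isSolvable_of_surjective μ.rangeRestrict_surjective
    have hV : ∀ x : Additive N, r • x = 0 := fun x =>
      congrArg Additive.ofMul (Subtype.ext (hNr _ (Additive.toMul x).2) : (Additive.toMul x) ^ r = 1)
    have hirr : Irreducible' μ.range (Additive N) := by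
      intro W hW
      let K : Subgroup G := (AddSubgroup.toSubgroup' W).map N.subtype
      have hKn : K.Normal := ⟨by
        rintro _ ⟨x, hx, rfl⟩ g
        exact ⟨_, hW ⟨μ (g : G ⧸ N), _, rfl⟩ (Additive.ofMul x) hx, rfl⟩⟩
      rcases hN.2.2 K hKn (Subgroup.map_subtype_le _) with h | h
      · refine Or.inl (eq_bot_iff.2 fun x hx => AddSubgroup.mem_bot.2 ?_)
        have : ((Additive.toMul x : N) : G) ∈ K := ⟨_, hx, rfl⟩
        rw [h, Subgroup.mem_bot] at this
        exact Additive.toMul.injective (Subtype.ext this)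
      · refine Or.inr (eq_top_iff.2 fun x _ => ?_)
        obtain ⟨y, hy, hyx⟩ := (h.symm ▸ (Additive.toMul x).2 : ((Additive.toMul x : N) : G) ∈ K)
        rwa [show x = Additive.ofMul y from Additive.toMul.injective (Subtype.ext hyx.symm)]
    have hbig : r ^ 2 ≤ Nat.card (Additive N) := (Nat.pow_le_pow_right hp.out.pos hn2).trans_eq hn.symm
    have h := classes_add_orb_ge hV hirr hbig
    have hk := card_classes_le_of_surjective μ.rangeRestrict μ.rangeRestrict_surjective
    have ho : orb μ.range (Additive N) ≤ orb (G ⧸ N) (Additive N) := by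
      have he : ∀ v : Additive N, orbit μ.range v = orbit (G ⧸ N) v := fun v => by
        ext w
        constructor
        · rintro ⟨⟨_, a, rfl⟩, rfl⟩; exact ⟨a, rfl⟩
        · rintro ⟨a, rfl⟩; exact ⟨⟨_, a, rfl⟩, rfl⟩
      simp only [orb, he, le_refl]
    exact hcon (h.trans (Nat.mul_le_mul_left _ ((Nat.add_le_add hk ho).trans hsum)))

end Cfsg.Lib.Solv.ClassLower
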