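import Cfsg.Agent.Lib.Solv.ClassLower.FittingArith
import Cfsg.Agent.Lib.Solv.ClassLower.Top
import Cfsg.Agent.Lib.Core.Fitting

/-!
# The class number and the primes dividing the index of the Fitting subgroup
-/

set_option autoImplicit false
set_option linter.style.haveILetI false

namespace Cfsg.Lib.Solv.ClassLower

open Cfsg.Lib.Solv.ClassCount Cfsg.Lib.OddBase Cfsg.Lib.CoprimeBase Cfsg.Lib.Core MulAction
open scoped commutatorElement IsMulCommutative

theorem card_classes_of_comm {Q : Type} [Group Q] (h : ∀ a b : Q, a * b = b * a) :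
    Nat.card (ConjClasses Q) = Nat.card Q :=
  (Nat.card_congr (Equiv.ofBijective ConjClasses.mk ⟨fun a b hab => by
    obtain ⟨x, hx⟩ := isConj_iff.1 (ConjClasses.mk_eq_mk_iff_isConj.1 hab)
    rwa [h x a, mul_inv_cancel_right] at hx, ConjClasses.mk_surjective⟩)).symm

theorem gb_one : gb 1 = 1 := rfl

set_option maxHeartbeats 1000000 in
/-- An irreducible group with a normal subgroup of prime order. -/
theorem rank_one {H V : Type} [Group H] [Finite H] [Group.IsSolvable H] [AddCommGroup V] [Finite V]
    [Nontrivial V] [DistribMulAction H V] [FaithfulSMul H V] {r p : ℕ} [hr : Fact r.Prime] [hp : Fact p.Prime]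
    (hrp : r ≠ p) (hV : ∀ x : V, r • x = 0) (hirr : Irreducible' H V) (X : Subgroup H) [X.Normal]
    (hX : Nat.card X = p) : p ≤ (Nat.card (ConjClasses H) + orb H V) * Nat.log 2 (p ^ 3) := by
  classical
  haveI : IsCyclic X := isCyclic_of_prime_card hX
  haveI : IsMulCommutative X := inferInstance
  set C := Subgroup.centralizer (X : Set H) with hC
  haveI : C.Normal := Subgroup.normal_centralizer
  set N := C.index with hN
  have hN0 : 0 < N := Nat.pos_of_ne_zero Subgroup.index_ne_zero_of_finite
  have hXC : X ≤ C := fun x hx => Subgroup.mem_centralizer_iff.2 fun y hy =>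
    congrArg Subtype.val (mul_comm' (⟨y, hy⟩ : X) ⟨x, hx⟩)
  -- the classes from the action on the subgroup of prime order
  obtain ⟨o₁, hk1, ho1⟩ : ∃ o₁, N + o₁ ≤ Nat.card (ConjClasses H) ∧ p ≤ o₁ * N + 1 := by
    letI := conjQuot X
    let μ : H →* (AddMonoid.End (Additive X))ˣ :=
      ((DistribMulAction.toAddMonoidEnd (H ⧸ X) (Additive X)).toHomUnits).comp (QuotientGroup.mk' X)
    have hker : μ.ker = C := by
      ext g
      constructor
      · intro hg
        refine Subgroup.mem_centralizer_iff.2 fun y hy => ?_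
        have h : g * y * g⁻¹ = y := congrArg (fun u : (AddMonoid.End (Additive X))ˣ =>
          ((Additive.toMul ((u : AddMonoid.End (Additive X)) (Additive.ofMul (⟨y, hy⟩ : X))) : X) : H))
          (MonoidHom.mem_ker.1 hg)
        rw [mul_inv_eq_iff_eq_mul] at h
        exact h.symm
      · intro hg
        refine MonoidHom.mem_ker.2 (Units.ext (AddMonoidHom.ext fun y => Additive.toMul.injective (Subtype.ext ?_)))
        show g * ((Additive.toMul y : X) : H) * g⁻¹ = ((Additive.toMul y : X) : H)
        rw [← Subgroup.mem_centralizer_iff.1 hg _ (Additive.toMul y).2, mul_inv_cancel_right]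
    have hcomm : ∀ a b : H ⧸ C, a * b = b * a := fun a b => by
      obtain ⟨a, rfl⟩ := QuotientGroup.mk_surjective a
      obtain ⟨b, rfl⟩ := QuotientGroup.mk_surjective b
      rw [← QuotientGroup.mk_mul, ← QuotientGroup.mk_mul, QuotientGroup.eq,
        show (a * b)⁻¹ * (b * a) = ⁅b⁻¹, a⁻¹⁆ by rw [commutatorElement_def]; group]
      exact Subgroup.mem_centralizer_iff.2 fun y hy => (commutator_centralizes hX b⁻¹ a⁻¹ hy).symm
    refine ⟨orb μ.range (Additive X), ?_, ?_⟩
    · have hsum := card_classes_quotient_add_le X (V := Additive X) (fun v => ((Additive.toMul v : X) : H))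
        (fun v => (Additive.toMul v).2) (fun a b h => Additive.toMul.injective (Subtype.ext h)) rfl fun g v => rfl
      have h1 : N ≤ Nat.card (ConjClasses (H ⧸ X)) := by
        rw [hN, Subgroup.index, ← card_classes_of_comm hcomm]
        refine card_classes_le_of_surjective (QuotientGroup.map X C (MonoidHom.id H) hXC) fun q => ?_
        obtain ⟨g, rfl⟩ := QuotientGroup.mk_surjective q
        exact ⟨(g : H ⧸ X), rfl⟩
      have h2 : orb μ.range (Additive X) ≤ orb (H ⧸ X) (Additive X) := by
        have he : ∀ v : Additive X, orbit μ.range v = orbit (H ⧸ X) v := fun v => by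
          ext w
          constructor
          · rintro ⟨⟨_, a, rfl⟩, rfl⟩; exact ⟨(a : H ⧸ X), rfl⟩
          · rintro ⟨q, rfl⟩
            obtain ⟨a, rfl⟩ := QuotientGroup.mk_surjective q
            exact ⟨⟨_, a, rfl⟩, rfl⟩
        simp only [orb, he, le_refl]
      omega
    · have h := orb_mul_ge (A := μ.range) (V := Additive X)
      rw [← Subgroup.index_ker, hker, ← hN, show Nat.card (Additive X) = p from hX] at h
      exact h
  set k := Nat.card (ConjClasses H) with hk
  set o := orb H V with ho
  set L := Nat.log 2 (p ^ 3) with hL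
  have hL1 : 1 ≤ L := Nat.le_log_of_pow_le (by norm_num) (by
    have := Nat.pow_le_pow_left hp.out.two_le 3
    omega)
  rcases le_or_gt N L with hNL | hNL
  · calc p ≤ o₁ * N + 1 := ho1
      _ ≤ o₁ * L + N * L := Nat.add_le_add (Nat.mul_le_mul_left _ hNL) (Nat.one_le_iff_ne_zero.2 (by positivity))
      _ = (N + o₁) * L := by ring
      _ ≤ (k + o) * L := Nat.mul_le_mul_right _ (by omega)
  rcases le_or_gt p 4096 with hsmall | hbig
  · refine Nat.mul_self_le_mul_self_iff.1 ((sq_le_log hp.out.two_le hsmall).trans ?_)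
    have h1 : 4 * (p - 1) ≤ (k + o) * (k + o) := by
      calc 4 * (p - 1) ≤ 4 * o₁ * N := by rw [mul_assoc]; omega
        _ ≤ (o₁ + N) * (o₁ + N) := by
          have := four_mul_le_sq_add o₁ N
          nlinarith
        _ ≤ _ := Nat.mul_le_mul (by omega) (by omega)
    exact (Nat.mul_le_mul_right _ h1).trans (le_of_eq (by ring))
  have hL36 : 36 ≤ L := Nat.le_log_of_pow_le (by norm_num) (le_trans (by norm_num) (Nat.pow_le_pow_left hbig.le 3))
  have hpN : p ^ 3 < 2 ^ N :=
    (Nat.lt_pow_succ_log_self (by norm_num) _).trans_le (Nat.pow_le_pow_right (by norm_num) hNL)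
  suffices hgoal : p ≤ 36 * (k + o) from
    hgoal.trans ((Nat.mul_comm _ _).trans_le (Nat.mul_le_mul_left _ hL36))
  -- the algebra generated by the subgroup
  obtain ⟨x₀, hx₀⟩ := IsCyclic.exists_zpow_surjective (G := X)
  let el : H →* AddMonoid.End V := DistribMulAction.toAddMonoidEnd H V
  have helinj : Function.Injective el := fun a b h =>
    eq_of_smul_eq_smul fun v : V => DFunLike.congr_fun h v
  let R : Subring (AddMonoid.End V) := Subring.closure (el '' (X : Set H))
  have hcS : ∀ x ∈ el '' (X : Set H), ∀ y ∈ el '' (X : Set H), x * y = y * x := by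
    rintro _ ⟨x, hx, rfl⟩ _ ⟨y, hy, rfl⟩
    rw [← map_mul, ← map_mul, show x * y = y * x from congrArg Subtype.val (mul_comm' (⟨x, hx⟩ : X) ⟨y, hy⟩)]
  haveI := Subring.isMulCommutative_closure hcS
  letI : CommRing R := { (inferInstance : Ring R) with mul_comm := mul_comm' }
  have hCR : ∀ c ∈ C, ∀ y ∈ R, el c * y = y * el c := by
    intro c hc y hy
    induction hy using Subring.closure_induction with
    | mem x hx =>
      obtain ⟨b, hb, rfl⟩ := hx
      rw [← map_mul, ← map_mul, (Subgroup.mem_centralizer_iff.1 hc b hb).symm]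
    | zero => simp
    | one => simp
    | add x y _ _ hx hy => rw [mul_add, add_mul, hx, hy]
    | neg x _ hx => rw [mul_neg, neg_mul, hx]
    | mul x y _ _ hx hy => rw [← mul_assoc, hx, mul_assoc, hy, ← mul_assoc]
  have hst : ∀ (g : H), ∀ y ∈ R, el g * y * el g⁻¹ ∈ R := by
    intro g y hy
    have e1 : el g⁻¹ * el g = 1 := by rw [← map_mul, inv_mul_cancel, map_one]
    induction hy using Subring.closure_induction with
    | mem x hx =>
      obtain ⟨b, hb, rfl⟩ := hx
      rw [← map_mul, ← map_mul]
      exact Subring.subset_closure ⟨g * b * g⁻¹, Subgroup.Normal.conj_mem ‹_› b hb g, rfl⟩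
    | zero => simp
    | one => rw [mul_one, ← map_mul, mul_inv_cancel, map_one]; exact one_mem _
    | add x y _ _ hx hy => rw [mul_add, add_mul]; exact add_mem hx hy
    | neg x _ hx => rw [mul_neg, neg_mul]; exact neg_mem hx
    | mul x y _ _ hx hy =>
      have e : el g * (x * y) * el g⁻¹ = el g * x * el g⁻¹ * (el g * y * el g⁻¹) := by
        calc el g * (x * y) * el g⁻¹ = el g * x * 1 * y * el g⁻¹ := by rw [mul_one]; simp only [mul_assoc]
          _ = el g * x * (el g⁻¹ * el g) * y * el g⁻¹ := by rw [e1]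
          _ = _ := by simp only [mul_assoc]
      rw [e]; exact mul_mem hx hy
  haveI : Nontrivial R := ⟨⟨0, 1, fun h => by
    obtain ⟨w, hw⟩ := exists_ne (0 : V)
    exact hw (DFunLike.congr_fun (congrArg Subtype.val h).symm w)⟩⟩
  have hRp : ∀ x : R, r • x = 0 := fun x => Subtype.ext (AddMonoidHom.ext fun w => by
    show (((r • x : R) : AddMonoid.End V)) w = 0
    rw [AddSubmonoidClass.coe_nsmul]
    exact hV _)
  haveI : CharP R r := (CharP.charP_iff_prime_eq_zero hr.out).2 (by rw [← nsmul_one]; exact hRp 1)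
  letI : Algebra (ZMod r) R := ZMod.algebra R r
  -- no nilpotent elements
  have hfrob : Function.Injective (frobenius R r) := by
    refine Finite.injective_iff_surjective.2 fun y => ?_
    have hle : R ≤ (frobenius R r).range.map R.subtype := by
      refine Subring.closure_le.2 ?_
      rintro _ ⟨b, hb, rfl⟩
      obtain ⟨c, hc⟩ := (powCoprime (G := X) (n := r) (by
        rw [hX]; exact (Nat.coprime_primes hp.out hr.out).2 hrp.symm)).surjective ⟨b, hb⟩
      refine ⟨⟨el c, Subring.subset_closure ⟨c, c.2, rfl⟩⟩ ^ r, ⟨_, rfl⟩, ?_⟩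
      show el (c : H) ^ r = el b
      rw [← map_pow, ← Subgroup.coe_pow, show c ^ r = (⟨b, hb⟩ : X) from hc]
    obtain ⟨z, ⟨w, rfl⟩, hw⟩ := hle y.2
    exact ⟨w, Subtype.ext hw⟩
  haveI : IsReduced R := ⟨fun y ⟨i, hi⟩ => by
    have h : (frobenius R r)^[i] y = 0 := by
      rw [iterate_frobenius]
      exact pow_eq_zero_of_le (Nat.lt_pow_self hr.out.one_lt).le hi
    exact (hfrob.iterate i) (h.trans (by rw [iterate_map_zero]))⟩
  haveI := Fintype.ofFinite (MaximalSpectrum R)
  let π := IsArtinianRing.equivPi R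
  let ε : MaximalSpectrum R → R := fun I => π.symm (Pi.single I 1)
  have hπ : ∀ (y : R) I, π y I = Ideal.Quotient.mk I.asIdeal y := fun y I => rfl
  have hεI : ∀ (y : R) (I J : MaximalSpectrum R), π (y * ε I) J = if J = I then Ideal.Quotient.mk J.asIdeal y else 0 := by
    intro y I J
    rw [map_mul, Pi.mul_apply, hπ, show π (ε I) = Pi.single I 1 from π.apply_symm_apply _]
    rcases eq_or_ne J I with rfl | h
    · rw [if_pos rfl, Pi.single_eq_same, mul_one]
    · rw [if_neg h, Pi.single_eq_of_ne h, mul_zero]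
  have hkill : ∀ (y : R) I, y ∈ I.asIdeal → y * ε I = 0 := fun y I hy => π.injective (funext fun J => by
    rw [hεI, map_zero, Pi.zero_apply]
    split_ifs with h
    · subst h; exact Ideal.Quotient.eq_zero_iff_mem.2 hy
    · rfl)
  have hinv : ∀ (y : R) I, y ∉ I.asIdeal → ∃ z : R, z * y * ε I = ε I := fun y I hy => by
    haveI := I.isMaximal
    obtain ⟨z, hz⟩ := Ideal.Quotient.exists_inv (I := I.asIdeal) (a := Ideal.Quotient.mk I.asIdeal y)
      (fun h => hy (Ideal.Quotient.eq_zero_iff_mem.1 h))
    obtain ⟨z, rfl⟩ := Ideal.Quotient.mk_surjective z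
    refine ⟨z, π.injective (funext fun J => ?_)⟩
    rw [hεI, show π (ε I) = Pi.single I 1 from π.apply_symm_apply _]
    split_ifs with h
    · subst h; rw [Pi.single_eq_same, map_mul, mul_comm, hz]
    · rw [Pi.single_eq_of_ne h]
  have horth : ∀ I J, ε I * ε J = if I = J then ε I else 0 := fun I J => π.injective (funext fun K => by
    rw [hεI, ← hπ, show π (ε I) = Pi.single I 1 from π.apply_symm_apply _]
    rcases eq_or_ne I J with rfl | h
    · rw [if_pos rfl, show π (ε I) = Pi.single I 1 from π.apply_symm_apply _]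
      rcases eq_or_ne K I with rfl | h'
      · rw [if_pos rfl]
      · rw [if_neg h', Pi.single_eq_of_ne h']
    · rw [if_neg h, map_zero, Pi.zero_apply]
      rcases eq_or_ne K J with rfl | h'
      · rw [if_pos rfl, Pi.single_eq_of_ne h.symm]
      · rw [if_neg h'])
  have hall : ∀ y : R, (∀ I, y * ε I = 0) → y = 0 := fun y hy => π.injective (funext fun J => by
    have h := congrFun (congrArg π (hy J)) J
    rw [hεI, if_pos rfl, map_zero] at h
    rw [hπ, h, map_zero])
  have hε0 : ∀ I, ε I ≠ 0 := fun I h => by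
    have h1 := congrFun (congrArg π h) I
    rw [show π (ε I) = Pi.single I 1 from π.apply_symm_apply _, Pi.single_eq_same, map_zero, Pi.zero_apply] at h1
    haveI := I.isMaximal
    exact one_ne_zero h1
  have hu : ∀ I, ∃ u : V, ε I • u = u ∧ u ≠ 0 := fun I => by
    obtain ⟨v, hv⟩ : ∃ v : V, ε I • v ≠ 0 := by
      by_contra hall
      push Not at hall
      exact hε0 I (Subtype.ext (AddMonoidHom.ext fun v => hall v))
    exact ⟨ε I • v, by rw [smul_smul, horth, if_pos rfl], hv⟩
  choose u hu hu0 using hu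
  have hproj : ∀ (y : R) (f : MaximalSpectrum R → V), (∀ I, ε I • f I = f I) → ∀ I,
      ε I • y • ∑ J, f J = y • f I := fun y f hf I => by
    rw [smul_smul, mul_comm, ← smul_smul, Finset.smul_sum, Finset.sum_eq_single I (fun J _ hne => ?_) (by simp), hf]
    rw [← hf J, smul_smul, horth, if_neg hne.symm, zero_smul]
  have hunit : ∀ (a : R) (I : MaximalSpectrum R) (v : V), ε I • v = v → a • v = 0 → v ≠ 0 → a ∈ I.asIdeal :=
    fun a I v hv hav hv0 => by
      by_contra ha
      obtain ⟨z, hz⟩ := hinv a I ha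
      exact hv0 (by rw [← hv, ← hz, mul_assoc, mul_comm a, ← mul_assoc, mul_smul, hav, smul_zero])
  -- the number of automorphisms induced
  obtain ⟨n, hn⟩ := card_eq_pow (V := V) (p := r) hV
  set D := Module.finrank (ZMod r) R with hD
  have hRcard : Nat.card R = r ^ D := by
    rw [Module.natCard_eq_pow_finrank (K := ZMod r) (V := R), Nat.card_zmod]
  have hND : N ≤ D := by
    obtain ⟨b, hb, hb1⟩ : ∃ b ∈ X, b ≠ 1 := by
      by_contra h
      push Not at h
      rw [(Subgroup.eq_bot_iff_forall X).2 h, Subgroup.card_bot] at hX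
      exact hp.out.ne_one hX.symm
    let xb : R := ⟨el b, Subring.subset_closure ⟨b, hb, rfl⟩⟩
    obtain ⟨I, hI⟩ : ∃ I : MaximalSpectrum R, xb - 1 ∉ I.asIdeal := by
      by_contra h
      push Not at h
      have h0 := hall _ fun I => hkill _ I (h I)
      exact hb1 (helinj ((congrArg Subtype.val (sub_eq_zero.1 h0)).trans (map_one el).symm))
    haveI := I.isMaximal
    letI : Field (R ⧸ I.asIdeal) := Ideal.Quotient.field I.asIdeal
    let cj : H → (R →+* R) := fun g =>
      { toFun := fun y => ⟨el g * y * el g⁻¹, hst g y y.2⟩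
        map_one' := Subtype.ext (by show el g * 1 * el g⁻¹ = 1; rw [mul_one, ← map_mul, mul_inv_cancel, map_one])
        map_mul' := fun y z => Subtype.ext (by
          show el g * ((y : AddMonoid.End V) * z) * el g⁻¹ = el g * y * el g⁻¹ * (el g * z * el g⁻¹)
          calc el g * ((y : AddMonoid.End V) * z) * el g⁻¹
              = el g * y * el (g⁻¹ * g) * z * el g⁻¹ := by
                rw [inv_mul_cancel, map_one, mul_one]; simp only [mul_assoc]
            _ = _ := by rw [map_mul]; simp only [mul_assoc])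
        map_zero' := Subtype.ext (by show el g * 0 * el g⁻¹ = 0; rw [mul_zero, zero_mul])
        map_add' := fun y z => Subtype.ext (by
          show el g * ((y : AddMonoid.End V) + z) * el g⁻¹ = el g * y * el g⁻¹ + el g * z * el g⁻¹
          rw [mul_add, add_mul]) }
    let φ : H ⧸ C → (R →ₐ[ZMod r] R ⧸ I.asIdeal) := fun q =>
      { toRingHom := (Ideal.Quotient.mk I.asIdeal).comp (cj q.out)
        commutes' := fun m => by
          obtain ⟨i, rfl⟩ := ZMod.intCast_surjective m
          show (Ideal.Quotient.mk I.asIdeal).comp (cj q.out) _ = _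
          rw [map_intCast, map_intCast, map_intCast] }
    let χ : X →* (R ⧸ I.asIdeal)ˣ := MonoidHom.toHomUnits
      { toFun := fun y => Ideal.Quotient.mk I.asIdeal ⟨el y, Subring.subset_closure ⟨y, y.2, rfl⟩⟩
        map_one' := by rw [← map_one (Ideal.Quotient.mk I.asIdeal)]; exact congrArg _ (Subtype.ext (map_one el))
        map_mul' := fun y z => by rw [← map_mul]; exact congrArg _ (Subtype.ext (map_mul el _ _)) }
    haveI : Fact (Nat.card X).Prime := ⟨hX ▸ hp.out⟩
    have hχ : χ.ker = ⊥ := (χ.ker.eq_bot_or_eq_top_of_prime_card).resolve_right fun h => hI (by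
      have h1 : χ ⟨b, hb⟩ = 1 := MonoidHom.mem_ker.1 (h ▸ Subgroup.mem_top _)
      rw [← Ideal.Quotient.eq_zero_iff_mem, map_sub, map_one, sub_eq_zero]
      exact congrArg Units.val h1)
    have hφ : Function.Injective φ := fun q q' hqq => by
      rw [← QuotientGroup.out_eq' q, ← QuotientGroup.out_eq' q']
      refine QuotientGroup.eq.2 (Subgroup.mem_centralizer_iff.2 fun y hy => ?_)
      have h1 : χ ⟨q.out * y * q.out⁻¹, Subgroup.Normal.conj_mem ‹_› y hy _⟩ =
          χ ⟨q'.out * y * q'.out⁻¹, Subgroup.Normal.conj_mem ‹_› y hy _⟩ := by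
        have h := DFunLike.congr_fun hqq ⟨el y, Subring.subset_closure ⟨y, hy, rfl⟩⟩
        refine Units.ext ?_
        have e : ∀ g : H, cj g ⟨el y, Subring.subset_closure ⟨y, hy, rfl⟩⟩ =
            ⟨el (g * y * g⁻¹), Subring.subset_closure ⟨_, Subgroup.Normal.conj_mem ‹_› y hy g, rfl⟩⟩ := fun g =>
          Subtype.ext (show el g * el y * el g⁻¹ = el (g * y * g⁻¹) by rw [map_mul, map_mul])
        change Ideal.Quotient.mk I.asIdeal (cj q.out _) = Ideal.Quotient.mk I.asIdeal (cj q'.out _) at h
        rw [e, e] at h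
        exact h
      have h2 : q.out * y * q.out⁻¹ = q'.out * y * q'.out⁻¹ :=
        congrArg Subtype.val ((MonoidHom.ker_eq_bot_iff χ).1 hχ h1)
      calc y * (q.out⁻¹ * q'.out) = q.out⁻¹ * (q.out * y * q.out⁻¹) * q'.out := by group
        _ = q.out⁻¹ * (q'.out * y * q'.out⁻¹) * q'.out := by rw [h2]
        _ = q.out⁻¹ * q'.out * y := by group
    haveI : FiniteDimensional (ZMod r) R := Module.Finite.of_finite
    calc N = Nat.card (H ⧸ C) := rfl
      _ ≤ _ := Nat.card_le_card_of_injective φ hφ
      _ ≤ D := card_algHom_le_finrank (ZMod r) R (R ⧸ I.asIdeal)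
  have hDn : D ≤ n := by
    refine (Nat.pow_le_pow_iff_right hr.out.two_le).1 ?_
    rw [← hRcard, ← hn]
    refine Nat.card_le_card_of_injective (fun a : R => a • ∑ J, u J) fun a a' h => ?_
    refine sub_eq_zero.1 (hall _ fun I => hkill _ I (hunit _ I (u I) (hu I) ?_ (hu0 I)))
    have h' := congrArg (fun v => ε I • v) h
    simp only [hproj _ u hu I] at h'
    rw [sub_smul, h', sub_self]
  by_cases hab : ∀ c ∈ C, ∀ c' ∈ C, c * c' = c' * c
  · -- an abelian centraliser
    have hpairs := pairs_le C C le_rfl hab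
    rw [Subgroup.relIndex_self, ← hk] at hpairs
    have hh : Nat.card H = Nat.card C * (1 * N) := by rw [one_mul, hN, Subgroup.card_mul_index]
    rw [hh] at hpairs
    refine abelian_arith hr.out.two_le (le_trans (by omega) (hND.trans hDn)) (hND.trans hDn) hpN Nat.card_pos
      (by simpa using hpairs) ?_
    rw [← hh, ← hn, Nat.sub_le_iff_le_add]
    exact orb_mul_ge
  -- a centraliser with multiplicity
  have h2D : 2 * D ≤ n := by
    let W : AddSubgroup V :=
      { carrier := {v | ∀ c ∈ C, ∀ c' ∈ C, c • c' • v = c' • c • v}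
        zero_mem' := fun c _ c' _ => by simp
        add_mem' := fun {a b} ha hb c hc c' hc' => by
          simp only [smul_add, ha c hc c' hc', hb c hc c' hc']
        neg_mem' := fun {a} ha c hc c' hc' => by simp only [smul_neg, ha c hc c' hc'] }
    have hW : W = ⊥ := (hirr W fun g v hv c hc c' hc' => by
      have hn1 : g⁻¹ * c * g ∈ C := by simpa using (inferInstance : C.Normal).conj_mem c hc g⁻¹
      have hn2 : g⁻¹ * c' * g ∈ C := by simpa using (inferInstance : C.Normal).conj_mem c' hc' g⁻¹
      have h := congrArg (fun v => g • v) (hv _ hn1 _ hn2)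
      simpa [smul_smul, mul_assoc] using h).resolve_right fun h => hab fun c hc c' hc' =>
        eq_of_smul_eq_smul fun v : V => by
          rw [mul_smul, mul_smul]
          exact (h ▸ AddSubgroup.mem_top v : v ∈ W) c hc c' hc'
    have hw : ∀ I, ∃ w : V, ε I • w = w ∧ ∀ a : R, w ≠ a • u I := fun I => by
      by_contra hno
      push Not at hno
      refine hu0 I (AddSubgroup.mem_bot.1 (hW ▸ (fun c hc c' hc' => ?_ : u I ∈ W)))
      have hcmul : ∀ g ∈ C, ∀ (y : R) (v : V), g • y • v = y • g • v := fun g hg y v =>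
        DFunLike.congr_fun (hCR g hg y y.2) v
      have hscal : ∀ g ∈ C, ∃ a : R, g • u I = a • u I := fun g hg =>
        hno _ (by rw [← hcmul g hg, hu])
      obtain ⟨a, ha⟩ := hscal c hc
      obtain ⟨a', ha'⟩ := hscal c' hc'
      rw [ha, ha', hcmul c hc, hcmul c' hc', ha, ha', smul_smul, smul_smul, mul_comm]
    choose w hw hwu using hw
    refine (Nat.pow_le_pow_iff_right hr.out.two_le).1 ?_
    rw [mul_comm, pow_mul, sq, ← hRcard, ← hn, ← Nat.card_prod]
    refine Nat.card_le_card_of_injective (fun a : R × R => a.1 • ∑ J, u J + a.2 • ∑ J, w J) fun a a' h => ?_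
    have hI : ∀ I, (a.1 - a'.1) • u I + (a.2 - a'.2) • w I = 0 := fun I => by
      have h' := congrArg (fun v => ε I • v) h
      simp only [smul_add, hproj _ u hu I, hproj _ w hw I] at h'
      rw [sub_smul, sub_smul, sub_add_sub_comm, h', sub_self]
    have h2 : a.2 - a'.2 = 0 := hall _ fun I => hkill _ I (by
      by_contra hb
      obtain ⟨z, hz⟩ := hinv _ I hb
      refine hwu I (-(z * ε I * (a.1 - a'.1))) ?_
      have h1 := congrArg (fun v => (z * ε I) • v) (hI I)
      simp only [smul_add, smul_zero, smul_smul] at h1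
      rw [show z * ε I * (a.2 - a'.2) = ε I by rw [mul_assoc, mul_comm (ε I), ← mul_assoc, hz], hw, add_comm, ← eq_neg_iff_add_eq_zero,
        ← neg_smul] at h1
      exact h1)
    have h1 : a.1 - a'.1 = 0 := hall _ fun I => hkill _ I (hunit _ I (u I) (hu I) (by
      have := hI I
      rwa [h2, zero_smul, add_zero] at this) (hu0 I))
    exact Prod.ext (sub_eq_zero.1 h1) (sub_eq_zero.1 h2)
  obtain ⟨m, d, e, e', j, A, K, hAK, hcen, hm0, hd0, he0, he'0, hee, hj, hVcard, hKidx, hrel, -, horb, -, -, -, hloc⟩ :=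
    blocks_structure hV hirr
  have hn' : n = d * e * m := Nat.pow_right_injective hr.out.two_le (hn.symm.trans hVcard)
  have hp6 : p ^ 6 < 2 ^ (d * e * m) := by
    rw [← hn']
    calc p ^ 6 = (p ^ 3) ^ 2 := by ring
      _ < (2 ^ N) ^ 2 := Nat.pow_lt_pow_left hpN two_ne_zero
      _ ≤ 2 ^ n := by rw [← pow_mul]; exact Nat.pow_le_pow_right (by norm_num) (by omega)
  have hpH : p ∣ Nat.card H := hX ▸ Subgroup.card_subgroup_dvd_card X
  rcases hloc p hp.out hpH with hpm | hcase
  · exact le_trans (hpm.trans horb) (le_trans (Nat.le_add_left o k) (Nat.le_mul_of_pos_left _ (by norm_num)))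
  set τ := e' * e' * gb e' with hτ
  have hh : Nat.card H = Nat.card A * (A.relIndex K * K.index) := by
    rw [Subgroup.relIndex_mul_index hAK, Subgroup.card_mul_index]
  have hkp := pairs_le A K hAK hcen
  rw [← hk, hh] at hkp
  have hop : Nat.card V - 1 ≤ o * (Nat.card A * (A.relIndex K * K.index)) := by
    rw [← hh, Nat.sub_le_iff_le_add]
    exact orb_mul_ge
  have h1 := amgm le_rfl hkp hop Nat.card_pos
  have hq : 0 < A.relIndex K := Nat.pos_of_mul_pos_right (Nat.pos_of_ne_zero fun h => by
    rw [h, mul_zero] at hh; exact Nat.card_pos.ne' hh)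
  have hqτ : A.relIndex K ≤ τ ^ m := hrel.trans (Nat.pow_le_pow_left (by
    rw [hτ, mul_comm (e' * e')]; exact Nat.mul_le_mul_right _ hj) m)
  rw [hVcard] at h1
  refine general_arith hbig hr.out.two_le hm0 hd0 he'0 hee hp6 hcase ?_
  set q := A.relIndex K
  set P := r ^ (d * e * m) - 1
  set Y := k + o
  have h4 : 4 * P ≤ Y * Y * (q * (K.index * K.index)) := by
    refine Nat.le_of_mul_le_mul_left (?_ : q * _ ≤ q * _) hq
    calc q * (4 * P) ≤ 4 * (3 * q - 2) * P := by
          rw [← mul_assoc, mul_comm q 4]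
          exact Nat.mul_le_mul_right _ (Nat.mul_le_mul_left _ (by omega))
      _ ≤ _ := h1
      _ = _ := by ring
  calc 36 * P = 9 * (4 * P) := by ring
    _ ≤ 9 * (Y * Y * (τ ^ m * ((ob m * d ^ m) * (ob m * d ^ m)))) :=
        Nat.mul_le_mul_left _ (h4.trans (Nat.mul_le_mul_left _ (Nat.mul_le_mul hqτ (Nat.mul_le_mul hKidx hKidx))))
    _ ≤ 9 * (Y * Y * (9 ^ (m - 1) * (d * d * τ) ^ m)) :=
        Nat.mul_le_mul_left _ (Nat.mul_le_mul_left _ (middle_sq m d τ))
    _ = Y * Y * (9 * (d * d * τ)) ^ m := by
        obtain ⟨v, rfl⟩ : ∃ v, m = v + 1 := ⟨m - 1, by omega⟩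
        rw [Nat.add_sub_cancel, mul_pow 9]
        ring

set_option maxHeartbeats 1000000 in
/-- The induction. -/
theorem fitting_bound {p : ℕ} [hp : Fact p.Prime] : ∀ (c : ℕ) (G : Type) [Group G] [Finite G],
    Group.IsSolvable G → Nat.card G = c → p ∣ (Cfsg.fittingSubgroup G).index →
      p ≤ Nat.card (ConjClasses G) * Nat.log 2 (p ^ 3) := by
  intro c
  induction c using Nat.strong_induction_on with
  | _ c ih =>
  intro G _ _ hsolv hc hdvd
  classical
  by_contra hcon
  haveI hFn := fittingSubgroup_normal' G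
  haveI : Nontrivial G := not_subsingleton_iff_nontrivial.1 fun hs => by
    rw [Subsingleton.elim (Cfsg.fittingSubgroup G) ⊤, Subgroup.index_top, Nat.dvd_one] at hdvd
    exact hp.out.ne_one hdvd
  obtain ⟨N, hN, -⟩ := exists_isMinNormal (N := (⊤ : Subgroup G)) inferInstance top_ne_bot
  haveI := hN.1
  obtain ⟨hNc, r, hr, hNr, hNrg⟩ := minimal_solvable_elementary hN inferInstance
  haveI := Fact.mk hr
  haveI := hNc
  haveI hNnt : Nontrivial N := (Subgroup.nontrivial_iff_ne_bot N).2 hN.2.1
  haveI : Nontrivial (Additive N) := inferInstance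
  set Fb := Cfsg.fittingSubgroup (G ⧸ N) with hFb
  haveI := fittingSubgroup_normal' (G ⧸ N)
  have hFbidx : ¬ p ∣ Fb.index := fun h => by
    have hlt : Nat.card (G ⧸ N) < c := by
      rw [← hc, ← Subgroup.card_mul_index N]
      exact lt_mul_of_one_lt_left (Nat.pos_of_ne_zero Subgroup.index_ne_zero_of_finite) Finite.one_lt_card
    exact hcon ((ih _ hlt (G ⧸ N) inferInstance rfl h).trans
      (Nat.mul_le_mul_right _ (card_classes_le_of_surjective _ (QuotientGroup.mk'_surjective N))))
  letI := conjQuot N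
  have hsum := card_classes_quotient_add_le N (V := Additive N) (fun v => ((Additive.toMul v : N) : G))
    (fun v => (Additive.toMul v).2) (fun a b h => Additive.toMul.injective (Subtype.ext h)) rfl fun g v => rfl
  let μ : G ⧸ N →* (AddMonoid.End (Additive N))ˣ :=
    (DistribMulAction.toAddMonoidEnd (G ⧸ N) (Additive N)).toHomUnits
  haveI : Group.IsSolvable μ.range := Group.isSolvable_of_surjective μ.rangeRestrict_surjective
  have hV : ∀ x : Additive N, r • x = 0 := fun x =>
    congrArg Additive.ofMul (Subtype.ext (hNr _ (Additive.toMul x).2) : (Additive.toMul x) ^ r = 1)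
  have hirr : Irreducible' μ.range (Additive N) := by
    intro W hW
    let K : Subgroup G := (AddSubgroup.toSubgroup' W).map N.subtype
    have hKn : K.Normal := ⟨by
      rintro _ ⟨x, hx, rfl⟩ g
      exact ⟨_, hW ⟨μ (g : G ⧸ N), _, rfl⟩ (Additive.ofMul x) hx, rfl⟩⟩
    rcases hN.2.2 K hKn (Subgroup.map_subtype_le _) with h | h
    · refine Or.inl (eq_bot_iff.2 fun x hx => AddSubgroup.mem_bot.2 ?_)
      have : ((Additive.toMul x : N) : G) ∈ K := ⟨_, hx, rfl⟩
      rw [h, Subgroup.mem_bot] at this
      exact Additive.toMul.injective (Subtype.ext this)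
    · refine Or.inr (eq_top_iff.2 fun x _ => ?_)
      obtain ⟨y, hy, hyx⟩ := (h.symm ▸ (Additive.toMul x).2 : ((Additive.toMul x : N) : G) ∈ K)
      rwa [show x = Additive.ofMul y from Additive.toMul.injective (Subtype.ext hyx.symm)]
  have hk := card_classes_le_of_surjective μ.rangeRestrict μ.rangeRestrict_surjective
  have ho : orb μ.range (Additive N) ≤ orb (G ⧸ N) (Additive N) := by
    have he : ∀ v : Additive N, orbit μ.range v = orbit (G ⧸ N) v := fun v => by
      ext w
      constructor
      · rintro ⟨⟨_, a, rfl⟩, rfl⟩; exact ⟨a, rfl⟩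
      · rintro ⟨a, rfl⟩; exact ⟨⟨_, a, rfl⟩, rfl⟩
    simp only [orb, he, le_refl]
  have hle : Nat.card (ConjClasses μ.range) + orb μ.range (Additive N) ≤ Nat.card (ConjClasses G) :=
    (Nat.add_le_add hk ho).trans hsum
  -- the prime divides the group induced
  set π := QuotientGroup.mk' N
  have hpH : p ∣ Nat.card μ.range := by
    by_contra hnot
    set E := Fb.comap π
    set K := (μ.comp π).ker
    have hKidx : ¬ p ∣ K.index := by
      rw [Subgroup.index_ker, MonoidHom.range_comp, MonoidHom.range_eq_top.2 (QuotientGroup.mk'_surjective N),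
        ← MonoidHom.range_eq_map]
      exact hnot
    haveI : K.Normal := MonoidHom.normal_ker _
    haveI : E.Normal := Subgroup.Normal.comap inferInstance π
    haveI : Group.IsNilpotent Fb := fittingSubgroup_isNilpotent (G ⧸ N)
    let f : (E ⊓ K : Subgroup G) →* Fb :=
      { toFun := fun x => ⟨π x, x.2.1⟩, map_one' := Subtype.ext (map_one π),
        map_mul' := fun x y => Subtype.ext (map_mul π _ _) }
    have hf : f.ker ≤ Subgroup.center _ := fun z hz => Subgroup.mem_center_iff.2 fun y => Subtype.ext (by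
      have hzN : (z : G) ∈ N := (QuotientGroup.eq_one_iff _).1 (congrArg Subtype.val (MonoidHom.mem_ker.1 hz))
      have h : (y : G) * z * (y : G)⁻¹ = z := congrArg (fun w : (AddMonoid.End (Additive N))ˣ =>
        ((Additive.toMul ((w : AddMonoid.End (Additive N)) (Additive.ofMul (⟨z, hzN⟩ : N))) : N) : G))
        (MonoidHom.mem_ker.1 y.2.2)
      show (y : G) * z = z * y
      exact mul_inv_eq_iff_eq_mul.1 h)
    haveI := Subgroup.isNilpotent_of_ker_le_center f hf
    have hleF : E ⊓ K ≤ Cfsg.fittingSubgroup G := le_fittingSubgroup' inferInstance inferInstance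
    have h1 := hdvd.trans (Subgroup.index_dvd_of_le hleF)
    rw [← Subgroup.relIndex_mul_index (inf_le_left : E ⊓ K ≤ E), hp.out.dvd_mul] at h1
    rcases h1 with h1 | h1
    · rw [Subgroup.inf_relIndex_left] at h1
      exact hKidx (h1.trans (Subgroup.relIndex_dvd_index_of_normal K E))
    · rw [Subgroup.index_comap_of_surjective Fb (QuotientGroup.mk'_surjective N)] at h1
      exact hFbidx h1
  rcases em (p ^ 2 ∣ Nat.card μ.range) with h2 | h2
  · have h := class_bound (p := p) _ μ.range inferInstance rfl h2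
    refine hcon ?_
    have hL : 3 ≤ Nat.log 2 (p ^ 3) :=
      Nat.le_log_of_pow_le (by norm_num) (Nat.pow_le_pow_left hp.out.two_le 3)
    have h' := Nat.mul_le_mul_left (Nat.card (ConjClasses G)) hL
    omega
  -- a normal subgroup of prime order
  set F := Cfsg.fittingSubgroup μ.range
  haveI := fittingSubgroup_normal' μ.range
  haveI : Group.IsNilpotent F := fittingSubgroup_isNilpotent _
  have hFidx : ¬ p ∣ F.index := fun h => hFbidx (h.trans ((Subgroup.index_dvd_of_le
    (map_fittingSubgroup_le μ.rangeRestrict μ.rangeRestrict_surjective)).trans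
      (Subgroup.index_map_dvd _ μ.rangeRestrict_surjective)))
  have hpF : p ∣ Nat.card F := by
    have h := hpH
    rw [← Subgroup.card_mul_index F, hp.out.dvd_mul] at h
    exact h.resolve_right hFidx
  obtain ⟨P⟩ : Nonempty (Sylow p F) := inferInstance
  have htfae : Group.IsNilpotent F ↔ ∀ (q : ℕ) (_hq : Fact q.Prime) (Q : Sylow q F), (Q : Subgroup F).Normal :=
    (Group.isNilpotent_of_finite_tfae (G := F)).out 0 3
  haveI : (P : Subgroup F).Normal := htfae.1 inferInstance p hp P
  haveI : (P : Subgroup F).Characteristic := Sylow.characteristic_of_normal P inferInstance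
  set X := (P : Subgroup F).map F.subtype
  haveI : X.Normal := inferInstance
  have hXg : IsPGroup p X := P.isPGroup'.map _
  obtain ⟨i, hi⟩ := hXg.exists_card_eq
  have hX : Nat.card X = p := by
    have h1 : p ∣ Nat.card X := by
      rw [Nat.card_congr (Subgroup.equivMapOfInjective _ _ F.subtype_injective).toEquiv.symm]
      exact P.dvd_card_of_dvd_card hpF
    have hdX : Nat.card X ∣ Nat.card μ.range := Subgroup.card_subgroup_dvd_card X
    rw [hi] at h1 hdX ⊢
    rcases i with _ | _ | i
    · simp at h1; exact absurd h1 hp.out.ne_one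
    · exact pow_one p
    · exact absurd ((pow_dvd_pow p (by omega)).trans hdX) h2
  have hrp : r ≠ p := by
    rintro rfl
    have hdiv : r ∣ Nat.card (Additive N) := by
      obtain ⟨t, ht⟩ := hNrg.exists_card_eq
      rw [show Nat.card (Additive N) = Nat.card N from rfl, ht]
      exact dvd_pow_self r fun h => hN.2.1 (Subgroup.eq_bot_of_card_eq N (by rw [ht, h, pow_zero]))
    obtain ⟨v, hv, hv0⟩ := hXg.exists_fixed_point_of_prime_dvd_card_of_fixed_point (Additive N) hdiv
      (a := (0 : Additive N)) (fun g => smul_zero g)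
    let W : AddSubgroup (Additive N) :=
      { carrier := {w | ∀ x ∈ X, x • w = w}
        zero_mem' := fun x _ => smul_zero x
        add_mem' := fun {a b} ha hb x hx => by rw [smul_add, ha x hx, hb x hx]
        neg_mem' := fun {a} ha x hx => by rw [smul_neg, ha x hx] }
    have hWi : ∀ g : μ.range, ∀ w ∈ W, g • w ∈ W := fun g w hw x hx => by
      have h := hw (g⁻¹ * x * g) (by simpa using (inferInstance : X.Normal).conj_mem x hx g⁻¹)
      rw [mul_smul, mul_smul, inv_smul_eq_iff] at h
      exact h
    rcases hirr W hWi with h | h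
    · exact hv0 (AddSubgroup.mem_bot.1 (h ▸ (fun x hx => hv ⟨x, hx⟩ : v ∈ W))).symm
    · have hbot : X = ⊥ := (Subgroup.eq_bot_iff_forall X).2 fun x hx => eq_of_smul_eq_smul fun w : Additive N => by
        rw [one_smul]
        exact (h ▸ AddSubgroup.mem_top w : w ∈ W) x hx
      rw [hbot, Subgroup.card_bot] at hX
      exact hp.out.ne_one hX.symm
  exact hcon ((rank_one hrp hV hirr X hX).trans (Nat.mul_le_mul_right _ hle))

end Cfsg.Lib.Solv.ClassLower
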