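import Cfsg.Agent.Lib.Solv.ClassLower.Blocks
import Cfsg.Agent.Lib.Solv.ClassLower.Arith

/-!
# Classes plus orbits of an irreducible solvable linear group
-/

set_option autoImplicit false
set_option linter.style.haveILetI false

namespace Cfsg.Lib.Solv.ClassLower

open Cfsg.Lib.Solv.ClassCount Cfsg.Lib.OddBase Cfsg.Lib.CoprimeBase MulAction

theorem six_le_gb {e : ℕ} (h : 2 ≤ e) : 6 ≤ gb e := by
  rcases Nat.lt_or_ge e 8 with h8 | h8
  · interval_cases e <;> simp [gb]
  rw [gb, if_neg (by omega), Nat.le_div_iff_mul_le (by norm_num)]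
  exact le_trans (by norm_num) (Nat.pow_le_pow_left h8 6)

set_option maxHeartbeats 1000000 in
/-- Classes and nonzero orbits of an irreducible solvable group of dimension at least two. -/
theorem classes_add_orb_ge {H V : Type} [Group H] [Finite H] [Group.IsSolvable H] [AddCommGroup V] [Finite V]
    [DistribMulAction H V] [FaithfulSMul H V] {p : ℕ} [hp : Fact p.Prime] (hV : ∀ x : V, p • x = 0)
    (hirr : Irreducible' H V) (hbig : p ^ 2 ≤ Nat.card V) :
    49 * p ≤ 60 * (Nat.card (ConjClasses H) + orb H V) := by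
  classical
  have hp2 := hp.out.two_le
  haveI : Nontrivial V := Finite.one_lt_card_iff_nontrivial.1
    (lt_of_lt_of_le (Nat.one_lt_pow (by norm_num) hp2) hbig)
  obtain ⟨m, d, e, e', j, A, K, hAK, hcen, hm0, hd0, he0, he'0, hee, hj, hVcard, hKidx, hrel, h3, horb, h4, h13, h6, -⟩ :=
    blocks_structure hV hirr
  have hO := orb_mul_ge (A := H) (V := V)
  have hsmall := card_le_of_classes (G := H)
  have hk0 : 0 < Nat.card (ConjClasses H) := Nat.card_pos
  generalize hk : Nat.card (ConjClasses H) = k at hsmall hk0 h4 ⊢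
  generalize ho : orb H V = o at hO horb h13 ⊢
  rcases le_or_gt p 10 with hple | hple
  · obtain ⟨h1, h2, h3', h4', -⟩ := hsmall
    exact small_prime hp.out hple hk0 (hm0.trans_le horb) h1 h2 h3' h4' hbig hO
  have hp11 : 11 ≤ p := hple
  have hP := hp.out
  set a := Nat.card A with hadef
  set q := A.relIndex K with hqdef
  set s := K.index with hsdef
  have hh : Nat.card H = a * (q * s) := by
    rw [hqdef, hsdef, Subgroup.relIndex_mul_index hAK, hadef, Subgroup.card_mul_index]
  have ha : 0 < a := Nat.card_pos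
  have hqs : 0 < q * s := Nat.pos_of_ne_zero fun h => by
    rw [h, mul_zero] at hh
    exact Nat.card_pos.ne' hh
  have hq : 0 < q := Nat.pos_of_mul_pos_right hqs
  have hs : 0 < s := Nat.pos_of_mul_pos_left hqs
  have hkp := pairs_le A K hAK hcen
  rw [hk, hh] at hkp
  set n := d * e * m with hn
  have hn2 : 2 ≤ n := (Nat.pow_le_pow_iff_right hp2).1 (hVcard ▸ hbig)
  have hop : p ^ n - 1 ≤ o * (a * (q * s)) := by
    rw [← hVcard, ← hh]
    omega
  rcases Nat.lt_or_ge e' 2 with he' | he'
  · obtain rfl : e' = 1 := by omega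
    have hj1 : j ≤ 1 := hj
    have hqQ : q ≤ 1 := hrel.trans ((Nat.pow_le_pow_left (Nat.mul_le_mul_right _ hj1) m).trans (by simp))
    exact bound_of_amgm hkp hop ha hq hs hqQ hKidx
      (trivial_middle hp11 hm0 hd0 hn2 ⟨e, by rw [hn]; ring⟩)
  set τ := e' * e' * gb e' with hτ
  have hqτ : q ≤ τ ^ m := hrel.trans (Nat.pow_le_pow_left (by
    rw [hτ, mul_comm (e' * e')]; exact Nat.mul_le_mul_right _ hj) m)
  have hτ24 : 24 ≤ τ := Nat.mul_le_mul (Nat.mul_le_mul he' he') (six_le_gb he')
  have hQ24 : 24 ≤ τ ^ m := hτ24.trans (Nat.le_self_pow (by omega) τ)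
  have hfin : 9 ^ (m - 1) * (d * d * τ) ^ m * (p * p) + 17 ≤ 17 * p ^ n → 49 * p ≤ 60 * (k + o) := fun h =>
    bound_of_amgm hkp hop ha hq hs hqτ hKidx (middle_form hQ24
      (le_trans (Nat.add_le_add_right (Nat.mul_le_mul_right _ (middle_sq m d τ)) 17) h))
  by_cases hex : ¬ (d = 1 ∧ e = e' ∧ e' ≤ 3)
  · have hD : 2 ≤ d * e := le_trans (he'.trans hee) (Nat.le_mul_of_pos_left e hd0)
    obtain ⟨c1, c2⟩ := middle_regular' hp11 hD (middle_regular hd0 he' hee hex)
    exact hfin (middle_induction c1 c2 m hm0)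
  push Not at hex
  obtain ⟨rfl, rfl, he3⟩ := hex
  rcases eq_or_lt_of_le he3 with rfl | he3
  · have hdiv := h3 rfl
    have hp13 : 13 ≤ p := by
      rw [pow_one] at hdiv
      by_contra hlt
      interval_cases p
      · omega
      · exact absurd hP (by norm_num)
    obtain ⟨c1, c2⟩ := middle_three hp13
    have e216 : τ = 216 := by rw [hτ]; rfl
    refine hfin ?_
    rw [e216, hn]
    exact middle_induction c1 c2 m hm0
  obtain rfl : e = 2 := by omega
  have e24 : τ = 24 := by rw [hτ]; rfl
  rw [e24] at hqτ hQ24 hfin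
  simp only [one_mul] at hfin hn
  have hob : s ≤ ob m := hKidx.trans (by simp)
  rcases eq_or_lt_of_le (show 1 ≤ m from hm0) with rfl | hm2
  · have hn' : n = 2 := by rw [hn]
    rw [hn'] at hop
    have hj6 := Nat.le_of_dvd (by norm_num) (h6 rfl)
    rcases eq_or_ne j 6 with rfl | hj6'
    · obtain ⟨z, ⟨j', hj'⟩, hH, hkz⟩ := h4 rfl rfl rfl rfl
      rw [← hh, hH] at hop
      refine le_trans (six_arith hp11 hj' ?_ ?_) (Nat.mul_le_mul_left 60 (Nat.add_le_add_right hkz o))
      · rcases Nat.eq_zero_or_pos j' with h0 | h0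
        · rw [h0, mul_zero] at hj'; omega
        · exact h0
      · have hz : 0 < z := Nat.pos_of_ne_zero fun h0 => by rw [h0, zero_mul] at hj'; omega
        refine Nat.le_of_mul_le_mul_left (?_ : z * _ ≤ z * _) hz
        rw [← mul_assoc, ← hj']
        calc (p - 1) * (p + 1) = p ^ 2 - 1 := by rw [mul_comm, sq, ← Nat.mul_self_sub_mul_self_eq p 1, one_mul]
          _ ≤ o * (24 * z) := hop
          _ = _ := by ring
    have hj4 : j ≤ 4 := by
      rcases Nat.lt_or_ge j 5 with h | h
      · omega
      · have := h6 rfl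
        interval_cases j <;> omega
    have hq16 : q ≤ 16 := hrel.trans (by rw [pow_one]; omega)
    refine bound_of_amgm hkp hop ha hq hs hq16 hob ?_
    have h121 := Nat.mul_le_mul hp11 hp11
    rw [sq]
    generalize p * p = pp at h121 ⊢
    simp only [ob]
    norm_num
    omega
  rcases Nat.lt_or_ge 2 m with hm3 | hm3
  swap
  · obtain rfl : m = 2 := by omega
    have hn' : n = 4 := by rw [hn]
    rw [hn'] at hop
    rcases Nat.lt_or_ge p 13 with hp13 | hp13
    · have h11 : p = 11 := by
        by_contra hne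
        obtain rfl : p = 12 := by omega
        exact absurd hP (by norm_num)
      subst h11
      have h := bound_of_amgm (p := 10) hkp hop ha hq hs hqτ hob (by simp [ob])
      omega
    · refine bound_of_amgm hkp hop ha hq hs hqτ hob (middle_form (by norm_num) ?_)
      have h := Nat.mul_le_mul hp13 hp13
      have h' := Nat.mul_le_mul_right (p * p) h
      rw [show p ^ 4 = p * p * (p * p) by ring]
      simp only [ob]
      norm_num at h h' ⊢
      omega
  rcases Nat.lt_or_ge p 17 with hp17 | hp17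
  swap
  · exact hfin (hn ▸ middle_two hp17 m hm3)
  have hp2' : p = 11 ∨ p = 13 := by
    interval_cases p <;> first | omega | (norm_num at hP; done)
  rcases hp2' with rfl | rfl
  · by_contra hlt
    have hk5 : k ≤ 5 := by omega
    have h6le : (11 : ℕ) ^ 6 ≤ 11 ^ n := Nat.pow_le_pow_right (by norm_num) (by omega)
    have hle : o * Nat.card H ≤ 8 * 1806 := Nat.mul_le_mul (by omega) (hsmall.2.2.2.2 hk5)
    rw [← hh] at hop
    norm_num at h6le hle
    omega
  · rcases Nat.lt_or_ge m 4 with hm4 | hm4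
    · obtain rfl : m = 3 := by omega
      have hn' : n = 6 := by rw [hn]
      rw [hn'] at hop
      exact bound_of_amgm hkp hop ha hq hs hqτ hob (by simp [ob])
    · have := h13 hm4 rfl rfl rfl
      omega

end Cfsg.Lib.Solv.ClassLower
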