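import Cfsg.Agent.Lib.Solv.ClassLower.CyclicMax
import Cfsg.Agent.Lib.CoprimeBase.Field

/-!
# The structure of a primitive solvable linear group over a prime field
-/

set_option autoImplicit false
set_option linter.style.haveILetI false
set_option linter.unusedSectionVars false

namespace Cfsg.Lib.Solv.ClassLower

open Cfsg.Lib.Solv.ClassCount Cfsg.Lib.OddBase Cfsg.Lib.CoprimeBase MulAction
open scoped commutatorElement

variable {V : Type} [AddCommGroup V] [Finite V]

/-- The endomorphism given by an element of a group of automorphisms. -/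
def el {A : Subgroup (AddMonoid.End V)ˣ} (a : A) : AddMonoid.End V :=
  ((a : (AddMonoid.End V)ˣ) : AddMonoid.End V)

theorem el_mul {A : Subgroup (AddMonoid.End V)ˣ} (a b : A) : el (a * b) = el a * el b := rfl

theorem el_one {A : Subgroup (AddMonoid.End V)ˣ} : el (1 : A) = 1 := rfl

theorem el_injective {A : Subgroup (AddMonoid.End V)ˣ} : Function.Injective (el (A := A)) := fun _ _ h =>
  Subtype.ext (Units.ext h)

set_option maxHeartbeats 1000000 in
/-- The structure of a primitive solvable group. -/
theorem primitive_structure [Nontrivial V] {p : ℕ} [hp : Fact p.Prime] (hV : ∀ x : V, p • x = 0)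
    (A : Subgroup (AddMonoid.End V)ˣ) [Group.IsSolvable A] (hirr : Irreducible' A V) (himp : ¬ Imprimitive A V) :
    ∃ (M C : Subgroup A) (d e e' j : ℕ), M ≤ C ∧ (∀ m ∈ M, ∀ c ∈ C, m * c = c * m) ∧ 0 < d ∧ 0 < e ∧
      0 < e' ∧ e' ≤ e ∧ Nat.card V = p ^ (d * e) ∧ Nat.card M ∣ p ^ d - 1 ∧ C.index ≤ d ∧ j ≤ gb e' ∧
      Nat.card C = j * (e' * e') * Nat.card M ∧ (e' = 3 → 3 ∣ p ^ d - 1) ∧
      (d = 1 → e' = 2 → j = 6 → 4 * Nat.card M ≤ Nat.card (ConjClasses A)) ∧
      (e' = 2 → j ∣ 6) ∧ ∀ ℓ : ℕ, ℓ.Prime → ℓ ∣ j → ℓ ≤ e' * e' := by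
  classical
  obtain ⟨M, hM⟩ := (Set.toFinite {B : Subgroup A | B.Normal ∧ IsMulCommutative B}).exists_maximal
    ⟨⊥, inferInstance, inferInstance⟩
  obtain ⟨hMn, hMc⟩ := hM.prop
  haveI := hMn
  haveI : IsCyclic M := isCyclic_of_fpf hMc (fpf_of_normal hirr himp hMn hMc)
  obtain ⟨N, e', j, hMN, hNC, hcm, hnd, hNcard, hj, hCcard, h3, h4, h6, hℓ⟩ :=
    centralizer_structure M fun B hB hBc hle => le_antisymm (hM.le_of_ge ⟨hB, hBc⟩ hle) hle
  set C := Subgroup.centralizer (M : Set A) with hC
  -- the field
  let S : Set (AddMonoid.End V) := el '' (M : Set A)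
  let R : Subring (AddMonoid.End V) := Subring.closure S
  have hcS : ∀ x ∈ S, ∀ y ∈ S, x * y = y * x := by
    rintro _ ⟨x, hx, rfl⟩ _ ⟨y, hy, rfl⟩
    exact congrArg el (congrArg Subtype.val (mul_comm' (⟨x, hx⟩ : M) ⟨y, hy⟩))
  haveI := Subring.isMulCommutative_closure hcS
  have hcomm : ∀ x ∈ R, ∀ y ∈ R, x * y = y * x := fun x hx y hy =>
    congrArg Subtype.val (mul_comm' (⟨x, hx⟩ : R) ⟨y, hy⟩)
  have hst0 : ∀ a : A, ∀ r ∈ R, el a * r * el a⁻¹ ∈ R := by
    intro a r hr
    have e1 : el a⁻¹ * el a = 1 := by rw [← el_mul, inv_mul_cancel, el_one]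
    induction hr using Subring.closure_induction with
    | mem x hx =>
      obtain ⟨b, hb, rfl⟩ := hx
      exact Subring.subset_closure ⟨a * b * a⁻¹, hMn.conj_mem b hb a, rfl⟩
    | zero => simp
    | one => rw [mul_one, ← el_mul, mul_inv_cancel, el_one]; exact one_mem _
    | add x y _ _ hx hy => rw [mul_add, add_mul]; exact add_mem hx hy
    | neg x _ hx => rw [mul_neg, neg_mul]; exact neg_mem hx
    | mul x y _ _ hx hy =>
      have e : el a * (x * y) * el a⁻¹ = el a * x * el a⁻¹ * (el a * y * el a⁻¹) := by
        calc el a * (x * y) * el a⁻¹ = el a * x * 1 * y * el a⁻¹ := by rw [mul_one]; simp only [mul_assoc]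
          _ = el a * x * (el a⁻¹ * el a) * y * el a⁻¹ := by rw [e1]
          _ = _ := by simp only [mul_assoc]
      rw [e]; exact mul_mem hx hy
  have hst : ConjStable A R := fun a ha r hr => by
    simpa [el] using hst0 ⟨a, ha⟩ r hr
  haveI : Nontrivial R := ⟨⟨0, 1, fun h => by
    obtain ⟨w, hw⟩ := exists_ne (0 : V)
    exact hw (DFunLike.congr_fun (congrArg Subtype.val h).symm w)⟩⟩
  letI : CommRing R := { (inferInstance : Ring R) with mul_comm := mul_comm' }
  have hfield : IsField R :=
    { exists_pair_ne := exists_pair_ne R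
      mul_comm := mul_comm
      mul_inv_cancel := fun {r} hr => by
        have hu := isUnit_of_stable hirr himp hcomm hst r.2 fun h => hr (Subtype.ext h)
        have hinj : Function.Injective fun x : R => r * x := fun x y h => Subtype.ext
          (hu.mul_left_cancel (congrArg Subtype.val h))
        exact Finite.surjective_of_injective hinj 1 }
  letI : Field R := hfield.toField
  have hCR : ∀ c ∈ C, ∀ r ∈ R, el c * r = r * el c := by
    intro c hc r hr
    induction hr using Subring.closure_induction with
    | mem x hx =>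
      obtain ⟨b, hb, rfl⟩ := hx
      exact congrArg el (Subgroup.mem_centralizer_iff.1 hc b hb).symm
    | zero => simp
    | one => simp
    | add x y _ _ hx hy => rw [mul_add, add_mul, hx, hy]
    | neg x _ hx => rw [mul_neg, neg_mul, hx]
    | mul x y _ _ hx hy => rw [← mul_assoc, hx, mul_assoc, hy, ← mul_assoc]
  -- dimensions
  have hRp : ∀ x : R, p • x = 0 := fun x => Subtype.ext (AddMonoidHom.ext fun w => by
    show (((p • x : R) : AddMonoid.End V)) w = 0
    rw [AddSubmonoidClass.coe_nsmul]
    exact hV _)
  obtain ⟨d, hd⟩ := card_eq_pow (V := R) (p := p) hRp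
  haveI : CharP R p := (CharP.charP_iff_prime_eq_zero hp.out).2 (by
    rw [← nsmul_one]; exact hRp 1)
  letI : Algebra (ZMod p) R := ZMod.algebra R p
  have hd0 : 0 < d := Nat.pos_of_ne_zero fun h => by
    have := Finite.one_lt_card (α := R)
    rw [hd, h, pow_zero] at this
    omega
  have hfr : Module.finrank (ZMod p) R = d := by
    have h := Module.natCard_eq_pow_finrank (K := ZMod p) (V := R)
    rw [hd, Nat.card_zmod] at h
    exact (Nat.pow_right_injective hp.out.two_le h).symm
  have hVe : Nat.card V = p ^ (d * Module.finrank R V) := by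
    rw [Module.natCard_eq_pow_finrank (K := R) (V := V), hd, pow_mul]
  set e := Module.finrank R V with he
  have he0 : 0 < e := Nat.pos_of_ne_zero fun h => by
    have := Finite.one_lt_card (α := V)
    rw [hVe, h, mul_zero, pow_zero] at this
    omega
  have hMdvd : Nat.card M ∣ p ^ d - 1 := by
    let f : M →* R :=
      { toFun := fun m => ⟨el (m : A), Subring.subset_closure ⟨m, m.2, rfl⟩⟩
        map_one' := rfl
        map_mul' := fun _ _ => rfl }
    have h := Subgroup.card_dvd_of_injective f.toHomUnits fun a b hab =>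
      Subtype.ext (el_injective (congrArg (fun u : Rˣ => ((u : R) : AddMonoid.End V)) hab))
    rwa [Nat.card_units, hd] at h
  -- the index of the centraliser
  have hCn : C.Normal := Subgroup.normal_centralizer
  have hindex : C.index ≤ d := by
    let g : A ⧸ C → (R ≃ₐ[ZMod p] R) := fun q =>
      let a := q.out
      AlgEquiv.ofRingEquiv (f :=
        { toFun := fun r => ⟨el a * r * el a⁻¹, hst0 a r r.2⟩
          invFun := fun r => ⟨el a⁻¹ * r * el a, by simpa using hst0 a⁻¹ r r.2⟩
          left_inv := fun r => Subtype.ext (by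
            show el a⁻¹ * (el a * r * el a⁻¹) * el a = r
            rw [← mul_assoc, ← mul_assoc, ← el_mul, inv_mul_cancel, el_one, one_mul, mul_assoc, ← el_mul,
              inv_mul_cancel, el_one, mul_one])
          right_inv := fun r => Subtype.ext (by
            show el a * (el a⁻¹ * r * el a) * el a⁻¹ = r
            rw [← mul_assoc, ← mul_assoc, ← el_mul, mul_inv_cancel, el_one, one_mul, mul_assoc, ← el_mul,
              mul_inv_cancel, el_one, mul_one])
          map_mul' := fun r r' => Subtype.ext (by
            show el a * ((r : AddMonoid.End V) * r') * el a⁻¹ = el a * r * el a⁻¹ * (el a * r' * el a⁻¹)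
            calc el a * ((r : AddMonoid.End V) * r') * el a⁻¹
                = el a * r * el (a⁻¹ * a) * r' * el a⁻¹ := by
                  rw [inv_mul_cancel, el_one, mul_one]; simp only [mul_assoc]
              _ = _ := by rw [el_mul]; simp only [mul_assoc])
          map_add' := fun r r' => Subtype.ext (by
            show el a * ((r : AddMonoid.End V) + r') * el a⁻¹ = el a * r * el a⁻¹ + el a * r' * el a⁻¹
            rw [mul_add, add_mul]) })
        (fun x => by
          obtain ⟨k, rfl⟩ := ZMod.intCast_surjective x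
          rw [map_intCast, map_intCast])
    rw [← hfr, Subgroup.index]
    haveI : FiniteDimensional (ZMod p) R := Module.Finite.of_finite
    refine le_trans (Nat.card_le_card_of_injective g fun q q' hqq => ?_)
      (by rw [Nat.card_eq_fintype_card]; exact AlgEquiv.card_le (F := ZMod p) (K := R))
    rw [← QuotientGroup.out_eq' q, ← QuotientGroup.out_eq' q']
    refine QuotientGroup.eq.2 (Subgroup.mem_centralizer_iff.2 fun m hm => el_injective ?_)
    have h : el q.out * el m * el q.out⁻¹ = el q'.out * el m * el q'.out⁻¹ :=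
      congrArg (fun φ : R ≃ₐ[ZMod p] R => ((φ ⟨el m, Subring.subset_closure ⟨m, hm, rfl⟩⟩ : R) : AddMonoid.End V)) hqq
    simp only [← el_mul] at h
    have h' := el_injective h
    refine congrArg el ?_
    calc m * (q.out⁻¹ * q'.out) = q.out⁻¹ * (q.out * m * q.out⁻¹) * q'.out := by group
      _ = q.out⁻¹ * (q'.out * m * q'.out⁻¹) * q'.out := by rw [h']
      _ = q.out⁻¹ * q'.out * m := by group
  -- independence
  set Mn := M.subgroupOf N
  haveI : Mn.Normal := hMn.subgroupOf _
  haveI := Fintype.ofFinite (N ⧸ Mn)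
  let x : N ⧸ Mn → A := fun q => ((q.out : N) : A)
  have hxC : ∀ q, x q ∈ C := fun q => hNC q.out.2
  have hind : ∀ (s : Finset (N ⧸ Mn)) (a : N ⧸ Mn → R),
      ∑ q ∈ s, (a q : AddMonoid.End V) * el (x q) = 0 → ∀ q ∈ s, a q = 0 := by
    intro s
    induction s using Finset.induction with
    | empty => simp
    | insert q₀ s hq₀ ih =>
      intro a hsum
      let cm : A → N ⧸ Mn → R := fun y q => if h : y ∈ N then
        ⟨el ⁅y, x q⁆, Subring.subset_closure ⟨_, hcm y h _ q.out.2, rfl⟩⟩ else 0
      have hs : ∀ q ∈ s, a q = 0 := by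
        intro q hq
        obtain ⟨y, hy, hne⟩ : ∃ y ∈ N, ⁅y, x q⁆ ≠ ⁅y, x q₀⁆ := by
          by_contra hall
          push Not at hall
          refine hq₀ ?_
          suffices q₀ = q by rwa [this]
          rw [← QuotientGroup.out_eq' q₀, ← QuotientGroup.out_eq' q]
          refine QuotientGroup.eq.2 (hnd _ (mul_mem (inv_mem q₀.out.2) q.out.2) fun y hy => ?_)
          rw [commutatorElement_eq_one_iff_mul_comm]
          have h := hall y hy
          simp only [commutatorElement_def, x] at h
          show ((q₀.out : N) : A)⁻¹ * (q.out : N) * y = y * (((q₀.out : N) : A)⁻¹ * (q.out : N))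
          generalize ((q₀.out : N) : A) = u at h ⊢
          generalize ((q.out : N) : A) = w at h ⊢
          have h' : w * y⁻¹ * w⁻¹ = u * y⁻¹ * u⁻¹ := by
            calc w * y⁻¹ * w⁻¹ = y⁻¹ * (y * w * y⁻¹ * w⁻¹) := by group
              _ = y⁻¹ * (y * u * y⁻¹ * u⁻¹) := by rw [h]
              _ = _ := by group
          have h'' : Commute (u⁻¹ * w) y⁻¹ := by
            calc u⁻¹ * w * y⁻¹ = u⁻¹ * (w * y⁻¹ * w⁻¹) * w := by group
              _ = u⁻¹ * (u * y⁻¹ * u⁻¹) * w := by rw [h']
              _ = y⁻¹ * (u⁻¹ * w) := by group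
          have h3 := h''.inv_right
          rw [inv_inv] at h3
          exact h3.eq
        have hconj : ∀ q', el y * ((a q' : AddMonoid.End V) * el (x q')) * el y⁻¹ =
            ((a q' * cm y q' : R) : AddMonoid.End V) * el (x q') := fun q' => by
          simp only [cm, dif_pos hy]
          calc el y * ((a q' : AddMonoid.End V) * el (x q')) * el y⁻¹
              = (el y * (a q' : AddMonoid.End V)) * el (x q' * y⁻¹) := by rw [el_mul]; simp only [mul_assoc]
            _ = (a q' : AddMonoid.End V) * el (y * (x q' * y⁻¹)) := by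
              rw [hCR y (hNC hy) _ (a q').2, el_mul, el_mul, el_mul]; simp only [mul_assoc]
            _ = (a q' : AddMonoid.End V) * (el ⁅y, x q'⁆ * el (x q')) := by
              rw [← el_mul]; congr 2; rw [commutatorElement_def]; group
            _ = _ := by rw [← mul_assoc]; rfl
        have h0 := ih (fun q' => a q' * cm y q' - cm y q₀ * a q') (by
          have e1 : ∑ q' ∈ insert q₀ s, ((a q' * cm y q' - cm y q₀ * a q' : R) : AddMonoid.End V) * el (x q') = 0 := by
            calc _ = ∑ q' ∈ insert q₀ s, (el y * ((a q' : AddMonoid.End V) * el (x q')) * el y⁻¹ -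
                  (cm y q₀ : AddMonoid.End V) * ((a q' : AddMonoid.End V) * el (x q'))) :=
                Finset.sum_congr rfl fun q' _ => by
                  rw [hconj, ← mul_assoc (cm y q₀ : AddMonoid.End V), ← sub_mul]
                  rfl
              _ = el y * (∑ q' ∈ insert q₀ s, (a q' : AddMonoid.End V) * el (x q')) * el y⁻¹ -
                  (cm y q₀ : AddMonoid.End V) * (∑ q' ∈ insert q₀ s, (a q' : AddMonoid.End V) * el (x q')) := by
                rw [Finset.sum_sub_distrib, Finset.mul_sum, Finset.mul_sum, Finset.sum_mul]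
              _ = 0 := by rw [hsum]; simp
          rw [Finset.sum_insert hq₀] at e1
          have e2 : ((a q₀ * cm y q₀ - cm y q₀ * a q₀ : R) : AddMonoid.End V) = 0 := by
            rw [mul_comm, sub_self]; rfl
          rwa [e2, zero_mul, zero_add] at e1) q hq
        rw [mul_comm (cm y q₀), ← mul_sub, mul_eq_zero] at h0
        refine h0.resolve_right fun h => hne ?_
        simp only [cm, dif_pos hy, sub_eq_zero, Subtype.mk.injEq] at h
        exact el_injective h
      intro q hq
      rcases Finset.mem_insert.1 hq with rfl | hq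
      · rw [Finset.sum_insert hq₀, Finset.sum_eq_zero fun q' hq' => by rw [hs q' hq']; exact zero_mul _,
          add_zero] at hsum
        refine Subtype.ext ?_
        calc (a q : AddMonoid.End V) = (a q : AddMonoid.End V) * el (x q) * el (x q)⁻¹ := by
              rw [mul_assoc, ← el_mul, mul_inv_cancel, el_one, mul_one]
          _ = 0 := by rw [hsum, zero_mul]
      · exact hs q hq
  have hQ : Nat.card (N ⧸ Mn) = e' * e' := by
    have h := Subgroup.card_eq_card_quotient_mul_card_subgroup Mn
    rw [Nat.card_congr (Subgroup.subgroupOfEquivOfLe hMN).toEquiv, hNcard] at h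
    exact (Nat.eq_of_mul_eq_mul_right Nat.card_pos h).symm
  have hee : e' ≤ e := by
    haveI : FiniteDimensional R V := Module.Finite.of_finite
    set b := Module.finBasis R V
    have hlin : ∀ (a : N ⧸ Mn → R) (r : R) (v : V),
        (∑ q, (a q : AddMonoid.End V) * el (x q)) (r • v) = r • (∑ q, (a q : AddMonoid.End V) * el (x q)) v := by
      intro a r v
      show ((∑ q, (a q : AddMonoid.End V) * el (x q)) * (r : AddMonoid.End V)) v =
        ((r : AddMonoid.End V) * ∑ q, (a q : AddMonoid.End V) * el (x q)) v
      rw [Finset.sum_mul, Finset.mul_sum]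
      refine congrArg (fun f : AddMonoid.End V => f v) (Finset.sum_congr rfl fun q _ => ?_)
      rw [mul_assoc, hCR _ (hxC q) _ r.2, ← mul_assoc, hcomm _ (a q).2 _ r.2, mul_assoc]
    have h := Nat.card_le_card_of_injective
      (fun a : N ⧸ Mn → R => fun i : Fin e => (∑ q, (a q : AddMonoid.End V) * el (x q)) (b i)) fun a a' haa => by
        have h0 : ∑ q, ((a - a') q : AddMonoid.End V) * el (x q) = 0 := by
          have e1 : ∀ i, (∑ q, ((a - a') q : AddMonoid.End V) * el (x q)) (b i) = 0 := fun i => by
            have e2 : ∑ q, ((a - a') q : AddMonoid.End V) * el (x q) =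
                ∑ q, (a q : AddMonoid.End V) * el (x q) - ∑ q, (a' q : AddMonoid.End V) * el (x q) := by
              rw [← Finset.sum_sub_distrib]
              exact Finset.sum_congr rfl fun q _ => sub_mul _ _ _
            rw [e2]
            exact sub_eq_zero.2 (congrFun haa i)
          refine DFunLike.ext (F := AddMonoid.End V) _ _ fun v => ?_
          rw [← b.sum_repr v, map_sum]
          show _ = (0 : V)
          exact Finset.sum_eq_zero fun i _ => by rw [hlin, e1, smul_zero]
        exact funext fun q => sub_eq_zero.1 (hind Finset.univ (a - a') h0 q (Finset.mem_univ q))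
    rw [Nat.card_fun, Nat.card_fun, hQ, Nat.card_fin, Module.natCard_eq_pow_finrank (K := R) (V := V), ← he,
      ← pow_mul] at h
    have h' := (Nat.pow_le_pow_iff_right (Finite.one_lt_card (α := R))).1 h
    exact Nat.mul_self_le_mul_self_iff.1 h'
  have he'0 : 0 < e' := Nat.pos_of_ne_zero fun h => by
    have := Nat.card_pos (α := N)
    rw [h, zero_mul, zero_mul] at hNcard
    omega
  refine ⟨M, C, d, e, e', j, hMN.trans hNC, fun m hm c hc => Subgroup.mem_centralizer_iff.1 hc m hm, hd0, he0,
    he'0, hee, hVe, hMdvd, hindex, hj, ?_, fun h => (h3 h).trans hMdvd, fun hd1 he2 hj6 => ?_, h6, hℓ⟩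
  · rw [hCcard, hNcard]; ring
  · have hCtop : C = ⊤ := Subgroup.index_eq_one.1 (by
      have := Subgroup.index_ne_zero_of_finite (H := C)
      omega)
    refine (h4 he2 hj6).trans_eq ?_
    rw [hCtop]
    exact Cfsg.Lib.Solv.ClassCount.card_classes_congr Subgroup.topEquiv

end Cfsg.Lib.Solv.ClassLower
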